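import Mathlib
import Cfsg.Prelude.Def_OddOrderLocal
import Cfsg.Agent.Lib.Helper03.PGroupFrattini
import Cfsg.Agent.Lib.Helper66.AbelAct

/-! Blackburn's reduction: a finite `p`-group `G` is metacyclic as soon as
`G / ℧(G') K₃(G)` is. -/

set_option autoImplicit false

namespace Cfsg.Agent.Lib.Helper68
namespace BB

open Subgroup
open scoped commutatorElement

/-- the subgroup `℧₁(G') [G', G]` (as a normal closure) -/
def nsub (G : Type*) [Group G] (p : ℕ) : Subgroup G :=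
  normalClosure {y : G | ∃ x ∈ commutator G, y = x ^ p} ⊔ ⁅commutator G, (⊤ : Subgroup G)⁆

instance nsub_normal (G : Type*) [Group G] (p : ℕ) : (nsub G p).Normal := by
  unfold nsub
  infer_instance

/-- in a nilpotent group, `H ≤ [H, G]` forces `H = 1` -/
theorem eq_bot_of_le_commutator_top {K : Type*} [Group K] [hK : Group.IsNilpotent K]
    (H : Subgroup K) (h : H ≤ ⁅H, (⊤ : Subgroup K)⁆) : H = ⊥ := by
  have hall : ∀ n : ℕ, H ≤ (⊤ : Subgroup K).lowerCentralSeries n := by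
    intro n
    induction n with
    | zero => exact le_top
    | succ n ih =>
      rw [Subgroup.lowerCentralSeries_succ]
      exact h.trans (commutator_mono ih le_rfl)
  obtain ⟨n, hn⟩ := Subgroup.nilpotent_iff_lowerCentralSeries.mp hK
  rw [eq_bot_iff, ← hn]
  exact hall n

variable {G : Type*} [Group G] [Finite G] {p : ℕ} [hp : Fact p.Prime]

theorem isMetacyclic_of_quotient (hG : IsPGroup p G) (h : Cfsg.IsMetacyclic (G ⧸ nsub G p)) :
    Cfsg.IsMetacyclic G := by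
  have hpp := hp.out
  obtain ⟨Ab, hAbn, hAbc, hQc⟩ := h
  obtain ⟨⟨ab, hab⟩, hgen_ab⟩ := hAbc.exists_generator
  obtain ⟨a, rfl⟩ := QuotientGroup.mk_surjective ab
  obtain ⟨qb, hqb⟩ := hQc.exists_generator
  obtain ⟨b', rfl⟩ := QuotientGroup.mk_surjective qb
  obtain ⟨b, rfl⟩ := QuotientGroup.mk_surjective b'
  obtain ⟨A, hA⟩ : ∃ A : Subgroup G, A = Ab.comap (QuotientGroup.mk' (nsub G p)) := ⟨_, rfl⟩
  have hAn : A.Normal := by rw [hA]; exact hAbn.comap _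
  have hAmem : ∀ u, u ∈ A ↔ (QuotientGroup.mk u : G ⧸ nsub G p) ∈ Ab := by
    intro u; rw [hA]; rfl
  have haA : a ∈ A := (hAmem a).mpr hab
  have hNA : nsub G p ≤ A := by
    intro u hu
    rw [hAmem, (QuotientGroup.eq_one_iff u).mpr hu]
    exact one_mem _
  -- `A = ⟨a⟩ N`
  have hA_le : A ≤ zpowers a ⊔ nsub G p := by
    intro u hu
    have h1 := hgen_ab ⟨(QuotientGroup.mk u : G ⧸ nsub G p), (hAmem u).mp hu⟩
    obtain ⟨z, hz⟩ := mem_zpowers_iff.mp h1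
    have h2 : (QuotientGroup.mk a : G ⧸ nsub G p) ^ z = QuotientGroup.mk u := by
      have := congrArg Subtype.val hz
      simpa using this
    have h3 : (a ^ z)⁻¹ * u ∈ nsub G p := by
      rw [← QuotientGroup.eq_one_iff, QuotientGroup.mk_mul, QuotientGroup.mk_inv,
        QuotientGroup.mk_zpow, h2, inv_mul_cancel]
    have h4 : u = a ^ z * ((a ^ z)⁻¹ * u) := by group
    rw [h4]
    exact mul_mem (mem_sup_left (zpow_mem (mem_zpowers a) z)) (mem_sup_right h3)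
  -- `G = ⟨b⟩ A`
  have hGb : ∀ g : G, ∃ z : ℤ, (b ^ z)⁻¹ * g ∈ A := by
    intro g
    obtain ⟨z, hz⟩ := mem_zpowers_iff.mp (hqb (QuotientGroup.mk (QuotientGroup.mk g)))
    refine ⟨z, ?_⟩
    rw [hAmem, ← QuotientGroup.eq_one_iff, QuotientGroup.mk_mul, QuotientGroup.mk_inv,
      QuotientGroup.mk_zpow, QuotientGroup.mk_mul, QuotientGroup.mk_inv, QuotientGroup.mk_zpow, hz,
      inv_mul_cancel]
  -- `G' ≤ A`
  have hcommA : commutator G ≤ A := by
    rw [_root_.commutator_def, Subgroup.commutator_le]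
    intro x _ y _
    rw [hAmem, ← QuotientGroup.eq_one_iff]
    have hc := @mul_comm _ (IsCyclic.commGroup (α := (G ⧸ nsub G p) ⧸ Ab)).toCommMagma
      (QuotientGroup.mk (QuotientGroup.mk x)) (QuotientGroup.mk (QuotientGroup.mk y))
    have e : ((QuotientGroup.mk (QuotientGroup.mk ⁅x, y⁆ : G ⧸ nsub G p)) : (G ⧸ nsub G p) ⧸ Ab) =
        ⁅(QuotientGroup.mk (QuotientGroup.mk x : G ⧸ nsub G p) : (G ⧸ nsub G p) ⧸ Ab),
          QuotientGroup.mk (QuotientGroup.mk y)⁆ := by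
      rw [commutatorElement_def, commutatorElement_def]
      simp only [QuotientGroup.mk_mul, QuotientGroup.mk_inv]
    rw [e, commutatorElement_eq_one_iff_commute]
    exact hc
  -- the Frattini subgroup of `A`, as a subgroup of `G`
  obtain ⟨ΦA, hΦA⟩ : ∃ ΦA : Subgroup G, ΦA = (frattini ↥A).map A.subtype := ⟨_, rfl⟩
  have hΦAn : ΦA.Normal := by
    rw [hΦA, ← normalizer_eq_top_iff, eq_top_iff]
    refine le_trans ?_ (Cfsg.Agent.Lib.Helper66.normalizer_le_normalizer_map_of_characteristic A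
      (frattini ↥A))
    rw [normalizer_eq_top_iff.mpr hAn]
  have hΦA_le : ΦA ≤ A := by rw [hΦA]; exact map_subtype_le _
  have hAp : IsPGroup p ↥A := hG.to_subgroup A
  have hpowΦ : ∀ u ∈ A, u ^ p ∈ ΦA := by
    intro u hu
    rw [hΦA]
    exact ⟨⟨u, hu⟩ ^ p, Cfsg.Agent.Lib.Helper03.pow_mem_frattini_of_isPGroup hAp ⟨u, hu⟩, rfl⟩
  obtain ⟨A₁, hA₁⟩ : ∃ A₁ : Subgroup G, A₁ = ⁅A, (⊤ : Subgroup G)⁆ ⊔ ΦA := ⟨_, rfl⟩
  obtain ⟨A₂, hA₂⟩ : ∃ A₂ : Subgroup G, A₂ = ⁅A₁, (⊤ : Subgroup G)⁆ ⊔ ΦA := ⟨_, rfl⟩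
  have hA₁n : A₁.Normal := by rw [hA₁]; infer_instance
  have hA₂n : A₂.Normal := by rw [hA₂]; infer_instance
  have hAtop : ⁅A, (⊤ : Subgroup G)⁆ ≤ A := commutator_le_left A ⊤
  have hA₁A : A₁ ≤ A := by rw [hA₁]; exact sup_le hAtop hΦA_le
  have hA₁top : ⁅A₁, (⊤ : Subgroup G)⁆ ≤ A₁ := commutator_le_left A₁ ⊤
  have hΦA₁ : ΦA ≤ A₁ := by rw [hA₁]; exact le_sup_right
  have hΦA₂ : ΦA ≤ A₂ := by rw [hA₂]; exact le_sup_right
  have hA₂A₁ : A₂ ≤ A₁ := by rw [hA₂]; exact sup_le hA₁top hΦA₁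
  -- (1) `G' ≤ A₁`
  have hcommA₁ : commutator G ≤ A₁ := by
    have hcent : ∀ u ∈ A, ∀ g : G, (QuotientGroup.mk u : G ⧸ A₁) * QuotientGroup.mk g =
        QuotientGroup.mk g * QuotientGroup.mk u := by
      intro u hu g
      have h1 : ⁅u, g⁆ ∈ A₁ := by
        rw [hA₁]
        exact mem_sup_left (commutator_mem_commutator hu (mem_top g))
      have h2 : (QuotientGroup.mk ⁅u, g⁆ : G ⧸ A₁) = 1 := (QuotientGroup.eq_one_iff _).mpr h1
      rw [commutatorElement_def] at h2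
      simp only [QuotientGroup.mk_mul, QuotientGroup.mk_inv] at h2
      rw [mul_inv_eq_one, mul_inv_eq_iff_eq_mul] at h2
      exact h2
    have hcentQ : ∀ u ∈ A, ∀ t : G ⧸ A₁, Commute (QuotientGroup.mk u : G ⧸ A₁) t := by
      intro u hu t
      obtain ⟨g, rfl⟩ := QuotientGroup.mk_surjective t
      exact hcent u hu g
    rw [_root_.commutator_def, Subgroup.commutator_le]
    intro x _ y _
    rw [← QuotientGroup.eq_one_iff]
    obtain ⟨z₁, h1⟩ := hGb x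
    obtain ⟨z₂, h2⟩ := hGb y
    obtain ⟨u₁, hu₁⟩ : ∃ u₁ : G, u₁ = (b ^ z₁)⁻¹ * x := ⟨_, rfl⟩
    obtain ⟨u₂, hu₂⟩ : ∃ u₂ : G, u₂ = (b ^ z₂)⁻¹ * y := ⟨_, rfl⟩
    rw [← hu₁] at h1
    rw [← hu₂] at h2
    have ex : x = b ^ z₁ * u₁ := by rw [hu₁]; group
    have ey : y = b ^ z₂ * u₂ := by rw [hu₂]; group
    have hb : Commute ((QuotientGroup.mk b : G ⧸ A₁) ^ z₁) ((QuotientGroup.mk b : G ⧸ A₁) ^ z₂) :=
      (Commute.refl _).zpow_zpow z₁ z₂
    have hcomm : Commute (QuotientGroup.mk x : G ⧸ A₁) (QuotientGroup.mk y) := by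
      rw [ex, ey]
      simp only [QuotientGroup.mk_mul, QuotientGroup.mk_zpow]
      exact ((hb.mul_right (hcentQ _ h2 _).symm)).mul_left (hcentQ _ h1 _)
    rw [commutatorElement_def]
    simp only [QuotientGroup.mk_mul, QuotientGroup.mk_inv]
    rw [hcomm.eq]; group
  -- (2) `N ≤ A₂`
  have hNA₂ : nsub G p ≤ A₂ := by
    unfold nsub
    apply sup_le
    · apply normalClosure_le_normal
      rintro _ ⟨x, hx, rfl⟩
      exact hΦA₂ (hpowΦ x (hcommA hx))
    · rw [hA₂]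
      exact le_trans (commutator_mono hcommA₁ le_rfl) le_sup_left
  -- (3) `A ≤ ⟨a⟩ A₂`
  have hA_le₂ : A ≤ zpowers a ⊔ A₂ := hA_le.trans (sup_le_sup_left hNA₂ _)
  -- the quotient by `ΦA`
  have hQp : IsPGroup p (G ⧸ ΦA) := hG.to_quotient ΦA
  have hQnil : Group.IsNilpotent (G ⧸ ΦA) := hQp.isNilpotent
  have hker : (QuotientGroup.mk' ΦA).ker = ΦA := QuotientGroup.ker_mk' ΦA
  have hmapΦ : ΦA.map (QuotientGroup.mk' ΦA) = ⊥ := by
    rw [Subgroup.map_eq_bot_iff, hker]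
  have hmaptop : (⊤ : Subgroup G).map (QuotientGroup.mk' ΦA) = ⊤ :=
    map_top_of_surjective _ (QuotientGroup.mk'_surjective ΦA)
  have hkey : ∀ B : Subgroup G, B ≤ ⁅B, (⊤ : Subgroup G)⁆ ⊔ ΦA → B ≤ ΦA := by
    intro B hB
    have h1 : B.map (QuotientGroup.mk' ΦA) ≤
        ⁅B.map (QuotientGroup.mk' ΦA), (⊤ : Subgroup (G ⧸ ΦA))⁆ := by
      have := Subgroup.map_mono (f := QuotientGroup.mk' ΦA) hB
      rwa [Subgroup.map_sup, hmapΦ, sup_bot_eq, map_commutator, hmaptop] at this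
    have h2 := eq_bot_of_le_commutator_top _ h1
    rw [Subgroup.map_eq_bot_iff, hker] at h2
    exact h2
  -- (4) `A ≤ ⟨a⟩ ΦA`
  have hfinal : A ≤ zpowers a ⊔ ΦA := by
    by_cases h12 : A₁ ≤ A₂
    · have h1 : A₁ ≤ ΦA := hkey A₁ (by rw [← hA₂]; exact h12)
      have h2 : A₂ ≤ ΦA := by
        rw [hA₂]; exact sup_le (hA₁top.trans h1) le_rfl
      exact hA_le₂.trans (sup_le_sup_left h2 _)
    · have hAA₁ : A ≤ A₁ := by
        obtain ⟨u, hu₁, hu₂⟩ := SetLike.not_le_iff_exists.mp h12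
        have hu : u ∈ zpowers a ⊔ A₂ := hA_le₂ (hA₁A hu₁)
        rw [← SetLike.mem_coe, mul_normal (zpowers a) A₂] at hu
        obtain ⟨v, hv, w, hw, rfl⟩ := Set.mem_mul.mp hu
        obtain ⟨z, rfl⟩ := mem_zpowers_iff.mp hv
        have haz : a ^ z ∈ A₁ := by
          have := A₁.mul_mem hu₁ (A₁.inv_mem (hA₂A₁ hw))
          rwa [mul_inv_cancel_right] at this
        have hzp : ¬ (p : ℤ) ∣ z := by
          rintro ⟨e, rfl⟩
          apply hu₂
          refine A₂.mul_mem (hΦA₂ ?_) hw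
          rw [zpow_mul, zpow_natCast]
          exact ΦA.zpow_mem (hpowΦ a haA) e
        obtain ⟨k, hk⟩ := (IsPGroup.iff_orderOf.mp hG) a
        have hcop : IsCoprime z ((p : ℤ) ^ k) := by
          apply IsCoprime.pow_right
          rw [isCoprime_comm]
          exact (Prime.coprime_iff_not_dvd (Nat.prime_iff_prime_int.mp hpp)).mpr hzp
        obtain ⟨s, t, hst⟩ := hcop
        have ha₁ : a ∈ A₁ := by
          have e : a = (a ^ z) ^ s * (a ^ ((p : ℤ) ^ k)) ^ t := by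
            rw [← zpow_mul, ← zpow_mul, ← zpow_add, mul_comm z s, mul_comm ((p : ℤ) ^ k) t, hst,
              zpow_one]
          have e2 : a ^ ((p : ℤ) ^ k) = 1 := by
            have : ((p : ℤ) ^ k) = ((p ^ k : ℕ) : ℤ) := by push_cast; rfl
            rw [this, zpow_natCast, ← hk, pow_orderOf_eq_one]
          rw [e, e2, one_zpow, mul_one]
          exact A₁.zpow_mem haz s
        exact hA_le₂.trans (sup_le (zpowers_le.mpr ha₁) hA₂A₁)
      have h1 : A ≤ ΦA := hkey A (by rw [← hA₁]; exact hAA₁)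
      exact h1.trans le_sup_right
  -- (5) `A` is cyclic
  have hAcyc : IsCyclic ↥A := by
    rw [isCyclic_iff_exists_zpowers_eq_top]
    refine ⟨⟨a, haA⟩, ?_⟩
    apply frattini_nongenerating
    rw [eq_top_iff]
    intro u _
    have hu : (u : G) ∈ (zpowers (⟨a, haA⟩ : ↥A) ⊔ frattini ↥A).map A.subtype := by
      rw [Subgroup.map_sup, MonoidHom.map_zpowers, ← hΦA]
      exact hfinal u.2
    obtain ⟨v, hv, hvu⟩ := hu
    have : v = u := Subtype.ext hvu
    rwa [this] at hv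
  -- (6) `G / A` is cyclic
  have hQcyc : IsCyclic (G ⧸ A) := by
    rw [isCyclic_iff_exists_zpowers_eq_top]
    refine ⟨QuotientGroup.mk b, ?_⟩
    rw [eq_top_iff]
    intro q _
    obtain ⟨g, rfl⟩ := QuotientGroup.mk_surjective q
    obtain ⟨z, hz⟩ := hGb g
    rw [mem_zpowers_iff]
    refine ⟨z, ?_⟩
    rw [← QuotientGroup.mk_zpow, eq_comm, QuotientGroup.eq]
    have : g⁻¹ * b ^ z = ((b ^ z)⁻¹ * g)⁻¹ := by group
    rw [this]
    exact A.inv_mem hz
  exact ⟨A, hAn, hAcyc, hQcyc⟩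

end BB
end Cfsg.Agent.Lib.Helper68
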