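import Mathlib

/-! General lemmas used for metacyclic `p`-groups: class-size bounds, subgroups of cyclic `p`-groups. -/

namespace Cfsg.Agent.Lib.Helper68
namespace MC

open Subgroup

variable {G : Type*} [Group G]

theorem exists_nat_pow_of_mem_zpowers [Finite G] {x y : G} (hy : y ∈ zpowers x) :
    ∃ k : ℕ, x ^ k = y := by
  rw [← mem_powers_iff_mem_zpowers] at hy
  exact Submonoid.mem_powers_iff _ _ |>.mp hy

theorem mem_centralizer_singleton {x c : G} : c ∈ centralizer ({x} : Set G) ↔ c * x = x * c := by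
  rw [mem_centralizer_iff]
  constructor
  · intro h; exact (h x rfl).symm
  · intro h y hy; rw [Set.mem_singleton_iff.mp hy]; exact h.symm

/-- If all `c x c⁻¹ x⁻¹` (`c ∈ C`) lie in a finite subgroup `D`, then `|C : C_C(x)| ≤ |D|`. -/
theorem relIndex_centralizer_le (C D : Subgroup G) [Finite D] (x : G)
    (h : ∀ c ∈ C, c * x * c⁻¹ * x⁻¹ ∈ D) :
    (centralizer ({x} : Set G)).relIndex C ≤ Nat.card D := by
  classical
  rw [relIndex, index_eq_card]
  let K := (centralizer ({x} : Set G)).subgroupOf C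
  let f : C ⧸ K → D := fun q => ⟨(Quotient.out q : C) * x * (Quotient.out q : C)⁻¹ * x⁻¹,
    h _ (Quotient.out q).2⟩
  refine Nat.card_le_card_of_injective f ?_
  intro q q' hqq
  obtain ⟨⟨c, hc⟩, hcq⟩ : ∃ c : C, c = Quotient.out q := ⟨_, rfl⟩
  obtain ⟨⟨c', hc'⟩, hcq'⟩ : ∃ c : C, c = Quotient.out q' := ⟨_, rfl⟩
  have h1 : c * x * c⁻¹ * x⁻¹ = c' * x * c'⁻¹ * x⁻¹ := by
    have := congrArg Subtype.val hqq
    simp only [f, ← hcq, ← hcq'] at this
    simpa using this
  have h2 : c * x * c⁻¹ = c' * x * c'⁻¹ := mul_right_cancel h1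
  have h3 : (⟨c', hc'⟩ : C)⁻¹ * ⟨c, hc⟩ ∈ K := by
    rw [mem_subgroupOf, mem_centralizer_singleton]
    show c'⁻¹ * c * x = x * (c'⁻¹ * c)
    calc c'⁻¹ * c * x = c'⁻¹ * (c * x * c⁻¹) * c := by group
      _ = c'⁻¹ * (c' * x * c'⁻¹) * c := by rw [h2]
      _ = x * (c'⁻¹ * c) := by group
  have h4 : (QuotientGroup.mk (⟨c', hc'⟩ : C) : C ⧸ K) = QuotientGroup.mk (⟨c, hc⟩ : C) :=
    QuotientGroup.eq.mpr h3
  have e1 : (QuotientGroup.mk (Quotient.out q) : C ⧸ K) = q := Quotient.out_eq' q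
  have e2 : (QuotientGroup.mk (Quotient.out q') : C ⧸ K) = q' := Quotient.out_eq' q'
  rw [← e1, ← e2, ← hcq, ← hcq', h4]

/-- If all `c x c⁻¹ x⁻¹` lie in a finite subgroup `D`, then the class of `x` has at most `|D|` elements. -/
theorem index_centralizer_le (D : Subgroup G) [Finite D] (x : G)
    (h : ∀ c : G, c * x * c⁻¹ * x⁻¹ ∈ D) :
    (centralizer ({x} : Set G)).index ≤ Nat.card D := by
  rw [← relIndex_top_right]
  exact relIndex_centralizer_le ⊤ D x (fun c _ => h c)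

variable {p : ℕ} [hp : Fact p.Prime]

theorem card_zpowers_pow_of_le {x : G} {f s : ℕ} (hx : orderOf x = p ^ f) (hs : s ≤ f) :
    Nat.card (zpowers (x ^ p ^ s)) = p ^ (f - s) := by
  rw [Nat.card_zpowers, orderOf_pow_of_dvd (pow_ne_zero _ hp.out.ne_zero), hx,
    Nat.pow_div hs hp.out.pos]
  rw [hx]; exact pow_dvd_pow _ hs

theorem orderOf_pow_pow_of_le {x : G} {f s : ℕ} (hx : orderOf x = p ^ f) (hs : s ≤ f) :
    orderOf (x ^ p ^ s) = p ^ (f - s) := by
  rw [← Nat.card_zpowers]; exact card_zpowers_pow_of_le hx hs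

/-- subgroups of a cyclic `p`-group `⟨x⟩` are the `⟨x ^ p ^ s⟩`. -/
theorem exists_eq_zpowers_pow [Finite G] {x : G} {f : ℕ} (hx : orderOf x = p ^ f) (H : Subgroup G)
    (hH : H ≤ zpowers x) : ∃ s, s ≤ f ∧ H = zpowers (x ^ p ^ s) := by
  have hcard : Nat.card H ∣ p ^ f := by
    rw [← hx, ← Nat.card_zpowers]
    exact card_dvd_of_le hH
  obtain ⟨c, hcf, hc⟩ := (Nat.dvd_prime_pow hp.out).mp hcard
  refine ⟨f - c, Nat.sub_le _ _, ?_⟩
  have hle : H ≤ zpowers (x ^ p ^ (f - c)) := by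
    intro h hh
    obtain ⟨k, rfl⟩ := exists_nat_pow_of_mem_zpowers (hH hh)
    have h1 : (x ^ k) ^ p ^ c = 1 := by
      have := pow_card_eq_one' (G := H) (x := ⟨x ^ k, hh⟩)
      rw [hc] at this
      exact congrArg Subtype.val this
    rw [← pow_mul, ← orderOf_dvd_iff_pow_eq_one, hx] at h1
    have h2 : p ^ (f - c) ∣ k := by
      have h3 : p ^ (f - c) * p ^ c ∣ k * p ^ c := by
        rw [← pow_add, Nat.sub_add_cancel hcf]; exact h1
      exact Nat.dvd_of_mul_dvd_mul_right (pow_pos hp.out.pos _) h3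
    obtain ⟨w, rfl⟩ := h2
    rw [pow_mul]
    exact pow_mem (mem_zpowers _) _
  refine eq_of_le_of_card_ge hle ?_
  rw [card_zpowers_pow_of_le hx (Nat.sub_le _ _), hc]
  have : f - (f - c) = c := by omega
  rw [this]

/-- in a cyclic `p`-group, a subgroup of relative index at most `p ^ q` contains `x ^ p ^ q`. -/
theorem pow_mem_of_relIndex_le [Finite G] {x : G} {f : ℕ} (hx : orderOf x = p ^ f) (T : Subgroup G)
    {q : ℕ} (h : T.relIndex (zpowers x) ≤ p ^ q) : x ^ p ^ q ∈ T := by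
  obtain ⟨s, hsf, hs⟩ := exists_eq_zpowers_pow hx (T ⊓ zpowers x) inf_le_right
  have h1 : T.relIndex (zpowers x) = p ^ s := by
    have h2 := relIndex_mul_relIndex (H := ⊥) (K := T ⊓ zpowers x) (L := zpowers x) bot_le
      inf_le_right
    rw [relIndex_bot_left, relIndex_bot_left, inf_relIndex_right, hs,
      card_zpowers_pow_of_le hx hsf, Nat.card_zpowers, hx] at h2
    have h3 : p ^ f = p ^ (f - s) * p ^ s := by rw [← pow_add]; congr 1; omega
    rw [h3] at h2
    exact Nat.eq_of_mul_eq_mul_left (pow_pos hp.out.pos _) h2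
  rw [h1] at h
  have hsq : s ≤ q := (Nat.pow_le_pow_iff_right hp.out.one_lt).mp h
  have h4 : x ^ p ^ s ∈ T := by
    have : x ^ p ^ s ∈ T ⊓ zpowers x := by rw [hs]; exact mem_zpowers _
    exact this.1
  have : x ^ p ^ q = (x ^ p ^ s) ^ p ^ (q - s) := by
    rw [← pow_mul, ← pow_add]; congr 2; omega
  rw [this]
  exact pow_mem h4 _

end MC
end Cfsg.Agent.Lib.Helper68
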