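import Mathlib

/-! Number theory for metacyclic `p`-groups (`p` odd): geometric sums and their `p`-adic valuation. -/

namespace Cfsg.Agent.Lib.Helper68

/-- the geometric sum `1 + R + ... + R^(t-1)` -/
def gs (R t : ℕ) : ℕ := ∑ l ∈ Finset.range t, R ^ l

theorem gs_zero (R : ℕ) : gs R 0 = 0 := by simp [gs]

theorem gs_succ (R t : ℕ) : gs R (t + 1) = gs R t + R ^ t := by
  simp [gs, Finset.sum_range_succ]

theorem gs_one (t : ℕ) : gs 1 t = t := by simp [gs]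

theorem gs_mul_pred {R : ℕ} (hR : 1 ≤ R) (t : ℕ) : gs R t * (R - 1) = R ^ t - 1 :=
  geom_sum_mul_of_one_le hR t

theorem gs_ne_zero {R t : ℕ} (hR : 1 ≤ R) (ht : t ≠ 0) : gs R t ≠ 0 := by
  obtain ⟨u, rfl⟩ := Nat.exists_eq_succ_of_ne_zero ht
  rw [gs_succ]
  have : 0 < R ^ u := Nat.pow_pos (by omega)
  omega

theorem pow_sub_one_eq (R t : ℕ) (hR : 1 ≤ R) : R ^ t - 1 = gs R t * (R - 1) :=
  (gs_mul_pred hR t).symm

variable {p : ℕ} [hp : Fact p.Prime]

theorem padicValNat_gs (hodd : Odd p) {R : ℕ} (hR : 1 ≤ R) (hRp : p ∣ R - 1) {t : ℕ} (ht : t ≠ 0) :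
    padicValNat p (gs R t) = padicValNat p t := by
  rcases Nat.eq_or_lt_of_le hR with h1 | h1
  · rw [← h1, gs_one]
  · have hnd : ¬ p ∣ R := by
      intro h
      have : p ∣ 1 := by
        have h2 : p ∣ R - (R - 1) := Nat.dvd_sub h hRp
        have : R - (R - 1) = 1 := by omega
        rwa [this] at h2
      exact hp.out.one_lt.ne' (Nat.dvd_one.mp this)
    have hlte := padicValNat.pow_sub_pow hodd h1 hRp hnd ht
    rw [one_pow, ← gs_mul_pred hR t, padicValNat.mul (gs_ne_zero hR ht) (by omega)] at hlte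
    omega

/-- the key divisibility transfer: `gs R t` and `t` have the same `p`-part. -/
theorem pow_dvd_mul_gs_iff (hodd : Odd p) {R : ℕ} (hR : 1 ≤ R) (hRp : p ∣ R - 1) (c i t : ℕ) :
    p ^ c ∣ i * gs R t ↔ p ^ c ∣ i * t := by
  rcases Nat.eq_zero_or_pos t with rfl | htpos
  · simp [gs_zero]
  rcases Nat.eq_zero_or_pos i with rfl | hipos
  · simp
  have ht : t ≠ 0 := htpos.ne'
  have hi : i ≠ 0 := hipos.ne'
  have hg : gs R t ≠ 0 := gs_ne_zero hR ht
  rw [padicValNat_dvd_iff_le (mul_ne_zero hi hg), padicValNat_dvd_iff_le (mul_ne_zero hi ht),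
    padicValNat.mul hi hg, padicValNat.mul hi ht, padicValNat_gs hodd hR hRp ht]

theorem pow_dvd_gs_iff (hodd : Odd p) {R : ℕ} (hR : 1 ≤ R) (hRp : p ∣ R - 1) (c t : ℕ) :
    p ^ c ∣ gs R t ↔ p ^ c ∣ t := by
  have := pow_dvd_mul_gs_iff (p := p) hodd hR hRp c 1 t
  simpa using this

omit hp in
theorem dvd_pow_sub_one {r : ℕ} (hrp : p ∣ r - 1) (hr : 1 ≤ r) (j : ℕ) : p ∣ r ^ j - 1 := by
  rw [pow_sub_one_eq r j hr]
  exact Dvd.dvd.mul_left hrp _

end Cfsg.Agent.Lib.Helper68
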