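import Mathlib
import Cfsg.Agent.Lib.Helper68.MetaNT

/-! Explicit model of metacyclic `p`-groups: `G = ⟨a⟩⟨b⟩`, `b a b⁻¹ = a ^ r`. -/

namespace Cfsg.Agent.Lib.Helper68
namespace MC

section Basic
variable {G : Type*} [Group G] {a b : G} {r : ℕ}

theorem conj_pow_pow (h : b * a * b⁻¹ = a ^ r) (j i : ℕ) :
    b ^ j * a ^ i * (b ^ j)⁻¹ = a ^ (i * r ^ j) := by
  induction j with
  | zero => simp
  | succ j ih =>
    have h1 : b ^ (j + 1) * a ^ i * (b ^ (j + 1))⁻¹ = b * (b ^ j * a ^ i * (b ^ j)⁻¹) * b⁻¹ := by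
      rw [pow_succ']; group
    rw [h1, ih, ← conj_pow, h, ← pow_mul]
    congr 1
    ring

theorem pow_mul_pow_comm (h : b * a * b⁻¹ = a ^ r) (j i : ℕ) :
    b ^ j * a ^ i = a ^ (i * r ^ j) * b ^ j := by
  rw [← conj_pow_pow h j i]; group

theorem mul_formula (h : b * a * b⁻¹ = a ^ r) (i j i' j' : ℕ) :
    (a ^ i * b ^ j) * (a ^ i' * b ^ j') = a ^ (i + i' * r ^ j) * b ^ (j + j') := by
  calc (a ^ i * b ^ j) * (a ^ i' * b ^ j') = a ^ i * (b ^ j * a ^ i') * b ^ j' := by group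
    _ = a ^ i * (a ^ (i' * r ^ j) * b ^ j) * b ^ j' := by rw [pow_mul_pow_comm h]
    _ = a ^ (i + i' * r ^ j) * b ^ (j + j') := by rw [pow_add, pow_add]; group

theorem pow_formula (h : b * a * b⁻¹ = a ^ r) (i j t : ℕ) :
    (a ^ i * b ^ j) ^ t = a ^ (i * gs (r ^ j) t) * b ^ (j * t) := by
  induction t with
  | zero => simp [gs_zero]
  | succ t ih =>
    rw [pow_succ, ih, mul_formula h, gs_succ, ← pow_mul]
    congr 2
    ring

theorem commute_iff (h : b * a * b⁻¹ = a ^ r) (hr : 1 ≤ r) (i j i' j' : ℕ) :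
    Commute (a ^ i * b ^ j) (a ^ i' * b ^ j') ↔
      a ^ (i' * (r ^ j - 1)) = a ^ (i * (r ^ j' - 1)) := by
  have h1 : 1 ≤ r ^ j := Nat.one_le_pow _ _ hr
  have h2 : 1 ≤ r ^ j' := Nat.one_le_pow _ _ hr
  have e1 : i + i' * r ^ j = (i + i') + i' * (r ^ j - 1) := by
    have : r ^ j = (r ^ j - 1) + 1 := by omega
    nth_rw 1 [this]; ring
  have e2 : i' + i * r ^ j' = (i + i') + i * (r ^ j' - 1) := by
    have : r ^ j' = (r ^ j' - 1) + 1 := by omega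
    nth_rw 1 [this]; ring
  unfold Commute SemiconjBy
  rw [mul_formula h, mul_formula h, add_comm j' j, mul_left_inj, e1, e2, pow_add a (i + i'),
    pow_add a (i + i'), mul_right_inj]

/-- commutator-type element: `x g x⁻¹ g⁻¹` computed. -/
theorem comm_formula (h : b * a * b⁻¹ = a ^ r) (hr : 1 ≤ r) (i j i' j' : ℕ) :
    (a ^ i' * b ^ j') * (a ^ i * b ^ j) * (a ^ i' * b ^ j')⁻¹ * (a ^ i * b ^ j)⁻¹ =
      a ^ (i * (r ^ j' - 1)) * (a ^ (i' * (r ^ j - 1)))⁻¹ := by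
  have h1 : 1 ≤ r ^ j := Nat.one_le_pow _ _ hr
  have h2 : 1 ≤ r ^ j' := Nat.one_le_pow _ _ hr
  have e1 : i + i' * r ^ j = (i + i') + i' * (r ^ j - 1) := by
    have : r ^ j = (r ^ j - 1) + 1 := by omega
    nth_rw 1 [this]; ring
  have e2 : i' + i * r ^ j' = (i + i') + i * (r ^ j' - 1) := by
    have : r ^ j' = (r ^ j' - 1) + 1 := by omega
    nth_rw 1 [this]; ring
  have key : (a ^ i' * b ^ j') * (a ^ i * b ^ j) * (a ^ i' * b ^ j')⁻¹ * (a ^ i * b ^ j)⁻¹ =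
      ((a ^ i' * b ^ j') * (a ^ i * b ^ j)) * ((a ^ i * b ^ j) * (a ^ i' * b ^ j'))⁻¹ := by group
  rw [key, mul_formula h, mul_formula h, add_comm j j', e1, e2, pow_add a (i + i'),
    pow_add a (i + i')]
  have hc2 : Commute (a ^ (i + i')) (a ^ (i * (r ^ j' - 1))) := (Commute.refl a).pow_pow _ _
  have hc : Commute (a ^ (i + i')) (a ^ (i' * (r ^ j - 1))) := (Commute.refl a).pow_pow _ _
  generalize a ^ (i + i') = u at hc hc2 ⊢
  generalize a ^ (i * (r ^ j' - 1)) = v at hc2 ⊢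
  generalize a ^ (i' * (r ^ j - 1)) = w at hc ⊢
  generalize b ^ (j' + j) = z
  calc u * v * z * (u * w * z)⁻¹ = (u * v) * w⁻¹ * u⁻¹ := by group
    _ = (v * u) * w⁻¹ * u⁻¹ := by rw [hc2.eq]
    _ = v * (u * w⁻¹ * u⁻¹) := by group
    _ = v * w⁻¹ := by
        congr 1
        rw [hc.inv_right.eq]; group

end Basic

end MC
end Cfsg.Agent.Lib.Helper68
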