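import Mathlib
import Cfsg.Agent.Lib.Helper68.MetaNT
import Cfsg.Agent.Lib.Helper68.MetaModel
import Cfsg.Agent.Lib.Helper68.MetaGen

/-! The data of a metacyclic `p`-group and its consequences (class sizes, levels). -/

namespace Cfsg.Agent.Lib.Helper68
namespace MC

open Subgroup
open scoped commutatorElement

/-- explicit description of a metacyclic `p`-group -/
structure Data (p : ℕ) (G : Type*) [Group G] where
  a : G
  b : G
  r : ℕ
  m : ℕ
  n : ℕ
  f : ℕ
  ha : orderOf a = p ^ m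
  hb : orderOf b = p ^ f
  hconj : b * a * b⁻¹ = a ^ r
  hr : 1 < r
  hrp : p ∣ r - 1
  hgen : ∀ g : G, ∃ i j : ℕ, g = a ^ i * b ^ j
  hn : orderOf (a ^ (r - 1)) = p ^ n

namespace Data

variable {p : ℕ} [hp : Fact p.Prime] {G : Type*} [Group G] (D : Data p G)

omit hp in
theorem one_le_r : 1 ≤ D.r := D.hr.le

omit hp in
theorem pow_pow_pow' {G : Type*} [Group G] (x : G) (u v k : ℕ) : x ^ (u * v * k) = ((x ^ u) ^ v) ^ k := by
  rw [pow_mul x (u * v) k, pow_mul x u v]

theorem key (hodd : Odd p) (i j : ℕ) : D.a ^ (i * (D.r ^ j - 1)) = 1 ↔ p ^ D.n ∣ i * j := by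
  rw [pow_sub_one_eq D.r j D.one_le_r, ← pow_dvd_mul_gs_iff hodd D.one_le_r D.hrp, ← D.hn,
    orderOf_dvd_iff_pow_eq_one, ← pow_mul]
  have : i * (gs D.r j * (D.r - 1)) = (D.r - 1) * (i * gs D.r j) := by ring
  rw [this]

theorem commute_a_iff (hodd : Odd p) (i j k : ℕ) :
    Commute (D.a ^ i * D.b ^ j) (D.a ^ k) ↔ p ^ D.n ∣ k * j := by
  have h := commute_iff D.hconj D.one_le_r i j k 0
  simp only [pow_zero, mul_one, Nat.sub_self, mul_zero] at h
  rw [h, D.key hodd]

theorem commute_b_iff (hodd : Odd p) (i j k : ℕ) :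
    Commute (D.a ^ i * D.b ^ j) (D.b ^ k) ↔ p ^ D.n ∣ i * k := by
  have h := commute_iff D.hconj D.one_le_r i j 0 k
  simp only [pow_zero, one_mul, zero_mul] at h
  rw [h, eq_comm, D.key hodd]

theorem n_le_m : D.n ≤ D.m := by
  have h : orderOf (D.a ^ (D.r - 1)) ∣ orderOf D.a := orderOf_pow_dvd _
  rw [D.hn, D.ha] at h
  exact (Nat.pow_dvd_pow_iff_le_right hp.out.one_lt).mp h

theorem n_le_f (hodd : Odd p) : D.n ≤ D.f := by
  have h : Commute (D.a ^ 1 * D.b ^ 0) (D.b ^ p ^ D.f) := by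
    rw [← D.hb, pow_orderOf_eq_one]; exact Commute.one_right _
  rw [D.commute_b_iff hodd, one_mul] at h
  exact (Nat.pow_dvd_pow_iff_le_right hp.out.one_lt).mp h

omit hp in
theorem mem_zpowers_a_iff [Finite G] (x : G) : x ∈ zpowers D.a ↔ ∃ k : ℕ, x = D.a ^ k := by
  constructor
  · intro h
    obtain ⟨k, hk⟩ := exists_nat_pow_of_mem_zpowers h
    exact ⟨k, hk.symm⟩
  · rintro ⟨k, rfl⟩
    exact pow_mem (mem_zpowers _) _

omit hp in
theorem conj_a_pow (i j k : ℕ) :
    (D.a ^ i * D.b ^ j) * D.a ^ k * (D.a ^ i * D.b ^ j)⁻¹ = D.a ^ (k * D.r ^ j) := by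
  have h := conj_pow_pow D.hconj j k
  calc (D.a ^ i * D.b ^ j) * D.a ^ k * (D.a ^ i * D.b ^ j)⁻¹
      = D.a ^ i * (D.b ^ j * D.a ^ k * (D.b ^ j)⁻¹) * (D.a ^ i)⁻¹ := by group
    _ = D.a ^ i * D.a ^ (k * D.r ^ j) * (D.a ^ i)⁻¹ := by rw [h]
    _ = D.a ^ (k * D.r ^ j) := by
        rw [((Commute.refl D.a).pow_pow i (k * D.r ^ j)).eq]; group

omit hp in
theorem normal_zpowers_a [Finite G] : (zpowers D.a).Normal := by
  constructor
  intro x hx g
  obtain ⟨k, rfl⟩ := (D.mem_zpowers_a_iff x).mp hx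
  obtain ⟨i, j, rfl⟩ := D.hgen g
  rw [D.conj_a_pow]
  exact pow_mem (mem_zpowers _) _

omit hp in
theorem normal_zpowers_a_pow [Finite G] (t : ℕ) : (zpowers (D.a ^ t)).Normal := by
  constructor
  intro x hx g
  obtain ⟨k, rfl⟩ := exists_nat_pow_of_mem_zpowers hx
  obtain ⟨i, j, rfl⟩ := D.hgen g
  rw [← pow_mul, D.conj_a_pow, mul_assoc, pow_mul]
  exact pow_mem (mem_zpowers _) _

theorem commutator_eq [Finite G] : commutator G = zpowers (D.a ^ (D.r - 1)) := by
  apply le_antisymm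
  · have := D.normal_zpowers_a_pow (D.r - 1)
    rw [commutator_def, Subgroup.commutator_le]
    intro g₁ _ g₂ _
    obtain ⟨i', j', rfl⟩ := D.hgen g₁
    obtain ⟨i, j, rfl⟩ := D.hgen g₂
    rw [commutatorElement_def, comm_formula D.hconj D.one_le_r]
    apply mul_mem
    · rw [pow_sub_one_eq D.r j' D.one_le_r]
      have : i * (gs D.r j' * (D.r - 1)) = (D.r - 1) * (i * gs D.r j') := by ring
      rw [this, pow_mul]
      exact pow_mem (mem_zpowers _) _
    · apply inv_mem
      rw [pow_sub_one_eq D.r j D.one_le_r]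
      have : i' * (gs D.r j * (D.r - 1)) = (D.r - 1) * (i' * gs D.r j) := by ring
      rw [this, pow_mul]
      exact pow_mem (mem_zpowers _) _
  · rw [zpowers_le]
    have h : D.a ^ (D.r - 1) = ⁅D.b, D.a⁆ := by
      rw [commutatorElement_def, D.hconj]
      have : D.r = (D.r - 1) + 1 := by have := D.hr; omega
      nth_rw 2 [this]
      rw [pow_succ]; group
    rw [h]
    exact commutator_mem_commutator (mem_top _) (mem_top _)

theorem card_commutator [Finite G] : Nat.card (commutator G) = p ^ D.n := by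
  rw [D.commutator_eq, Nat.card_zpowers, D.hn]

/-- `g = a ^ i * b ^ j` with both exponents divisible by `p ^ s`. -/
def LevForm (s : ℕ) (g : G) : Prop := ∃ i j : ℕ, p ^ s ∣ i ∧ p ^ s ∣ j ∧ g = D.a ^ i * D.b ^ j

omit hp in
theorem levForm_one (s : ℕ) : D.LevForm s 1 := ⟨0, 0, dvd_zero _, dvd_zero _, by simp⟩

omit hp in
theorem levForm_mul {s : ℕ} {g h : G} (hg : D.LevForm s g) (hh : D.LevForm s h) :
    D.LevForm s (g * h) := by
  obtain ⟨i, j, hi, hj, rfl⟩ := hg
  obtain ⟨i', j', hi', hj', rfl⟩ := hh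
  refine ⟨_, _, ?_, ?_, mul_formula D.hconj i j i' j'⟩
  · exact dvd_add hi (Dvd.dvd.mul_right hi' _)
  · exact dvd_add hj hj'

omit hp in
theorem levForm_pow {s : ℕ} {g : G} (hg : D.LevForm s g) (t : ℕ) : D.LevForm s (g ^ t) := by
  obtain ⟨i, j, hi, hj, rfl⟩ := hg
  exact ⟨_, _, Dvd.dvd.mul_right hi _, Dvd.dvd.mul_right hj _, pow_formula D.hconj i j t⟩

omit hp in
theorem levForm_inv [Finite G] {s : ℕ} {g : G} (hg : D.LevForm s g) : D.LevForm s g⁻¹ := by
  have h : g⁻¹ = g ^ (orderOf g - 1) := by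
    rw [inv_eq_iff_mul_eq_one, ← pow_succ']
    have : orderOf g - 1 + 1 = orderOf g := Nat.sub_add_cancel (orderOf_pos g)
    rw [this, pow_orderOf_eq_one]
  rw [h]
  exact D.levForm_pow hg _

theorem levForm_pow_pow (hodd : Odd p) (y : G) (s : ℕ) : D.LevForm s (y ^ p ^ s) := by
  obtain ⟨i, j, rfl⟩ := D.hgen y
  refine ⟨_, _, ?_, ?_, pow_formula D.hconj i j (p ^ s)⟩
  · apply Dvd.dvd.mul_left
    rw [pow_dvd_gs_iff hodd (Nat.one_le_pow _ _ D.one_le_r) (dvd_pow_sub_one D.hrp D.one_le_r j)]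
  · exact Dvd.dvd.mul_left dvd_rfl _

/-- the subgroup generated by the `p ^ s`-th powers -/
def lev (G : Type*) [Group G] (p s : ℕ) : Subgroup G := closure {x : G | ∃ y : G, y ^ p ^ s = x}

theorem mem_lev_iff [Finite G] (hodd : Odd p) (s : ℕ) (g : G) :
    g ∈ lev G p s ↔ D.LevForm s g := by
  constructor
  · intro h
    unfold lev at h
    induction h using closure_induction with
    | mem x hx => obtain ⟨y, rfl⟩ := hx; exact D.levForm_pow_pow hodd y s
    | one => exact D.levForm_one s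
    | mul x y _ _ hx hy => exact D.levForm_mul hx hy
    | inv x _ hx => exact D.levForm_inv hx
  · rintro ⟨i, j, ⟨i', rfl⟩, ⟨j', rfl⟩, rfl⟩
    apply mul_mem
    · apply Subgroup.subset_closure
      exact ⟨D.a ^ i', by rw [← pow_mul, mul_comm]⟩
    · apply Subgroup.subset_closure
      exact ⟨D.b ^ j', by rw [← pow_mul, mul_comm]⟩

theorem index_centralizer_le_of_levForm [Finite G] (hodd : Odd p) {s : ℕ} (hs : s ≤ D.n) {g : G}
    (hg : D.LevForm s g) : (centralizer ({g} : Set G)).index ≤ p ^ (D.n - s) := by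
  rw [← card_zpowers_pow_of_le D.hn hs]
  apply index_centralizer_le
  intro c
  obtain ⟨i', j', rfl⟩ := D.hgen c
  obtain ⟨i, j, ⟨i₁, rfl⟩, hj, rfl⟩ := hg
  rw [comm_formula D.hconj D.one_le_r]
  apply mul_mem
  · rw [pow_sub_one_eq D.r j' D.one_le_r]
    have : p ^ s * i₁ * (gs D.r j' * (D.r - 1)) = (D.r - 1) * p ^ s * (i₁ * gs D.r j') := by ring
    rw [this, pow_pow_pow']
    exact Subgroup.pow_mem _ (mem_zpowers _) _
  · apply inv_mem
    rw [pow_sub_one_eq D.r j D.one_le_r]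
    have hgs : p ^ s ∣ gs D.r j := (pow_dvd_gs_iff hodd D.one_le_r D.hrp s j).mpr hj
    obtain ⟨w, hw⟩ := hgs
    rw [hw]
    have : i' * (p ^ s * w * (D.r - 1)) = (D.r - 1) * p ^ s * (i' * w) := by ring
    rw [this, pow_pow_pow']
    exact Subgroup.pow_mem _ (mem_zpowers _) _

theorem dvd_of_index_centralizer_le [Finite G] (hodd : Odd p) {s : ℕ} (hs : s ≤ D.n) {i j : ℕ}
    (h : (centralizer ({D.a ^ i * D.b ^ j} : Set G)).index ≤ p ^ (D.n - s)) :
    p ^ s ∣ i ∧ p ^ s ∣ j := by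
  set T := centralizer ({D.a ^ i * D.b ^ j} : Set G) with hT
  have hne : T.relIndex ⊤ ≠ 0 := by rw [relIndex_top_right]; exact index_ne_zero_of_finite
  have hsplit : p ^ D.n = p ^ (D.n - s) * p ^ s := by rw [← pow_add]; congr 1; omega
  constructor
  · have h1 : T.relIndex (zpowers D.b) ≤ p ^ (D.n - s) := by
      refine le_trans (relIndex_le_of_le_right le_top hne) ?_
      rw [relIndex_top_right]; exact h
    have h2 := pow_mem_of_relIndex_le D.hb T h1
    rw [hT, mem_centralizer_singleton] at h2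
    have h3 : Commute (D.a ^ i * D.b ^ j) (D.b ^ p ^ (D.n - s)) := h2.symm
    rw [D.commute_b_iff hodd, hsplit, mul_comm i] at h3
    exact Nat.dvd_of_mul_dvd_mul_left (pow_pos hp.out.pos _) h3
  · have h1 : T.relIndex (zpowers D.a) ≤ p ^ (D.n - s) := by
      refine le_trans (relIndex_le_of_le_right le_top hne) ?_
      rw [relIndex_top_right]; exact h
    have h2 := pow_mem_of_relIndex_le D.ha T h1
    rw [hT, mem_centralizer_singleton] at h2
    have h3 : Commute (D.a ^ i * D.b ^ j) (D.a ^ p ^ (D.n - s)) := h2.symm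
    rw [D.commute_a_iff hodd, hsplit] at h3
    exact Nat.dvd_of_mul_dvd_mul_left (pow_pos hp.out.pos _) h3

theorem index_centralizer_le_iff [Finite G] (hodd : Odd p) {s : ℕ} (hs : s ≤ D.n) (g : G) :
    (centralizer ({g} : Set G)).index ≤ p ^ (D.n - s) ↔ g ∈ lev G p s := by
  rw [D.mem_lev_iff hodd]
  constructor
  · intro h
    obtain ⟨i, j, rfl⟩ := D.hgen g
    obtain ⟨hi, hj⟩ := D.dvd_of_index_centralizer_le hodd hs h
    exact ⟨i, j, hi, hj, rfl⟩
  · exact D.index_centralizer_le_of_levForm hodd hs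

theorem lev_n_eq_center [Finite G] (hodd : Odd p) : lev G p D.n = center G := by
  ext g
  rw [← D.index_centralizer_le_iff hodd le_rfl, Nat.sub_self, pow_zero]
  have hpos : 0 < (centralizer ({g} : Set G)).index := Nat.pos_of_ne_zero index_ne_zero_of_finite
  rw [mem_center_iff]
  constructor
  · intro h
    have h1 : (centralizer ({g} : Set G)).index = 1 := by omega
    rw [index_eq_one] at h1
    intro x
    have : x ∈ centralizer ({g} : Set G) := by rw [h1]; exact mem_top _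
    rw [mem_centralizer_singleton] at this
    exact this
  · intro h
    have : centralizer ({g} : Set G) = ⊤ := by
      rw [eq_top_iff]; intro x _
      rw [mem_centralizer_singleton]; exact h x
    rw [this, index_top]

end Data
end MC
end Cfsg.Agent.Lib.Helper68
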