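import Mathlib
import Cfsg.Agent.Lib.Helper68.MetaData

/-! Existence of the explicit data for a metacyclic `p`-group. -/

namespace Cfsg.Agent.Lib.Helper68
namespace MC

open Subgroup

variable {p : ℕ} [hp : Fact p.Prime] {G : Type*} [Group G]

/-- Fermat: if `r ^ (p ^ f) ≡ 1 mod p` then `r ≡ 1 mod p`. -/
theorem dvd_sub_one_of_pow_pow {r f : ℕ} (hr : 1 ≤ r) (h : p ∣ r ^ p ^ f - 1) : p ∣ r - 1 := by
  have h1 : 1 ≤ r ^ p ^ f := Nat.one_le_pow _ _ hr
  have h2 : ((r ^ p ^ f : ℕ) : ZMod p) = ((1 : ℕ) : ZMod p) := by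
    rw [ZMod.natCast_eq_natCast_iff]
    exact ((Nat.modEq_iff_dvd' h1).mpr h).symm
  rw [Nat.cast_pow, ZMod.pow_card_pow] at h2
  rw [ZMod.natCast_eq_natCast_iff] at h2
  exact (Nat.modEq_iff_dvd' hr).mp h2.symm

theorem exists_data [Finite G] (hG : IsPGroup p G) (N : Subgroup G) [hNn : N.Normal]
    (hN : IsCyclic N) (hQ : IsCyclic (G ⧸ N)) : Nonempty (Data p G) := by
  obtain ⟨⟨a, haN⟩, hagen⟩ := hN.exists_generator
  obtain ⟨q, hq⟩ := hQ.exists_generator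
  obtain ⟨b, rfl⟩ := QuotientGroup.mk_surjective q
  have hNa : ∀ x ∈ N, ∃ k : ℕ, x = a ^ k := by
    intro x hx
    have h1 := hagen ⟨x, hx⟩
    have h2 : x ∈ zpowers a := by
      obtain ⟨z, hz⟩ := mem_zpowers_iff.mp h1
      have := congrArg Subtype.val hz
      simp only [coe_zpow] at this
      exact mem_zpowers_iff.mpr ⟨z, this⟩
    obtain ⟨k, hk⟩ := exists_nat_pow_of_mem_zpowers h2
    exact ⟨k, hk.symm⟩
  have hgen : ∀ g : G, ∃ i j : ℕ, g = a ^ i * b ^ j := by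
    intro g
    obtain ⟨z, hz⟩ := mem_zpowers_iff.mp (hq (QuotientGroup.mk g))
    have h1 : b ^ z ∈ zpowers b := zpow_mem (mem_zpowers _) _
    obtain ⟨j, hj⟩ := exists_nat_pow_of_mem_zpowers h1
    have h2 : g * (b ^ j)⁻¹ ∈ N := by
      rw [← QuotientGroup.eq_one_iff, QuotientGroup.mk_mul, QuotientGroup.mk_inv, hj,
        QuotientGroup.mk_zpow, hz, mul_inv_cancel]
    obtain ⟨i, hi⟩ := hNa _ h2
    exact ⟨i, j, by rw [← hi]; group⟩
  obtain ⟨m, hm⟩ := (IsPGroup.iff_orderOf.mp hG) a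
  obtain ⟨f, hf⟩ := (IsPGroup.iff_orderOf.mp hG) b
  obtain ⟨r₀, hr₀⟩ := hNa _ (hNn.conj_mem a haN b)
  -- choose r
  have hex : ∃ r : ℕ, 1 < r ∧ p ∣ r - 1 ∧ b * a * b⁻¹ = a ^ r := by
    rcases Nat.eq_zero_or_pos m with hm0 | hmpos
    · rw [hm0, pow_zero, orderOf_eq_one_iff] at hm
      refine ⟨p + 1, ?_, ?_, ?_⟩
      · have := hp.out.one_lt; omega
      · simp
      · rw [hm]; simp
    · have h1 := conj_pow_pow hr₀ (p ^ f) 1
      rw [← hf, pow_orderOf_eq_one] at h1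
      simp only [one_mul, inv_one, mul_one, pow_one] at h1
      have h2 : a ^ (r₀ ^ orderOf b) = a ^ 1 := by rw [← h1, pow_one]
      rw [pow_eq_pow_iff_modEq, hm, hf] at h2
      have h3 : r₀ ^ p ^ f ≡ 1 [MOD p] :=
        h2.of_dvd (dvd_pow_self p hmpos.ne')
      have h4 : 1 ≤ r₀ ^ p ^ f := by
        by_contra hc
        have h0 : r₀ ^ p ^ f = 0 := by omega
        rw [h0] at h3
        have := Nat.ModEq.dvd h3
        simp at this
        have := Int.natCast_dvd_natCast.mp (by simpa using this : ((p : ℕ) : ℤ) ∣ ((1 : ℕ) : ℤ))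
        exact hp.out.one_lt.ne' (Nat.dvd_one.mp this)
      have h5 : p ∣ r₀ ^ p ^ f - 1 := (Nat.modEq_iff_dvd' h4).mp h3.symm
      have h7 : 1 ≤ r₀ := by
        by_contra hc
        have h0 : r₀ = 0 := by omega
        rw [h0, zero_pow (pow_ne_zero _ hp.out.ne_zero)] at h4
        omega
      have h6 := dvd_sub_one_of_pow_pow h7 h5
      refine ⟨r₀ + p ^ (m + 1), ?_, ?_, ?_⟩
      · have : 2 ≤ p ^ (m + 1) := by
          calc 2 ≤ p := hp.out.two_le
            _ = p ^ 1 := (pow_one p).symm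
            _ ≤ p ^ (m + 1) := Nat.pow_le_pow_right hp.out.pos (by omega)
        omega
      · have : r₀ + p ^ (m + 1) - 1 = (r₀ - 1) + p ^ (m + 1) := by omega
        rw [this]
        exact dvd_add h6 (dvd_pow_self p (by omega))
      · rw [hr₀, pow_add, pow_succ, pow_mul, ← hm, pow_orderOf_eq_one, one_pow, mul_one]
  obtain ⟨r, hr1, hrp, hconj⟩ := hex
  obtain ⟨n, hn⟩ := (IsPGroup.iff_orderOf.mp hG) (a ^ (r - 1))
  exact ⟨⟨a, b, r, m, n, f, hm, hf, hconj, hr1, hrp, hgen, hn⟩⟩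

end MC
end Cfsg.Agent.Lib.Helper68
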