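import Mathlib
import Cfsg.Agent.Lib.Helper68.MetaData

/-! Indices of subgroups of a metacyclic `p`-group in terms of the explicit data. -/

namespace Cfsg.Agent.Lib.Helper68
namespace MC

open Subgroup

/-- `[H ⊔ N : H] = [N : H ⊓ N]` for `N` normal. -/
theorem relIndex_sup_normal' {G : Type*} [Group G] [Finite G] (H N : Subgroup G) [N.Normal] :
    H.relIndex (H ⊔ N) = H.relIndex N := by
  have h1 : Nat.card H * H.relIndex (H ⊔ N) = Nat.card ↥(H ⊔ N) := by
    rw [← Subgroup.relIndex_bot_left, Subgroup.relIndex_mul_relIndex _ _ _ bot_le le_sup_left,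
      Subgroup.relIndex_bot_left]
  have h2 : Nat.card N * N.relIndex H = Nat.card ↥(H ⊔ N) := by
    rw [← Subgroup.relIndex_sup_right H N, ← Subgroup.relIndex_bot_left,
      Subgroup.relIndex_mul_relIndex _ _ _ bot_le le_sup_right, Subgroup.relIndex_bot_left]
  have h3 : Nat.card ↥(H ⊓ N) * N.relIndex H = Nat.card H := by
    have := Subgroup.relIndex_mul_relIndex ⊥ (H ⊓ N) H bot_le inf_le_left
    rwa [Subgroup.relIndex_bot_left, Subgroup.relIndex_bot_left, Subgroup.inf_relIndex_left] at this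
  have h4 : Nat.card ↥(H ⊓ N) * H.relIndex N = Nat.card N := by
    have := Subgroup.relIndex_mul_relIndex ⊥ (H ⊓ N) N bot_le inf_le_right
    rwa [Subgroup.relIndex_bot_left, Subgroup.relIndex_bot_left, Subgroup.inf_relIndex_right] at this
  have hpos : 0 < Nat.card ↥(H ⊓ N) * N.relIndex H := by
    rw [h3]; exact Nat.card_pos
  have : (Nat.card ↥(H ⊓ N) * N.relIndex H) * H.relIndex (H ⊔ N) =
      (Nat.card ↥(H ⊓ N) * N.relIndex H) * H.relIndex N := by
    calc (Nat.card ↥(H ⊓ N) * N.relIndex H) * H.relIndex (H ⊔ N)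
        = Nat.card ↥(H ⊔ N) := by rw [h3, h1]
      _ = (Nat.card ↥(H ⊓ N) * H.relIndex N) * N.relIndex H := by rw [h4, h2]
      _ = (Nat.card ↥(H ⊓ N) * N.relIndex H) * H.relIndex N := by ring
  exact Nat.eq_of_mul_eq_mul_left hpos this

namespace Data

variable {p : ℕ} [hp : Fact p.Prime] {G : Type*} [Group G] (D : Data p G) [Finite G]

instance instNormalZpowersA : (zpowers D.a).Normal := D.normal_zpowers_a

/-- the image of `b` in `G / ⟨a⟩` -/
def bbar : G ⧸ zpowers D.a := QuotientGroup.mk D.b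

omit hp in
theorem mk_eq (i j : ℕ) : (QuotientGroup.mk (D.a ^ i * D.b ^ j) : G ⧸ zpowers D.a) = D.bbar ^ j := by
  rw [QuotientGroup.mk_mul, QuotientGroup.mk_pow, QuotientGroup.mk_pow]
  have : (QuotientGroup.mk D.a : G ⧸ zpowers D.a) = 1 :=
    (QuotientGroup.eq_one_iff _).mpr (mem_zpowers _)
  rw [this, one_pow, one_mul]; rfl

omit hp in
theorem zpowers_bbar : zpowers D.bbar = ⊤ := by
  rw [eq_top_iff]
  intro x _
  obtain ⟨g, rfl⟩ := QuotientGroup.mk_surjective x
  obtain ⟨i, j, rfl⟩ := D.hgen g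
  rw [D.mk_eq]
  exact pow_mem (mem_zpowers _) _

theorem exists_e (hodd : Odd p) : ∃ e, orderOf D.bbar = p ^ e ∧ D.n ≤ e := by
  have h1 : orderOf D.bbar ∣ p ^ D.f := by
    apply orderOf_dvd_of_pow_eq_one
    unfold bbar
    rw [← QuotientGroup.mk_pow, ← D.hb, pow_orderOf_eq_one]; rfl
  obtain ⟨e, -, he⟩ := (Nat.dvd_prime_pow hp.out).mp h1
  refine ⟨e, he, ?_⟩
  have h2 : D.b ^ p ^ e ∈ zpowers D.a := by
    rw [← QuotientGroup.eq_one_iff, QuotientGroup.mk_pow]
    have := pow_orderOf_eq_one D.bbar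
    rw [he] at this
    exact this
  obtain ⟨k, hk⟩ := (D.mem_zpowers_a_iff _).mp h2
  have h3 : Commute (D.a ^ 0 * D.b ^ p ^ e) (D.a ^ 1) := by
    rw [pow_zero, one_mul, hk]
    exact (Commute.refl D.a).pow_pow _ _
  rw [D.commute_a_iff hodd, one_mul] at h3
  exact (Nat.pow_dvd_pow_iff_le_right hp.out.one_lt).mp h3

omit hp in
theorem card_quot {e : ℕ} (he : orderOf D.bbar = p ^ e) : Nat.card (G ⧸ zpowers D.a) = p ^ e := by
  rw [← he, ← Nat.card_zpowers, D.zpowers_bbar, card_top]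

theorem card_eq {e : ℕ} (he : orderOf D.bbar = p ^ e) : Nat.card G = p ^ (D.m + e) := by
  rw [← card_mul_index (zpowers D.a), index_eq_card, D.card_quot he, Nat.card_zpowers, D.ha, pow_add]

theorem index_of_form (L : Subgroup G) {α β e : ℕ} (he : orderOf D.bbar = p ^ e)
    (hα : α ≤ D.m) (hβ : β ≤ e) (h1 : L ⊓ zpowers D.a = zpowers (D.a ^ p ^ α))
    (h2 : L.map (QuotientGroup.mk' (zpowers D.a)) = zpowers (D.bbar ^ p ^ β)) :
    L.index = p ^ (α + β) := by
  have hA : (L ⊔ zpowers D.a).index = p ^ β := by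
    have h3 := index_map (QuotientGroup.mk' (zpowers D.a)) (H := L)
    rw [QuotientGroup.ker_mk', MonoidHom.range_eq_top.mpr (QuotientGroup.mk'_surjective _), index_top,
      mul_one, h2] at h3
    rw [← h3]
    have h4 := card_mul_index (zpowers (D.bbar ^ p ^ β))
    rw [card_zpowers_pow_of_le he hβ, D.card_quot he] at h4
    have h5 : p ^ e = p ^ (e - β) * p ^ β := by rw [← pow_add]; congr 1; omega
    rw [h5] at h4
    exact Nat.eq_of_mul_eq_mul_left (pow_pos hp.out.pos _) h4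
  have hB : L.relIndex (L ⊔ zpowers D.a) = p ^ α := by
    rw [relIndex_sup_normal', ← inf_relIndex_right, h1]
    have h4 := relIndex_mul_relIndex (H := ⊥) (K := zpowers (D.a ^ p ^ α)) (L := zpowers D.a) bot_le
      (zpowers_le.mpr (pow_mem (mem_zpowers _) _))
    rw [relIndex_bot_left, relIndex_bot_left, card_zpowers_pow_of_le D.ha hα, Nat.card_zpowers,
      D.ha] at h4
    have h5 : p ^ D.m = p ^ (D.m - α) * p ^ α := by rw [← pow_add]; congr 1; omega
    rw [h5] at h4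
    exact Nat.eq_of_mul_eq_mul_left (pow_pos hp.out.pos _) h4
  rw [← relIndex_mul_index (le_sup_left : L ≤ L ⊔ zpowers D.a), hA, hB, pow_add]

theorem lev_inf (hodd : Odd p) {s : ℕ} (hs : s ≤ D.n) :
    lev G p s ⊓ zpowers D.a = zpowers (D.a ^ p ^ s) := by
  apply le_antisymm
  · rintro x ⟨hx1, hx2⟩
    obtain ⟨k, rfl⟩ := (D.mem_zpowers_a_iff x).mp hx2
    have h1 : (centralizer ({D.a ^ k * D.b ^ 0} : Set G)).index ≤ p ^ (D.n - s) := by
      rw [pow_zero, mul_one]
      exact (D.index_centralizer_le_iff hodd hs _).mpr hx1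
    obtain ⟨⟨w, rfl⟩, -⟩ := D.dvd_of_index_centralizer_le hodd hs h1
    rw [pow_mul]
    exact pow_mem (mem_zpowers _) _
  · rw [zpowers_le]
    refine ⟨?_, pow_mem (mem_zpowers _) _⟩
    exact Subgroup.subset_closure ⟨D.a, rfl⟩

theorem lev_map (hodd : Odd p) (s : ℕ) :
    (lev G p s).map (QuotientGroup.mk' (zpowers D.a)) = zpowers (D.bbar ^ p ^ s) := by
  apply le_antisymm
  · rintro _ ⟨g, hg, rfl⟩
    obtain ⟨i, j, -, ⟨w, rfl⟩, rfl⟩ := (D.mem_lev_iff hodd s g).mp hg
    rw [QuotientGroup.mk'_apply, D.mk_eq, pow_mul]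
    exact pow_mem (mem_zpowers _) _
  · rw [zpowers_le]
    refine ⟨D.b ^ p ^ s, Subgroup.subset_closure ⟨D.b, rfl⟩, ?_⟩
    rw [QuotientGroup.mk'_apply, QuotientGroup.mk_pow]; rfl

theorem index_lev (hodd : Odd p) {s : ℕ} (hs : s ≤ D.n) : (lev G p s).index = p ^ (2 * s) := by
  obtain ⟨e, he, hne⟩ := D.exists_e hodd
  have := D.index_of_form (lev G p s) he (hs.trans D.n_le_m) (hs.trans hne) (D.lev_inf hodd hs)
    (D.lev_map hodd s)
  rw [this]; congr 1; omega

theorem index_center (hodd : Odd p) : (center G).index = p ^ (2 * D.n) := by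
  rw [← D.lev_n_eq_center hodd, D.index_lev hodd le_rfl]

omit hp [Finite G] in
theorem lev_zero : lev G p 0 = ⊤ := by
  rw [eq_top_iff]
  intro g _
  exact Subgroup.subset_closure ⟨g, by simp⟩

omit hp [Finite G] in
theorem lev_anti {s t : ℕ} (h : s ≤ t) : lev G p t ≤ lev G p s := by
  unfold lev
  rw [closure_le]
  rintro x ⟨y, rfl⟩
  apply Subgroup.subset_closure
  refine ⟨y ^ p ^ (t - s), ?_⟩
  rw [← pow_mul, ← pow_add]; congr 2; omega

/-- `|℧_s(G)| = |Z(G)| p ^ (2 (n - s))` -/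
theorem card_lev (hodd : Odd p) {s : ℕ} (hs : s ≤ D.n) :
    Nat.card (lev G p s) = Nat.card (center G) * p ^ (2 * (D.n - s)) := by
  have h1 := card_mul_index (lev G p s)
  have h2 := card_mul_index (center G)
  rw [D.index_lev hodd hs] at h1
  rw [D.index_center hodd] at h2
  have h3 : p ^ (2 * D.n) = p ^ (2 * (D.n - s)) * p ^ (2 * s) := by
    rw [← pow_add]; congr 1; omega
  rw [h3, ← h1, ← mul_assoc] at h2
  exact (Nat.eq_of_mul_eq_mul_right (pow_pos hp.out.pos _) h2).symm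

end Data
end MC
end Cfsg.Agent.Lib.Helper68
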