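import Mathlib
import Cfsg.Agent.Lib.Helper68.MetaExists
import Cfsg.Agent.Lib.Helper68.MetaIndex
import Cfsg.Agent.Lib.Helper04.Collect3

/-! Automorphisms of a metacyclic `p`-group (`p` odd) with derived subgroup of order `p`:
a structural dichotomy used for coprime action (Bender--Glauberman 4.4). -/

set_option autoImplicit false

namespace Cfsg.Agent.Lib.Helper68
namespace MA

open Subgroup
open scoped commutatorElement

variable {R : Type*} [Group R]

theorem comm_mem_center (hcl : commutator R ≤ center R) (x y : R) : ⁅x, y⁆ ∈ center R :=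
  hcl (by rw [commutator_def]; exact commutator_mem_commutator (mem_top x) (mem_top y))

/-- class two: `x ↦ ⁅x, z⁆` is a homomorphism -/
def commL (hcl : commutator R ≤ center R) (z : R) : R →* R where
  toFun x := ⁅x, z⁆
  map_one' := commutatorElement_one_left z
  map_mul' x y := by
    have h := mem_center_iff.mp (comm_mem_center hcl y z)
    have e1 : ⁅x * y, z⁆ = x * ⁅y, z⁆ * z * x⁻¹ * z⁻¹ := by
      simp only [commutatorElement_def]; group
    rw [e1, h x, h ⁅x, z⁆]
    generalize ⁅y, z⁆ = c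
    rw [commutatorElement_def]; group

/-- class two: `x ↦ ⁅z, x⁆` is a homomorphism -/
def commR (hcl : commutator R ≤ center R) (z : R) : R →* R where
  toFun x := ⁅z, x⁆
  map_one' := commutatorElement_one_right z
  map_mul' x y := by
    have h := mem_center_iff.mp (comm_mem_center hcl z y)
    have e1 : ⁅z, x * y⁆ = z * x * z⁻¹ * ⁅z, y⁆ * x⁻¹ := by
      simp only [commutatorElement_def]; group
    rw [e1, h (z * x * z⁻¹), h ⁅z, x⁆]
    generalize ⁅z, y⁆ = c
    rw [commutatorElement_def]; group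

@[simp] theorem commL_apply (hcl : commutator R ≤ center R) (z x : R) : commL hcl z x = ⁅x, z⁆ := rfl
@[simp] theorem commR_apply (hcl : commutator R ≤ center R) (z x : R) : commR hcl z x = ⁅z, x⁆ := rfl

/-- the `p ^ i`-th power map as a homomorphism -/
def powHom {p : ℕ} (hmul : ∀ x y : R, (x * y) ^ p = x ^ p * y ^ p) (i : ℕ) : R →* R where
  toFun x := x ^ p ^ i
  map_one' := one_pow _
  map_mul' x y := by
    induction i with
    | zero => simp
    | succ i ih => rw [pow_succ, pow_mul, pow_mul, pow_mul, ih, hmul]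

@[simp] theorem powHom_apply {p : ℕ} (hmul : ∀ x y : R, (x * y) ^ p = x ^ p * y ^ p) (i : ℕ) (x : R) :
    powHom hmul i x = x ^ p ^ i := rfl

/-- two subgroups of a finite group, one inside the other, with the same index, are equal -/
theorem eq_of_le_of_index_eq [Finite R] {H K : Subgroup R} (hle : H ≤ K) (h : H.index = K.index) :
    H = K := by
  apply le_antisymm hle
  rw [← relIndex_eq_one]
  have h1 := relIndex_mul_index hle
  rw [h] at h1
  have hK : K.index ≠ 0 := index_ne_zero_of_finite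
  have : H.relIndex K * K.index = 1 * K.index := by rw [h1, one_mul]
  exact Nat.eq_of_mul_eq_mul_right (Nat.pos_of_ne_zero hK) this

/-- a subgroup strictly between `Z` of index `p ^ 2` and `⊤` has index `p` -/
theorem index_eq_prime_of_between [Finite R] {p : ℕ} (hp : p.Prime) {Z H : Subgroup R}
    (hZ : Z.index = p ^ 2) (hZH : Z ≤ H) (hne : H ≠ Z) (htop : H ≠ ⊤) : H.index = p := by
  have hdvd : H.index ∣ p ^ 2 := hZ ▸ index_dvd_of_le hZH
  obtain ⟨j, hj, hHj⟩ := (Nat.dvd_prime_pow hp).mp hdvd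
  interval_cases j
  · exfalso; apply htop; rw [← index_eq_one, hHj, pow_zero]
  · rw [hHj, pow_one]
  · exfalso; apply hne
    exact (eq_of_le_of_index_eq hZH (by rw [hZ, hHj])).symm

section struct

variable {p : ℕ} [hp : Fact p.Prime] [Finite R]

/-- **Structural dichotomy**, derived subgroup of order `p`. -/
theorem struct_one (hR : IsPGroup p R) (hp2 : p ≠ 2) (D : MC.Data p R) (hn : D.n = 1) :
    (∃ L : Subgroup R, L ≠ ⊤ ∧ ∀ φ : R ≃* R, ∀ x : R, x⁻¹ * φ x ∈ L) ∨
    (∃ Z K : Subgroup R, commutator R ≤ Z ∧ Z ≤ K ∧ K ≠ Z ∧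
      ∀ φ : R ≃* R, ∀ x ∈ K, x⁻¹ * φ x ∈ Z) := by
  have hpp := hp.out
  have hodd : Odd p := hpp.odd_of_ne_two hp2
  obtain ⟨c, hc⟩ : ∃ c : R, c = D.a ^ (D.r - 1) := ⟨_, rfl⟩
  have hcomm : commutator R = zpowers c := by rw [hc]; exact D.commutator_eq
  have hcord : orderOf c = p := by rw [hc, D.hn, hn, pow_one]
  have hcp : c ^ p = 1 := by rw [← hcord]; exact pow_orderOf_eq_one c
  have hc1 : c ≠ 1 := by
    intro h; rw [h, orderOf_one] at hcord; exact hpp.one_lt.ne hcord
  have hZ : MC.Data.lev R p 1 = center R := by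
    have := D.lev_n_eq_center hodd; rwa [hn] at this
  obtain ⟨k, hk⟩ := D.hrp
  have hck : c = (D.a ^ k) ^ p := by rw [hc, hk, mul_comm, pow_mul]
  have hcZ : c ∈ center R := by
    rw [← hZ]; exact subset_closure ⟨D.a ^ k, by rw [pow_one]; exact hck.symm⟩
  have hcl : commutator R ≤ center R := by rw [hcomm, zpowers_le]; exact hcZ
  have hmul : ∀ x y : R, (x * y) ^ p = x ^ p * y ^ p := by
    apply Cfsg.Agent.Lib.Helper04.mul_pow_of_class hpp (Or.inl ⟨hp2, ?_⟩) ?_
    · rw [commutator_eq_bot_iff_le_centralizer, coe_top, centralizer_univ]; exact hcl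
    · rw [hcomm, zpowers_le]; exact subset_closure hcp
  obtain ⟨π, hπ⟩ : ∃ π : ℕ → R →* R, ∀ i x, π i x = x ^ p ^ i := ⟨powHom hmul, fun _ _ => rfl⟩
  have hc1mem : c ∈ (π 1).range := ⟨D.a ^ k, by rw [hπ, pow_one]; exact hck.symm⟩
  obtain ⟨N, hN⟩ := IsPGroup.iff_card.mp hR
  have hexp : ∀ x : R, x ^ p ^ N = 1 := fun x => by rw [← hN]; exact pow_card_eq_one'
  have hex : ∃ i, c ∈ (π (i + 1)).range ∧ c ∉ (π (i + 2)).range := by
    by_contra hcon
    push Not at hcon
    have hall : ∀ j, c ∈ (π (j + 1)).range := by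
      intro j
      induction j with
      | zero => exact hc1mem
      | succ j ih => exact hcon j ih
    obtain ⟨y, hy⟩ := hall N
    rw [hπ, pow_succ, pow_mul, hexp, one_pow] at hy
    exact hc1 hy.symm
  obtain ⟨i0, hi1, hi2⟩ := hex
  obtain ⟨i, hi⟩ : ∃ i, i = i0 + 1 := ⟨_, rfl⟩
  rw [← hi] at hi1
  have hi2' : c ∉ (π (i + 1)).range := by rw [hi]; exact hi2
  obtain ⟨x₀, hx₀⟩ := hi1
  -- the subgroup K
  obtain ⟨K, hK⟩ : ∃ K : Subgroup R, K = (π (i + 1)).range.comap (π i) := ⟨_, rfl⟩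
  have hKmem : ∀ u, u ∈ K ↔ π i u ∈ (π (i + 1)).range := by
    intro u; rw [hK, mem_comap]
  have hx₀K : x₀ ∉ K := by rw [hKmem, hx₀]; exact hi2'
  have hZK : center R ≤ K := by
    rw [← hZ]
    unfold MC.Data.lev
    rw [closure_le]
    rintro _ ⟨y, rfl⟩
    rw [SetLike.mem_coe, hKmem]
    refine ⟨y, ?_⟩
    rw [hπ, hπ, pow_one, ← pow_mul, ← pow_succ']
  have hkerK : ∀ u, π i u = 1 → u ∈ K := by
    intro u hu; rw [hKmem, hu]; exact one_mem _
  have hφπ : ∀ (φ : R ≃* R) (j : ℕ) (x : R), π j (φ x) = φ (π j x) := by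
    intro φ j x; rw [hπ, hπ, map_pow]
  have hφK : ∀ (φ : R ≃* R), ∀ u ∈ K, φ u ∈ K := by
    intro φ u hu
    rw [hKmem] at hu ⊢
    obtain ⟨y, hy⟩ := hu
    exact ⟨φ y, by rw [hφπ, hy, hφπ]⟩
  have hφc : ∀ φ : R ≃* R, ∃ d : ℕ, φ c = c ^ d := by
    intro φ
    have h1 : φ c ∈ commutator R := by
      have hch : (commutator R).Characteristic := inferInstance
      exact characteristic_iff_le_comap.mp hch φ (by rw [hcomm]; exact mem_zpowers c)
    rw [hcomm] at h1
    obtain ⟨d, hd⟩ := MC.exists_nat_pow_of_mem_zpowers h1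
    exact ⟨d, hd.symm⟩
  have hφw : ∀ (φ : R ≃* R) (d : ℕ), φ c = c ^ d → ∀ w ∈ commutator R, φ w = w ^ d := by
    intro φ d hd w hw
    rw [hcomm] at hw
    obtain ⟨e, rfl⟩ := MC.exists_nat_pow_of_mem_zpowers hw
    rw [map_pow, hd, ← pow_mul, ← pow_mul, mul_comm]
  have hwp : ∀ w ∈ commutator R, w ^ p = 1 := by
    intro w hw
    rw [hcomm] at hw
    obtain ⟨e, rfl⟩ := MC.exists_nat_pow_of_mem_zpowers hw
    rw [← pow_mul, mul_comm, pow_mul, hcp, one_pow]
  have hcm : ∀ x y : R, ⁅x, y⁆ ∈ commutator R := fun x y => by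
    rw [commutator_def]; exact commutator_mem_commutator (mem_top x) (mem_top y)
  have key : ∀ (φ : R ≃* R) (y : R), (∀ k₁ : R, π i k₁ = 1 → ⁅k₁, φ y⁆ = 1) →
      ⁅x₀, y⁻¹ * φ y⁆ = 1 := by
    intro φ y hk
    obtain ⟨d, hd⟩ := hφc φ
    have hpd : (d.gcd p) = 1 := by
      have : ¬ p ∣ d := by
        rintro ⟨e, rfl⟩
        rw [pow_mul, hcp, one_pow] at hd
        exact hc1 (φ.injective (by rw [hd, map_one]))
      exact (Nat.coprime_comm.mp ((Nat.Prime.coprime_iff_not_dvd hpp).mpr this))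
    obtain ⟨k₁, hk₁⟩ : ∃ k₁ : R, k₁ = (x₀ ^ d)⁻¹ * φ x₀ := ⟨_, rfl⟩
    have hk₁π : π i k₁ = 1 := by
      rw [hk₁, map_mul, map_inv, map_pow, hx₀, hφπ, hx₀, hd, inv_mul_cancel]
    have hφx₀ : φ x₀ = x₀ ^ d * k₁ := by rw [hk₁]; group
    have h1 : φ ⁅x₀, y⁆ = ⁅x₀, y⁆ ^ d := hφw φ d hd _ (hcm x₀ y)
    have h2 : φ ⁅x₀, y⁆ = ⁅φ x₀, φ y⁆ := map_commutatorElement φ x₀ y
    have h3 : ⁅φ x₀, φ y⁆ = ⁅x₀, φ y⁆ ^ d := by
      rw [hφx₀]
      have e1 := (commL hcl (φ y)).map_mul (x₀ ^ d) k₁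
      simp only [commL_apply] at e1
      rw [e1, hk k₁ hk₁π, mul_one]
      have e2 := (commL hcl (φ y)).map_pow x₀ d
      simpa only [commL_apply] using e2
    have h4 : ⁅x₀, φ y⁆ ^ d = ⁅x₀, y⁆ ^ d := by rw [← h3, ← h2, h1]
    have h5 : ⁅x₀, y⁻¹ * φ y⁆ = (⁅x₀, y⁆)⁻¹ * ⁅x₀, φ y⁆ := by
      have e1 := (commR hcl x₀).map_mul y⁻¹ (φ y)
      rw [map_inv] at e1
      simpa only [commR_apply] using e1
    have hcomm' : Commute (⁅x₀, y⁆)⁻¹ ⁅x₀, φ y⁆ := by
      apply Commute.inv_left
      exact (mem_center_iff.mp (comm_mem_center hcl x₀ y) _).symm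
    have h6 : (⁅x₀, y⁻¹ * φ y⁆) ^ d = 1 := by
      rw [h5, hcomm'.mul_pow, inv_pow, h4, inv_mul_cancel]
    have h7 : (⁅x₀, y⁻¹ * φ y⁆) ^ p = 1 := hwp _ (hcm _ _)
    have h8 := pow_gcd_eq_one.mpr ⟨h6, h7⟩
    rwa [hpd, pow_one] at h8
  by_cases hKZ : K = center R
  · left
    refine ⟨centralizer {x₀}, ?_, ?_⟩
    · intro htop
      apply hx₀K
      rw [hKZ, mem_center_iff]
      intro g
      have hg : g ∈ centralizer ({x₀} : Set R) := by rw [htop]; exact mem_top g
      exact MC.mem_centralizer_singleton.mp hg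
    · intro φ y
      rw [MC.mem_centralizer_singleton]
      have h := key φ y (fun k₁ hk₁ => by
        have hkc : k₁ ∈ center R := by rw [← hKZ]; exact hkerK k₁ hk₁
        rw [commutatorElement_eq_one_iff_commute]
        exact (mem_center_iff.mp hkc (φ y)).symm)
      exact (commutatorElement_eq_one_iff_commute.mp h).eq.symm
  · right
    have hidx : (center R).index = p ^ 2 := by
      have := D.index_center hodd; rwa [hn, mul_one] at this
    have hKtop : K ≠ ⊤ := by
      intro h; apply hx₀K; rw [h]; exact mem_top _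
    have hKi : K.index = p := index_eq_prime_of_between hpp hidx hZK hKZ hKtop
    have hA : ∀ u ∈ K, ∀ v ∈ K, u * v = v * u := by
      intro u hu v hv
      by_cases huZ : u ∈ center R
      · exact (mem_center_iff.mp huZ v).symm
      · have hH1 : center R ≤ center R ⊔ zpowers u := le_sup_left
        have hH2 : center R ⊔ zpowers u ≤ K := sup_le hZK (zpowers_le.mpr hu)
        have huH : u ∈ center R ⊔ zpowers u := (le_sup_right : zpowers u ≤ _) (mem_zpowers u)
        have hHne : center R ⊔ zpowers u ≠ center R := by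
          intro h; apply huZ; rw [← h]; exact huH
        have hHtop : center R ⊔ zpowers u ≠ ⊤ := by
          intro h; apply hKtop; rw [eq_top_iff, ← h]; exact hH2
        have hHi := index_eq_prime_of_between hpp hidx hH1 hHne hHtop
        have hHK : center R ⊔ zpowers u = K := eq_of_le_of_index_eq hH2 (hHi.trans hKi.symm)
        have hHc : center R ⊔ zpowers u ≤ centralizer ({u} : Set R) :=
          sup_le (center_le_centralizer _)
            (zpowers_le.mpr (MC.mem_centralizer_singleton.mpr rfl))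
        have hv' : v ∈ centralizer ({u} : Set R) := hHc (by rw [hHK]; exact hv)
        exact (MC.mem_centralizer_singleton.mp hv').symm
    have hB : ∀ v ∈ K, x₀ * v = v * x₀ → v ∈ center R := by
      intro v hv hxv
      have hKC : K ≤ centralizer ({v} : Set R) := by
        intro u hu
        rw [MC.mem_centralizer_singleton]
        exact hA u hu v hv
      have hx₀C : x₀ ∈ centralizer ({v} : Set R) := MC.mem_centralizer_singleton.mpr hxv
      have hdvd : (centralizer ({v} : Set R)).index ∣ p := hKi ▸ index_dvd_of_le hKC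
      rcases (Nat.dvd_prime hpp).mp hdvd with h1 | h1
      · rw [index_eq_one] at h1
        rw [mem_center_iff]
        intro g
        have hg : g ∈ centralizer ({v} : Set R) := by rw [h1]; exact mem_top g
        exact MC.mem_centralizer_singleton.mp hg
      · exfalso
        apply hx₀K
        rw [eq_of_le_of_index_eq hKC (hKi.trans h1.symm)]
        exact hx₀C
    refine ⟨center R, K, hcl, hZK, hKZ, ?_⟩
    intro φ u hu
    apply hB _ (K.mul_mem (K.inv_mem hu) (hφK φ u hu))
    have h := key φ u (fun k₁ hk₁ => by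
      rw [commutatorElement_eq_one_iff_commute]
      exact hA k₁ (hkerK k₁ hk₁) (φ u) (hφK φ u hu))
    exact (commutatorElement_eq_one_iff_commute.mp h).eq

end struct

end MA
end Cfsg.Agent.Lib.Helper68
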