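import Mathlib
import Cfsg.Prelude.Def_OddOrderLocal
import Cfsg.Agent.Lib.Helper68.BlackburnA
import Cfsg.Agent.Lib.Helper68.MetaActA

/-! Two-generated `2`-groups of class two with derived subgroup of exponent two,
all of whose subgroups are two-generated, are metacyclic. -/

set_option autoImplicit false
set_option linter.unusedSectionVars false

namespace Cfsg.Agent.Lib.Helper68
namespace BB

open Subgroup
open scoped commutatorElement

/-- every subgroup is generated by two elements -/
def TwoGen (S : Type*) [Group S] : Prop :=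
  ∀ H : Subgroup S, ∃ x y : S, H = closure {x, y}

theorem twoGen_quotient {S : Type*} [Group S] (N : Subgroup S) [N.Normal] (h : TwoGen S) :
    TwoGen (S ⧸ N) := by
  intro Hb
  obtain ⟨x, y, hxy⟩ := h (Hb.comap (QuotientGroup.mk' N))
  refine ⟨QuotientGroup.mk x, QuotientGroup.mk y, ?_⟩
  have := map_comap_eq_self_of_surjective (QuotientGroup.mk'_surjective N) Hb
  rw [← this, hxy, MonoidHom.map_closure, Set.image_pair]
  rfl

/-- the subgroup generated by two commuting involutions has at most the four obvious elements -/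
theorem closure_pair_subset {S : Type*} [Group S] {u v : S} (huu : u * u = 1) (hvv : v * v = 1)
    (huv : u * v = v * u) :
    ∀ e ∈ closure ({u, v} : Set S), e = 1 ∨ e = u ∨ e = v ∨ e = u * v := by
  have h1 : u * (u * v) = v := by rw [← mul_assoc, huu, one_mul]
  have h2 : v * (u * v) = u := by rw [← mul_assoc, ← huv, mul_assoc, hvv, mul_one]
  have h3 : (u * v) * u = v := by rw [mul_assoc, ← huv, ← mul_assoc, huu, one_mul]
  have h4 : (u * v) * v = u := by rw [mul_assoc, hvv, mul_one]
  have h5 : (u * v) * (u * v) = 1 := by rw [mul_assoc, h2, huu]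
  have hui : u⁻¹ = u := inv_eq_of_mul_eq_one_right huu
  have hvi : v⁻¹ = v := inv_eq_of_mul_eq_one_right hvv
  intro e he
  induction he using closure_induction with
  | mem x hx =>
    rcases hx with rfl | rfl
    · exact Or.inr (Or.inl rfl)
    · exact Or.inr (Or.inr (Or.inl rfl))
  | one => exact Or.inl rfl
  | mul x y _ _ hx hy =>
    rcases hx with rfl | rfl | rfl | rfl <;> rcases hy with rfl | rfl | rfl | rfl
    · exact Or.inl (one_mul 1)
    · exact Or.inr (Or.inl (one_mul _))
    · exact Or.inr (Or.inr (Or.inl (one_mul _)))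
    · exact Or.inr (Or.inr (Or.inr (one_mul _)))
    · exact Or.inr (Or.inl (mul_one _))
    · exact Or.inl huu
    · exact Or.inr (Or.inr (Or.inr rfl))
    · exact Or.inr (Or.inr (Or.inl h1))
    · exact Or.inr (Or.inr (Or.inl (mul_one _)))
    · exact Or.inr (Or.inr (Or.inr huv.symm))
    · exact Or.inl hvv
    · exact Or.inr (Or.inl h2)
    · exact Or.inr (Or.inr (Or.inr (mul_one _)))
    · exact Or.inr (Or.inr (Or.inl h3))
    · exact Or.inr (Or.inl h4)
    · exact Or.inl h5
  | inv x _ hx =>
    rcases hx with rfl | rfl | rfl | rfl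
    · exact Or.inl inv_one
    · exact Or.inr (Or.inl hui)
    · exact Or.inr (Or.inr (Or.inl hvi))
    · refine Or.inr (Or.inr (Or.inr ?_))
      rw [mul_inv_rev, hui, hvi, huv]

theorem closure_pair_le {S : Type*} [Group S] {x y : S} {K : Subgroup S} (hx : x ∈ K) (hy : y ∈ K) :
    closure ({x, y} : Set S) ≤ K := by
  rw [closure_le]
  rintro z (rfl | rfl)
  · exact hx
  · exact hy

section classtwo

variable {S : Type*} [Group S] (hcl : commutator S ≤ center S)
  (hexp : ∀ x ∈ commutator S, x ^ 2 = 1)

include hcl hexp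

omit hcl in
theorem comm_sq (g h : S) : ⁅g, h⁆ ^ 2 = 1 :=
  hexp _ (by rw [_root_.commutator_def]; exact commutator_mem_commutator (mem_top g) (mem_top h))

omit hcl in
theorem comm_symm (g h : S) : ⁅h, g⁆ = ⁅g, h⁆ := by
  rw [← commutatorElement_inv, inv_eq_iff_mul_eq_one, ← sq]
  exact comm_sq hexp g h

theorem comm_sq_left (g h : S) : ⁅g ^ 2, h⁆ = 1 := by
  have := (MA.commL hcl h).map_pow g 2
  simp only [MA.commL_apply] at this
  rw [this]
  exact comm_sq hexp g h

theorem sq_mem_center (g : S) : g ^ 2 ∈ center S := by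
  rw [mem_center_iff]
  intro h
  exact ((commutatorElement_eq_one_iff_commute.mp (comm_sq_left hcl hexp g h)).eq).symm

theorem mul_sq (u v : S) : (u * v) ^ 2 = u ^ 2 * v ^ 2 * ⁅v, u⁆ := by
  have hc := mem_center_iff.mp (MA.comm_mem_center hcl v u)
  have key : ∀ t : S, v * u = t * u * v → (∀ g : S, g * t = t * g) →
      (u * v) ^ 2 = u ^ 2 * v ^ 2 * t := by
    intro t ht hct
    calc (u * v) ^ 2 = u * (v * u) * v := by rw [sq]; group
      _ = u * (t * u * v) * v := by rw [ht]
      _ = (u * t) * (u * v * v) := by group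
      _ = (t * u) * (u * v * v) := by rw [hct u]
      _ = t * (u ^ 2 * v ^ 2) := by rw [sq, sq]; group
      _ = u ^ 2 * v ^ 2 * t := (hct _).symm
  exact key ⁅v, u⁆ (by rw [commutatorElement_def]; group) hc

theorem mul_pow_four (u v : S) : (u * v) ^ 4 = u ^ 4 * v ^ 4 := by
  have hu := mem_center_iff.mp (sq_mem_center hcl hexp u)
  have hv := mem_center_iff.mp (sq_mem_center hcl hexp v)
  have hc := mem_center_iff.mp (MA.comm_mem_center hcl v u)
  have e4 : (u * v) ^ 4 = ((u * v) ^ 2) ^ 2 := by rw [← pow_mul]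
  rw [e4, mul_sq hcl hexp]
  have c1 : Commute (u ^ 2 * v ^ 2) ⁅v, u⁆ := hc _
  rw [c1.mul_pow, comm_sq hexp, mul_one]
  have c2 : Commute (u ^ 2) (v ^ 2) := (hu _).symm
  rw [c2.mul_pow, ← pow_mul, ← pow_mul]

theorem mul_pow_two_pow (u v : S) (j : ℕ) (hj : 2 ≤ j) :
    (u * v) ^ 2 ^ j = u ^ 2 ^ j * v ^ 2 ^ j := by
  obtain ⟨i, rfl⟩ := Nat.exists_eq_add_of_le hj
  have hu := mem_center_iff.mp (sq_mem_center hcl hexp (u ^ 2))
  have e : (2 : ℕ) ^ (2 + i) = 4 * 2 ^ i := by rw [pow_add]; norm_num
  rw [e, pow_mul, pow_mul u, pow_mul v, mul_pow_four hcl hexp]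
  have c : Commute (u ^ 4) (v ^ 4) := by
    have : u ^ 4 = (u ^ 2) ^ 2 := by rw [← pow_mul]
    rw [this]
    exact (hu _).symm
  exact c.mul_pow _

omit hexp in
/-- all commutators are powers of the commutator of a generating pair -/
theorem comm_mem_zpowers {x y : S} (hxy : closure ({x, y} : Set S) = ⊤) (g h : S) :
    ⁅g, h⁆ ∈ zpowers ⁅x, y⁆ := by
  have step1 : ∀ h : S, ⁅x, h⁆ ∈ zpowers ⁅x, y⁆ := by
    intro h
    have hle : closure ({x, y} : Set S) ≤ (zpowers ⁅x, y⁆).comap (MA.commR hcl x) := by
      apply closure_pair_le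
      · rw [mem_comap, MA.commR_apply, commutatorElement_self]
        exact one_mem _
      · rw [mem_comap, MA.commR_apply]
        exact mem_zpowers _
    have := hle (by rw [hxy]; exact mem_top h)
    rwa [mem_comap, MA.commR_apply] at this
  have step2 : ∀ h : S, ⁅y, h⁆ ∈ zpowers ⁅x, y⁆ := by
    intro h
    have hle : closure ({x, y} : Set S) ≤ (zpowers ⁅x, y⁆).comap (MA.commR hcl y) := by
      apply closure_pair_le
      · rw [mem_comap, MA.commR_apply, ← commutatorElement_inv x y]
        exact inv_mem (mem_zpowers _)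
      · rw [mem_comap, MA.commR_apply, commutatorElement_self]
        exact one_mem _
    have := hle (by rw [hxy]; exact mem_top h)
    rwa [mem_comap, MA.commR_apply] at this
  have hle : closure ({x, y} : Set S) ≤ (zpowers ⁅x, y⁆).comap (MA.commL hcl h) := by
    apply closure_pair_le
    · rw [mem_comap, MA.commL_apply]; exact step1 h
    · rw [mem_comap, MA.commL_apply]; exact step2 h
  have := hle (by rw [hxy]; exact mem_top g)
  rwa [mem_comap, MA.commL_apply] at this

omit hexp in
/-- the final step: a generating pair whose commutator is a power of the first generator -/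
theorem isMetacyclic_of_pair {x y : S} (hxy : closure ({x, y} : Set S) = ⊤)
    (hc : ⁅x, y⁆ ∈ zpowers x) : Cfsg.IsMetacyclic S := by
  have hN : (zpowers x).Normal := by
    constructor
    intro n hn g
    obtain ⟨z, rfl⟩ := mem_zpowers_iff.mp hn
    have e : g * x ^ z * g⁻¹ = (⁅g, x⁆ * x) ^ z := by
      rw [commutatorElement_def]
      have : g * x * g⁻¹ * x⁻¹ * x = g * x * g⁻¹ := by group
      rw [this]
      exact conj_zpow.symm
    rw [e]
    apply zpow_mem
    exact mul_mem (zpowers_le.mpr hc (comm_mem_zpowers hcl hxy g x)) (mem_zpowers x)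
  refine ⟨zpowers x, hN, inferInstance, ?_⟩
  rw [isCyclic_iff_exists_zpowers_eq_top]
  refine ⟨QuotientGroup.mk y, ?_⟩
  rw [eq_top_iff]
  intro q _
  obtain ⟨g, rfl⟩ := QuotientGroup.mk_surjective q
  have hle : closure ({x, y} : Set S) ≤
      (zpowers (QuotientGroup.mk y : S ⧸ zpowers x)).comap (QuotientGroup.mk' (zpowers x)) := by
    apply closure_pair_le
    · rw [mem_comap, QuotientGroup.mk'_apply,
        (QuotientGroup.eq_one_iff x).mpr (mem_zpowers x)]
      exact one_mem _
    · rw [mem_comap, QuotientGroup.mk'_apply]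
      exact mem_zpowers _
  exact hle (by rw [hxy]; exact mem_top g)

end classtwo

section core

variable {S : Type*} [Group S] [Finite S]

theorem core (h2 : IsPGroup 2 S) (hT : TwoGen S) (hcl : commutator S ≤ center S)
    (hexp : ∀ x ∈ commutator S, x ^ 2 = 1) (x y : S) (hxy : closure ({x, y} : Set S) = ⊤)
    (hmin : ∀ x' y' : S, closure ({x', y'} : Set S) = ⊤ →
      orderOf x + orderOf y ≤ orderOf x' + orderOf y')
    (hle : orderOf x ≤ orderOf y)
    (hno : ∀ x' y' : S, closure ({x', y'} : Set S) = ⊤ → ⁅x', y'⁆ ∉ zpowers x') : False := by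
  classical
  obtain ⟨c, hc⟩ : ∃ c : S, c = ⁅x, y⁆ := ⟨_, rfl⟩
  have hcx : c ∉ zpowers x := by rw [hc]; exact hno x y hxy
  have hyx : closure ({y, x} : Set S) = ⊤ := by rw [Set.pair_comm]; exact hxy
  have hcy : c ∉ zpowers y := by
    have := hno y x hyx
    rwa [comm_symm hexp x y, ← hc] at this
  have hc1 : c ≠ 1 := fun h => hcx (h ▸ one_mem _)
  have hcc : c * c = 1 := by rw [← sq, hc]; exact comm_sq hexp x y
  have hcZ : ∀ g : S, g * c = c * g := mem_center_iff.mp (hc ▸ MA.comm_mem_center hcl x y)
  have hT1 : ∀ w ∈ zpowers y, closure ({x * w, y} : Set S) = ⊤ := by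
    intro w hw
    rw [eq_top_iff, ← hxy]
    apply closure_pair_le
    · have h1 : x * w ∈ closure ({x * w, y} : Set S) := subset_closure (by simp)
      have h2 : w ∈ closure ({x * w, y} : Set S) :=
        (zpowers_le.mpr (subset_closure (by simp))) hw
      have := mul_mem h1 (inv_mem h2)
      rwa [mul_inv_cancel_right] at this
    · exact subset_closure (by simp)
  have hT1c : ∀ w ∈ zpowers y, ⁅x * w, y⁆ = c := by
    intro w hw
    have e := (MA.commL hcl y).map_mul x w
    simp only [MA.commL_apply] at e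
    have hwy : ⁅w, y⁆ = 1 := by
      rw [commutatorElement_eq_one_iff_commute]
      obtain ⟨z, rfl⟩ := mem_zpowers_iff.mp hw
      exact (Commute.refl y).zpow_left z
    rw [e, hwy, mul_one, hc]
  have hA : ∀ w ∈ zpowers y, c ∉ zpowers (x * w) := by
    intro w hw; rw [← hT1c w hw]; exact hno _ _ (hT1 w hw)
  have hB : ∀ w ∈ zpowers y, orderOf x ≤ orderOf (x * w) := by
    intro w hw; have := hmin _ _ (hT1 w hw); omega
  obtain ⟨m, hm⟩ := (IsPGroup.iff_orderOf.mp h2) x
  obtain ⟨n, hn⟩ := (IsPGroup.iff_orderOf.mp h2) y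
  have hmn : m ≤ n := by
    rw [hm, hn] at hle
    exact (Nat.pow_le_pow_iff_right (by norm_num)).mp hle
  have hx1 : x ≠ 1 := by
    intro h; apply hc1; rw [hc, h, commutatorElement_one_left]
  have hm1 : 1 ≤ m := by
    by_contra hlt
    have : m = 0 := by omega
    rw [this, pow_zero, orderOf_eq_one_iff] at hm
    exact hx1 hm
  have hn1 : 1 ≤ n := le_trans hm1 hmn
  obtain ⟨ιx, hιx⟩ : ∃ ιx : S, ιx = x ^ 2 ^ (m - 1) := ⟨_, rfl⟩
  obtain ⟨ιy, hιy⟩ : ∃ ιy : S, ιy = y ^ 2 ^ (n - 1) := ⟨_, rfl⟩
  have hιx2 : ιx * ιx = 1 := by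
    rw [hιx, ← pow_add, ← two_mul, ← pow_succ', Nat.sub_add_cancel hm1, ← hm, pow_orderOf_eq_one]
  have hιy2 : ιy * ιy = 1 := by
    rw [hιy, ← pow_add, ← two_mul, ← pow_succ', Nat.sub_add_cancel hn1, ← hn, pow_orderOf_eq_one]
  have hιx1 : ιx ≠ 1 := by
    intro h
    rw [hιx] at h
    have := orderOf_dvd_of_pow_eq_one h
    rw [hm, Nat.pow_dvd_pow_iff_le_right (by norm_num)] at this
    omega
  have hιy1 : ιy ≠ 1 := by
    intro h
    rw [hιy] at h
    have := orderOf_dvd_of_pow_eq_one h
    rw [hn, Nat.pow_dvd_pow_iff_le_right (by norm_num)] at this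
    omega
  have hιxc : ιx ≠ c := by
    intro h; apply hcx; rw [← h, hιx]; exact pow_mem (mem_zpowers x) _
  have hιyc : ιy ≠ c := by
    intro h; apply hcy; rw [← h, hιy]; exact pow_mem (mem_zpowers y) _
  have hιyinv : ιy⁻¹ = ιy := inv_eq_of_mul_eq_one_right hιy2
  rcases Nat.lt_or_ge n 2 with hn2 | hn2
  · -- both generators are involutions
    have hn' : n = 1 := by omega
    have hm' : m = 1 := by omega
    have hx2 : x ^ 2 = 1 := by
      have := pow_orderOf_eq_one x
      rwa [hm, hm', pow_one] at this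
    have hy2 : y ^ 2 = 1 := by
      have := pow_orderOf_eq_one y
      rwa [hn, hn', pow_one] at this
    have h := mul_sq hcl hexp x y
    rw [hx2, hy2, one_mul, one_mul, comm_symm hexp x y, ← hc] at h
    apply hA y (mem_zpowers y)
    rw [← h]; exact pow_mem (mem_zpowers _) 2
  · have hy2Z : y ^ 2 ∈ center S := sq_mem_center hcl hexp y
    have hιyZ : ιy ∈ center S := by
      have : ιy = (y ^ 2) ^ 2 ^ (n - 2) := by
        rw [hιy, ← pow_mul, ← pow_succ']
        congr 2; omega
      rw [this]; exact pow_mem hy2Z _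
    have hιyZ' := mem_center_iff.mp hιyZ
    obtain ⟨E, hE⟩ : ∃ E : Subgroup S, E = closure ({c, ιy, ιx} : Set S) := ⟨_, rfl⟩
    have hcE : c ∈ E := by rw [hE]; exact subset_closure (by simp)
    have hιyE : ιy ∈ E := by rw [hE]; exact subset_closure (by simp)
    have hιxE : ιx ∈ E := by rw [hE]; exact subset_closure (by simp)
    have hEcent : E ≤ centralizer (E : Set S) := by
      rw [hE, centralizer_closure, closure_le]
      intro g hg
      rw [SetLike.mem_coe, mem_centralizer_iff]
      intro h hh
      simp only [Set.mem_insert_iff, Set.mem_singleton_iff] at hg hh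
      rcases hg with hg | hg | hg <;> rcases hh with hh | hh | hh <;> rw [hg, hh] <;>
        first
        | rfl
        | exact hcZ _
        | exact (hcZ _).symm
        | exact hιyZ' _
        | exact (hιyZ' _).symm
    have hEcomm : ∀ e ∈ E, ∀ f ∈ E, e * f = f * e := fun e he f hf =>
      (mem_centralizer_iff.mp (hEcent hf) e he)
    have hEsq : ∀ e ∈ E, e * e = 1 := by
      intro e he
      have he' := he
      rw [hE] at he'
      induction he' using closure_induction with
      | mem g hg =>
        simp only [Set.mem_insert_iff, Set.mem_singleton_iff] at hg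
        rcases hg with hg | hg | hg <;> rw [hg]
        · exact hcc
        · exact hιy2
        · exact hιx2
      | one => exact one_mul 1
      | mul a b ha hb iha ihb =>
        have haE : a ∈ E := by rw [hE]; exact ha
        have hbE : b ∈ E := by rw [hE]; exact hb
        have hab := hEcomm a haE b hbE
        calc a * b * (a * b) = a * (b * a) * b := by group
          _ = a * (a * b) * b := by rw [hab]
          _ = (a * a) * (b * b) := by group
          _ = 1 := by rw [iha haE, ihb hbE, one_mul]
      | inv a ha iha =>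
        have haE : a ∈ E := by rw [hE]; exact ha
        rw [← mul_inv_rev, iha haE, inv_one]
    obtain ⟨u, v, huv⟩ := hT E
    have huE : u ∈ E := by rw [huv]; exact subset_closure (by simp)
    have hvE : v ∈ E := by rw [huv]; exact subset_closure (by simp)
    have hsub := closure_pair_subset (hEsq u huE) (hEsq v hvE) (hEcomm u huE v hvE)
    have hEF : ∀ e ∈ E, e ∈ ({1, u, v, u * v} : Finset S) := by
      intro e he
      rw [huv] at he
      have := hsub e he
      simp only [Finset.mem_insert, Finset.mem_singleton]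
      exact this
    have hD : ({1, c, ιy, c * ιy, ιx} : Finset S) ⊆ {1, u, v, u * v} := by
      intro e he
      simp only [Finset.mem_insert, Finset.mem_singleton] at he
      apply hEF
      rcases he with he | he | he | he | he <;> rw [he]
      exacts [one_mem _, hcE, hιyE, mul_mem hcE hιyE, hιxE]
    have hcard : ({1, c, ιy, c * ιy, ιx} : Finset S).card ≤ 4 :=
      (Finset.card_le_card hD).trans Finset.card_le_four
    have hmem : ιx = ιy ∨ ιx = c * ιy := by
      by_contra hcon
      push Not at hcon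
      have d1 : c * ιy ≠ 1 := by
        intro h
        apply hιyc
        have h1 : c = ιy⁻¹ := eq_inv_of_mul_eq_one_left h
        rw [h1, hιyinv]
      have d2 : ιy ≠ c * ιy := by
        intro h
        apply hc1
        have h1 : c * ιy * ιy⁻¹ = ιy * ιy⁻¹ := by rw [← h]
        rwa [mul_inv_cancel_right, mul_inv_cancel] at h1
      have d3 : c ≠ c * ιy := by
        intro h
        have h1 : c⁻¹ * c = c⁻¹ * (c * ιy) := by rw [← h]
        rw [inv_mul_cancel, inv_mul_cancel_left] at h1
        exact hιy1 h1.symm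
      have n4 : c * ιy ∉ ({ιx} : Finset S) := by
        simp only [Finset.mem_singleton]; exact fun h => hcon.2 h.symm
      have n3 : ιy ∉ ({c * ιy, ιx} : Finset S) := by
        simp only [Finset.mem_insert, Finset.mem_singleton, not_or]
        exact ⟨d2, fun h => hcon.1 h.symm⟩
      have n2 : c ∉ ({ιy, c * ιy, ιx} : Finset S) := by
        simp only [Finset.mem_insert, Finset.mem_singleton, not_or]
        exact ⟨fun h => hιyc h.symm, d3, fun h => hιxc h.symm⟩
      have n1 : (1 : S) ∉ ({c, ιy, c * ιy, ιx} : Finset S) := by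
        simp only [Finset.mem_insert, Finset.mem_singleton, not_or]
        exact ⟨fun h => hc1 h.symm, fun h => hιy1 h.symm, fun h => d1 h.symm,
          fun h => hιx1 h.symm⟩
      have h5 : ({1, c, ιy, c * ιy, ιx} : Finset S).card = 5 := by
        rw [Finset.card_insert_of_notMem n1, Finset.card_insert_of_notMem n2,
          Finset.card_insert_of_notMem n3, Finset.card_insert_of_notMem n4, Finset.card_singleton]
      omega
    -- `ιx * ιy⁻¹ ∈ {1, c}`
    have hq : ιx * ιy⁻¹ = 1 ∨ ιx * ιy⁻¹ = c := by
      rcases hmem with h | h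
      · left; rw [h, mul_inv_cancel]
      · right; rw [h, mul_inv_cancel_right]
    -- the case `m = 1`
    rcases Nat.lt_or_ge m 2 with hm2 | hm2
    · have hm' : m = 1 := by omega
      have hxι : ιx = x := by rw [hιx, hm', Nat.sub_self, pow_zero, pow_one]
      have hxZ : x ∈ center S := by
        rw [← hxι]
        rcases hmem with h | h
        · rw [h]; exact hιyZ
        · rw [h]; exact mul_mem (hc ▸ MA.comm_mem_center hcl x y) hιyZ
      apply hc1
      rw [hc, commutatorElement_eq_one_iff_commute]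
      exact (mem_center_iff.mp hxZ y).symm
    · -- `m ≥ 2`
      obtain ⟨w₀, hw₀⟩ : ∃ w₀ : S, w₀ = (y ^ 2 ^ (n - m))⁻¹ := ⟨_, rfl⟩
      have hw₀y : w₀ ∈ zpowers y := by
        rw [hw₀]; exact inv_mem (pow_mem (mem_zpowers y) _)
      have hw₀pow : w₀ ^ 2 ^ (m - 1) = ιy⁻¹ := by
        rw [hw₀, inv_pow, ← pow_mul, ← pow_add, hιy]
        congr 3; omega
      have hR1 : (x * w₀) ^ 2 ^ (m - 1) ≠ 1 := by
        intro h
        have h1 := orderOf_dvd_of_pow_eq_one h
        have h2 := Nat.le_of_dvd (by positivity) h1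
        have h3 := hB w₀ hw₀y
        rw [hm] at h3
        have h4 : 2 ^ (m - 1) < 2 ^ m := Nat.pow_lt_pow_right (by norm_num) (by omega)
        omega
      have hRc : (x * w₀) ^ 2 ^ (m - 1) ≠ c := by
        intro h
        apply hA w₀ hw₀y
        rw [← h]; exact pow_mem (mem_zpowers _) _
      have hfin : ∀ t : S, (t = 1 ∨ t = c) → (x * w₀) ^ 2 ^ (m - 1) = ιx * ιy⁻¹ * t → False := by
        intro t ht hr
        rcases hq with hq | hq <;> rcases ht with ht | ht <;> rw [hq, ht] at hr
        · exact hR1 (by rw [hr, mul_one])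
        · exact hRc (by rw [hr, one_mul])
        · exact hRc (by rw [hr, mul_one])
        · exact hR1 (by rw [hr, hcc])
      rcases Nat.lt_or_ge m 3 with hm3 | hm3
      · -- `m = 2`
        have hm' : m = 2 := by omega
        have hsq := mul_sq hcl hexp x w₀
        have h21 : (2 : ℕ) ^ (2 - 1) = 2 := by norm_num
        have hx2 : x ^ 2 = ιx := by rw [hιx, hm', h21]
        have hw2 : w₀ ^ 2 = ιy⁻¹ := by
          have := hw₀pow
          rwa [hm', h21] at this
        have ht : ⁅w₀, x⁆ = 1 ∨ ⁅w₀, x⁆ = c := by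
          rcases Nat.lt_or_ge n 3 with hn3 | hn3
          · right
            have hn' : n = 2 := by omega
            have hw : w₀ = y⁻¹ := by rw [hw₀, hn', hm', Nat.sub_self, pow_zero, pow_one]
            have e := (MA.commL hcl x).map_inv y
            simp only [MA.commL_apply] at e
            rw [hw, e, commutatorElement_inv, hc]
          · left
            have hwZ : w₀ ∈ center S := by
              have : w₀ = ((y ^ 2) ^ 2 ^ (n - m - 1))⁻¹ := by
                rw [hw₀, ← pow_mul, ← pow_succ']
                congr 3; omega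
              rw [this]; exact inv_mem (pow_mem hy2Z _)
            rw [commutatorElement_eq_one_iff_commute]
            exact (mem_center_iff.mp hwZ x).symm
        apply hfin ⁅w₀, x⁆ ht
        have : (2 : ℕ) ^ (m - 1) = 2 := by rw [hm', h21]
        rw [this, hsq, hx2, hw2]
      · -- `m ≥ 3`
        apply hfin 1 (Or.inl rfl)
        rw [mul_pow_two_pow hcl hexp x w₀ (m - 1) (by omega), hw₀pow, ← hιx, mul_one]

end core

section main

theorem isMetacyclic_of_nsub_eq_bot {S : Type*} [Group S] [Finite S] (h2 : IsPGroup 2 S)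
    (hT : TwoGen S) (hN : nsub S 2 = ⊥) : Cfsg.IsMetacyclic S := by
  have hcl : commutator S ≤ center S := by
    have h1 : ⁅commutator S, (⊤ : Subgroup S)⁆ = ⊥ := by
      rw [eq_bot_iff, ← hN]; unfold nsub; exact le_sup_right
    rw [commutator_eq_bot_iff_le_centralizer, coe_top, centralizer_univ] at h1
    exact h1
  have hexp : ∀ x ∈ commutator S, x ^ 2 = 1 := by
    intro x hx
    have h1 : x ^ 2 ∈ nsub S 2 := by
      unfold nsub
      exact mem_sup_left (subset_normalClosure ⟨x, hx, rfl⟩)
    rwa [hN, mem_bot] at h1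
  by_contra hnm
  have hno : ∀ x' y' : S, closure ({x', y'} : Set S) = ⊤ → ⁅x', y'⁆ ∉ zpowers x' :=
    fun x' y' h hc => hnm (isMetacyclic_of_pair hcl h hc)
  have hex : ∃ k : ℕ, ∃ x y : S, closure ({x, y} : Set S) = ⊤ ∧ orderOf x + orderOf y = k := by
    obtain ⟨a, b, hab⟩ := hT ⊤
    exact ⟨_, a, b, hab.symm, rfl⟩
  classical
  obtain ⟨x, y, hxy, hk⟩ := Nat.find_spec hex
  have hmin : ∀ x' y' : S, closure ({x', y'} : Set S) = ⊤ →
      orderOf x + orderOf y ≤ orderOf x' + orderOf y' := by
    intro x' y' h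
    rw [hk]
    exact Nat.find_min' hex ⟨x', y', h, rfl⟩
  by_cases hle : orderOf x ≤ orderOf y
  · exact core h2 hT hcl hexp x y hxy hmin hle hno
  · refine core h2 hT hcl hexp y x (by rw [Set.pair_comm]; exact hxy) ?_ (by omega) hno
    intro x' y' h
    have := hmin x' y' h
    omega

theorem isMetacyclic_of_twoGen_aux : ∀ (n : ℕ) (S : Type*) [Group S] [Finite S],
    Nat.card S = n → IsPGroup 2 S → TwoGen S → Cfsg.IsMetacyclic S := by
  intro n
  induction n using Nat.strong_induction_on with
  | _ n ih =>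
    intro S _ _ hcard h2 hT
    by_cases hN : nsub S 2 = ⊥
    · exact isMetacyclic_of_nsub_eq_bot h2 hT hN
    · have : Fact (Nat.Prime 2) := ⟨Nat.prime_two⟩
      apply isMetacyclic_of_quotient (p := 2) h2
      have hlt : Nat.card (S ⧸ nsub S 2) < n := by
        have h1 := Subgroup.card_eq_card_quotient_mul_card_subgroup (nsub S 2)
        have h3 : 1 < Nat.card (nsub S 2) := by
          rw [Subgroup.one_lt_card_iff_ne_bot]; exact hN
        have h4 : 0 < Nat.card (S ⧸ nsub S 2) := Nat.card_pos
        rw [← hcard, h1]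
        nlinarith
      exact ih _ hlt (S ⧸ nsub S 2) rfl (h2.to_quotient _) (twoGen_quotient _ hT)

theorem isMetacyclic_of_twoGen {S : Type*} [Group S] [Finite S] (h2 : IsPGroup 2 S)
    (hT : TwoGen S) : Cfsg.IsMetacyclic S :=
  isMetacyclic_of_twoGen_aux _ S rfl h2 hT

end main

end BB
end Cfsg.Agent.Lib.Helper68
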