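import Mathlib
import Cfsg.Prelude.Def_OddOrderLocal
import Cfsg.Agent.Lib.Helper68.MetaActA

/-! Metacyclic groups: closure under images and subgroups; the structural dichotomy for
automorphisms of a nonabelian metacyclic `p`-group, `p` odd. -/

set_option autoImplicit false

namespace Cfsg.Agent.Lib.Helper68
namespace MA

open Subgroup
open scoped commutatorElement

theorem isMetacyclic_of_surjective {R S : Type*} [Group R] [Group S] (f : R →* S)
    (hf : Function.Surjective f) (h : Cfsg.IsMetacyclic R) : Cfsg.IsMetacyclic S := by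
  obtain ⟨N, hN, hNc, hQc⟩ := h
  have hN' : (N.map f).Normal := hN.map f hf
  refine ⟨N.map f, hN', ?_, ?_⟩
  · exact isCyclic_of_surjective (f.subgroupMap N) (f.subgroupMap_surjective N)
  · have hle : N ≤ (N.map f).comap f := le_comap_map f N
    apply isCyclic_of_surjective (QuotientGroup.map N (N.map f) f hle)
    intro q
    obtain ⟨s, rfl⟩ := QuotientGroup.mk_surjective q
    obtain ⟨r, rfl⟩ := hf s
    exact ⟨QuotientGroup.mk r, rfl⟩

theorem isMetacyclic_of_injective {S R : Type*} [Group S] [Group R] (f : S →* R)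
    (hf : Function.Injective f) (h : Cfsg.IsMetacyclic R) : Cfsg.IsMetacyclic S := by
  obtain ⟨N, hN, hNc, hQc⟩ := h
  have hM : (N.comap f).Normal := hN.comap f
  refine ⟨N.comap f, hM, ?_, ?_⟩
  · let g : ↥(N.comap f) →* ↥N := (f.comp (N.comap f).subtype).codRestrict N (fun x => x.2)
    apply isCyclic_of_injective g
    intro x y hxy
    apply Subtype.ext
    apply hf
    exact congrArg Subtype.val hxy
  · apply isCyclic_of_injective (QuotientGroup.map (N.comap f) N f le_rfl)
    rw [← MonoidHom.ker_eq_bot_iff, QuotientGroup.ker_map, QuotientGroup.map_mk'_self]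

theorem isMetacyclic_of_le {G : Type*} [Group G] {T R : Subgroup G} (hTR : T ≤ R)
    (h : Cfsg.IsMetacyclic ↥R) : Cfsg.IsMetacyclic ↥T :=
  isMetacyclic_of_injective (Subgroup.inclusion hTR) (Subgroup.inclusion_injective hTR) h

section general

variable {R : Type*} [Group R] [Finite R] {p : ℕ} [hp : Fact p.Prime]

/-- **Structural dichotomy** for a nonabelian metacyclic `p`-group, `p` odd. -/
theorem struct_general (hR : IsPGroup p R) (hp2 : p ≠ 2) (hm : Cfsg.IsMetacyclic R)
    (hna : commutator R ≠ ⊥) :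
    (∃ L : Subgroup R, L ≠ ⊤ ∧ ∀ φ : R ≃* R, ∀ x : R, x⁻¹ * φ x ∈ L) ∨
    (∃ Z K : Subgroup R, commutator R ≤ Z ∧ Z ≤ K ∧ K ≠ Z ∧
      ∀ φ : R ≃* R, ∀ x ∈ K, x⁻¹ * φ x ∈ Z) := by
  have hpp := hp.out
  obtain ⟨N, hNn, hNc, hQc⟩ := id hm
  obtain ⟨D⟩ := MC.exists_data hR N hNc hQc
  obtain ⟨c, hc⟩ : ∃ c : R, c = D.a ^ (D.r - 1) := ⟨_, rfl⟩
  have hcomm : commutator R = zpowers c := by rw [hc]; exact D.commutator_eq
  have hcord : orderOf c = p ^ D.n := by rw [hc, D.hn]
  have hc1 : c ≠ 1 := by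
    intro h; apply hna; rw [hcomm, h, zpowers_one_eq_bot]
  have hn1 : 1 ≤ D.n := by
    by_contra hlt
    have h0 : D.n = 0 := by omega
    rw [h0, pow_zero, orderOf_eq_one_iff] at hcord
    exact hc1 hcord
  obtain ⟨T, hT⟩ : ∃ T : Subgroup R, T = zpowers (c ^ p) := ⟨_, rfl⟩
  have hTn : T.Normal := by
    rw [hT, hc, ← pow_mul]; exact D.normal_zpowers_a_pow _
  have hcT : c ∉ T := by
    intro hmem
    rw [hT] at hmem
    obtain ⟨e, he⟩ := MC.exists_nat_pow_of_mem_zpowers hmem
    have h1 : c ^ p ^ (D.n - 1) = 1 := by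
      have h2 : (c ^ p) ^ p ^ (D.n - 1) = 1 := by
        rw [← pow_mul, ← pow_succ', Nat.sub_add_cancel hn1, ← hcord, pow_orderOf_eq_one]
      rw [← he, ← pow_mul, mul_comm, pow_mul, h2, one_pow]
    have h3 := orderOf_dvd_of_pow_eq_one h1
    rw [hcord, Nat.pow_dvd_pow_iff_le_right hpp.one_lt] at h3
    omega
  have hφc : ∀ φ : R ≃* R, φ c ∈ zpowers c := by
    intro φ
    have hch : (commutator R).Characteristic := inferInstance
    have := characteristic_iff_le_comap.mp hch φ (by rw [hcomm]; exact mem_zpowers c)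
    rw [hcomm] at this
    exact this
  have hTle : ∀ φ : R ≃* R, T.map φ.toMonoidHom ≤ T := by
    intro φ
    rw [hT, MonoidHom.map_zpowers, zpowers_le]
    obtain ⟨e, he⟩ := MC.exists_nat_pow_of_mem_zpowers (hφc φ)
    show φ (c ^ p) ∈ zpowers (c ^ p)
    rw [map_pow, ← he, ← pow_mul, mul_comm, pow_mul]
    exact pow_mem (mem_zpowers _) _
  have hTeq : ∀ φ : R ≃* R, T.map φ.toMonoidHom = T := by
    intro φ
    apply le_antisymm (hTle φ)
    intro x hx
    refine ⟨φ.symm x, hTle φ.symm ⟨x, hx, rfl⟩, ?_⟩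
    show φ (φ.symm x) = x
    exact φ.apply_symm_apply x
  -- the quotient
  have hRbar : IsPGroup p (R ⧸ T) := hR.to_quotient T
  have hmbar : Cfsg.IsMetacyclic (R ⧸ T) :=
    isMetacyclic_of_surjective (QuotientGroup.mk' T) (QuotientGroup.mk'_surjective T) hm
  have hcommbar : commutator (R ⧸ T) = (commutator R).map (QuotientGroup.mk' T) := by
    rw [_root_.commutator_def, _root_.commutator_def, map_commutator,
      map_top_of_surjective _ (QuotientGroup.mk'_surjective T)]
  have hcardbar : Nat.card (commutator (R ⧸ T)) = p := by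
    rw [hcommbar, hcomm, MonoidHom.map_zpowers, Nat.card_zpowers]
    apply orderOf_eq_prime
    · rw [← map_pow, QuotientGroup.mk'_apply, QuotientGroup.eq_one_iff, hT]
      exact mem_zpowers _
    · rw [QuotientGroup.mk'_apply, Ne, QuotientGroup.eq_one_iff]
      exact hcT
  obtain ⟨Nb, hNbn, hNbc, hQbc⟩ := id hmbar
  obtain ⟨Db⟩ := MC.exists_data hRbar Nb hNbc hQbc
  have hnb : Db.n = 1 := by
    have h1 := Db.card_commutator
    rw [hcardbar] at h1
    have h2 : p ^ 1 = p ^ Db.n := by rw [pow_one]; exact h1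
    exact (Nat.pow_right_injective hpp.two_le h2).symm
  have hmk : ∀ (φ : R ≃* R) (x : R),
      (QuotientGroup.mk (x⁻¹ * φ x) : R ⧸ T) =
        (QuotientGroup.mk x : R ⧸ T)⁻¹ * (QuotientGroup.congr T T φ (hTeq φ)) (QuotientGroup.mk x) := by
    intro φ x
    rw [QuotientGroup.congr_mk T T φ (hTeq φ) x, QuotientGroup.mk_mul, QuotientGroup.mk_inv]
  rcases struct_one hRbar hp2 Db hnb with ⟨Lb, hLb, hLφ⟩ | ⟨Zb, Kb, h1, h2, h3, h4⟩
  · left
    refine ⟨Lb.comap (QuotientGroup.mk' T), ?_, ?_⟩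
    · intro htop
      apply hLb
      rw [eq_top_iff]
      intro q _
      obtain ⟨x, rfl⟩ := QuotientGroup.mk_surjective q
      have : x ∈ Lb.comap (QuotientGroup.mk' T) := by rw [htop]; exact mem_top x
      exact this
    · intro φ x
      rw [mem_comap, QuotientGroup.mk'_apply, hmk]
      exact hLφ _ _
  · right
    refine ⟨Zb.comap (QuotientGroup.mk' T), Kb.comap (QuotientGroup.mk' T), ?_, comap_mono h2, ?_, ?_⟩
    · intro w hw
      rw [mem_comap]
      apply h1
      rw [hcommbar]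
      exact mem_map_of_mem _ hw
    · intro h
      exact h3 (comap_injective (QuotientGroup.mk'_surjective T) h)
    · intro φ x hx
      rw [mem_comap, QuotientGroup.mk'_apply, hmk]
      exact h4 _ _ hx

end general

end MA
end Cfsg.Agent.Lib.Helper68
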