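import Mathlib
import Cfsg.Prelude.Def_OddOrderLocal
import Cfsg.Prelude.Def_PLocal
import Cfsg.Agent.Lib.Helper03.PGroupFrattini
import Cfsg.Agent.Lib.Helper23.PGroupLCS
import Cfsg.Agent.Lib.Helper26.NormalPP
import Cfsg.Agent.Lib.Helper75.RegularPower
import Cfsg.Agent.Lib.Helper68.BlackburnA
import Cfsg.Agent.Lib.Helper68.BlackburnB
import Cfsg.Agent.Lib.Helper68.MetaActB

/-! Metacyclicity criterion: a finite `p`-group (`p` odd) with `|G : ℧₁(G)| ≤ p²` is metacyclic,
and conversely. -/

set_option autoImplicit false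

namespace Cfsg.Agent.Lib.Helper68
namespace R2

open Subgroup
open scoped commutatorElement

/-- `℧₁(G)`: the subgroup generated by the `p`-th powers -/
abbrev agemo (p : ℕ) (G : Type*) [Group G] : Subgroup G := Cfsg.powerClosure p 1 (⊤ : Subgroup G)

theorem pow_mem_agemo {G : Type*} [Group G] (p : ℕ) (x : G) : x ^ p ∈ agemo p G :=
  Subgroup.subset_closure ⟨x, Subgroup.mem_top x, by rw [pow_one]⟩

instance agemo_normal {G : Type*} [Group G] (p : ℕ) : (agemo p G).Normal :=
  Cfsg.Agent.Lib.Helper75.powerClosure_normal p 1 ⊤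

theorem agemo_le {G : Type*} [Group G] (p : ℕ) (K : Subgroup G) (h : ∀ x : G, x ^ p ∈ K) :
    agemo p G ≤ K := by
  unfold agemo Cfsg.powerClosure
  rw [Subgroup.closure_le]
  rintro _ ⟨x, -, rfl⟩
  rw [pow_one]
  exact h x

theorem agemo_le_frattini {G : Type*} [Group G] [Finite G] {p : ℕ} [Fact p.Prime]
    (hG : IsPGroup p G) : agemo p G ≤ frattini G :=
  agemo_le p _ (fun x => Cfsg.Agent.Lib.Helper03.pow_mem_frattini_of_isPGroup hG x)

theorem agemo_map {G H : Type*} [Group G] [Group H] (p : ℕ) (f : G →* H)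
    (hf : Function.Surjective f) : (agemo p G).map f = agemo p H := by
  unfold agemo
  rw [Cfsg.Agent.Lib.Helper75.powerClosure_map, Subgroup.map_top_of_surjective f hf]

theorem agemo_index_map_le {G H : Type*} [Group G] [Group H] [Finite G] (p : ℕ) (f : G →* H)
    (hf : Function.Surjective f) : (agemo p H).index ≤ (agemo p G).index := by
  rw [← agemo_map p f hf, Subgroup.index_map, MonoidHom.range_eq_top.mpr hf, Subgroup.index_top,
    mul_one]
  apply Nat.le_of_dvd
  · exact Nat.pos_of_ne_zero (Subgroup.index_ne_zero_of_finite)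
  · exact Subgroup.index_dvd_of_le le_sup_left

/-- groups of order at most `p²` are commutative -/
theorem comm_of_card_le_sq {Q : Type*} [Group Q] [Finite Q] {p : ℕ} [hp : Fact p.Prime]
    (hQ : IsPGroup p Q) (h : Nat.card Q ≤ p ^ 2) : ∀ a b : Q, a * b = b * a := by
  obtain ⟨k, hk⟩ := hQ.exists_card_eq
  have hpp := hp.out
  have hk2 : k ≤ 2 := by
    by_contra hcon
    push Not at hcon
    have : p ^ 2 < p ^ k := Nat.pow_lt_pow_right hpp.one_lt hcon
    omega
  interval_cases k
  · have : Subsingleton Q := by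
      rw [← Finite.card_le_one_iff_subsingleton, hk, pow_zero]
    intro a b
    rw [Subsingleton.elim a 1, Subsingleton.elim b 1]
  · rw [pow_one] at hk
    have : IsCyclic Q := isCyclic_of_prime_card hk
    intro a b
    exact (IsCyclic.commGroup).mul_comm a b
  · have := IsPGroup.isMulCommutative_of_card_eq_prime_sq hk
    intro a b
    exact this.is_comm.comm a b

/-- an element outside a small normal subgroup of the Frattini subgroup is part of a generating
pair -/
theorem gen_pair {S : Type*} [Group S] [Finite S] {p : ℕ} [hp : Fact p.Prime] (hS : IsPGroup p S)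
    (K : Subgroup S) [hKn : K.Normal] (hK : K ≤ frattini S) (hidx : K.index ≤ p ^ 2) (g : S)
    (hg : g ∉ K) : ∃ h : S, closure ({g, h} : Set S) = ⊤ := by
  have hpp := hp.out
  have hQp : IsPGroup p (S ⧸ K) := hS.to_quotient K
  have hcardQ : Nat.card (S ⧸ K) ≤ p ^ 2 := by
    rw [← Subgroup.index_eq_card]; exact hidx
  set a : S ⧸ K := QuotientGroup.mk g with ha
  have ha1 : a ≠ 1 := by
    intro h
    exact hg ((QuotientGroup.eq_one_iff g).mp h)
  obtain ⟨b, hb⟩ : ∃ b : S ⧸ K, closure ({a, b} : Set (S ⧸ K)) = ⊤ := by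
    by_cases htop : zpowers a = ⊤
    · refine ⟨1, ?_⟩
      rw [eq_top_iff, ← htop, zpowers_le]
      exact subset_closure (Set.mem_insert _ _)
    · obtain ⟨b, hb⟩ : ∃ b : S ⧸ K, b ∉ zpowers a := by
        by_contra hcon
        push Not at hcon
        exact htop (eq_top_iff.mpr (fun x _ => hcon x))
      refine ⟨b, ?_⟩
      have h1 : (⊥ : Subgroup (S ⧸ K)) < zpowers a := by
        rw [bot_lt_iff_ne_bot]
        intro h
        apply ha1
        have : a ∈ zpowers a := mem_zpowers a
        rw [h, mem_bot] at this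
        exact this
      have h2 : zpowers a < closure ({a, b} : Set (S ⧸ K)) := by
        refine lt_of_le_of_ne ?_ ?_
        · rw [zpowers_le]; exact subset_closure (Set.mem_insert _ _)
        · intro h
          apply hb
          rw [h]
          exact subset_closure (Set.mem_insert_of_mem _ rfl)
      have d1 := Cfsg.Agent.Lib.Helper23.PGroupLCS.p_mul_card_dvd_of_lt hQp h1
      have d2 := Cfsg.Agent.Lib.Helper23.PGroupLCS.p_mul_card_dvd_of_lt hQp h2
      rw [Subgroup.card_bot, mul_one] at d1
      have e1 : p ≤ Nat.card (zpowers a) := Nat.le_of_dvd Nat.card_pos d1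
      have e2 : p * Nat.card (zpowers a) ≤ Nat.card (closure ({a, b} : Set (S ⧸ K))) :=
        Nat.le_of_dvd Nat.card_pos d2
      have e3 : Nat.card (closure ({a, b} : Set (S ⧸ K))) ≤ Nat.card (S ⧸ K) :=
        Subgroup.card_le_card_group _
      have e4 : p * p ≤ p * Nat.card (zpowers a) := Nat.mul_le_mul_left p e1
      have e5 : Nat.card (closure ({a, b} : Set (S ⧸ K))) = Nat.card (S ⧸ K) := by
        have : p ^ 2 = p * p := sq p
        omega
      exact (Subgroup.card_eq_iff_eq_top _).mp e5
  obtain ⟨h, rfl⟩ := QuotientGroup.mk_surjective b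
  refine ⟨h, ?_⟩
  apply frattini_nongenerating
  rw [eq_top_iff]
  intro s _
  have hs : (QuotientGroup.mk s : S ⧸ K) ∈ closure ({a, QuotientGroup.mk h} : Set (S ⧸ K)) := by
    rw [hb]; exact mem_top _
  have himg : closure ({a, QuotientGroup.mk h} : Set (S ⧸ K)) =
      (closure ({g, h} : Set S)).map (QuotientGroup.mk' K) := by
    rw [MonoidHom.map_closure, Set.image_pair]
    rfl
  rw [himg] at hs
  obtain ⟨t, ht, hts⟩ := hs
  have hk : t⁻¹ * s ∈ K := by
    rw [← QuotientGroup.eq]
    exact hts
  have : s = t * (t⁻¹ * s) := by group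
  rw [this]
  exact mul_mem (mem_sup_left ht) (mem_sup_right (hK hk))

/-- the class two case of the criterion -/
theorem isMetacyclic_of_class_two {S : Type*} [Group S] [Finite S] {p : ℕ} [hp : Fact p.Prime]
    (hp2 : p ≠ 2) (hS : IsPGroup p S) (hcl : commutator S ≤ center S)
    (hexp : ∀ x ∈ commutator S, x ^ p = 1) (hidx : (agemo p S).index ≤ p ^ 2) :
    Cfsg.IsMetacyclic S := by
  have hpp := hp.out
  have hcomm_mem : ∀ x y : S, ⁅x, y⁆ ∈ commutator S := fun x y => by
    rw [_root_.commutator_def]; exact commutator_mem_commutator (mem_top x) (mem_top y)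
  have hmul : ∀ x y : S, (x * y) ^ p = x ^ p * y ^ p := by
    intro x y
    have hc_mem : ⁅y⁻¹, x⁻¹⁆ ∈ commutator S := hcomm_mem _ _
    have hc_cen := mem_center_iff.mp (hcl hc_mem)
    apply Cfsg.Agent.Lib.Helper26.mul_pow_prime_comm_central hp2 x y ⁅y⁻¹, x⁻¹⁆ ?_ ?_ ?_
      (hexp _ hc_mem)
    · rw [commutatorElement_def]; group
    · exact (hc_cen x).symm
    · exact (hc_cen y).symm
  -- the `p`-power endomorphism
  let φ : S →* S := { toFun := fun x => x ^ p, map_one' := one_pow p, map_mul' := hmul }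
  have hφ : ∀ x, φ x = x ^ p := fun _ => rfl
  have hrange : agemo p S = φ.range := by
    apply le_antisymm
    · apply agemo_le
      intro x
      exact ⟨x, rfl⟩
    · rintro _ ⟨x, rfl⟩
      exact pow_mem_agemo p x
  -- commutators are `p`-th powers
  have hcomm_le : commutator S ≤ agemo p S := by
    have hQc := comm_of_card_le_sq (hS.to_quotient (agemo p S))
      (by rw [← Subgroup.index_eq_card]; exact hidx)
    rw [_root_.commutator_def, Subgroup.commutator_le]
    intro x _ y _
    rw [← QuotientGroup.eq_one_iff, commutatorElement_def]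
    simp only [QuotientGroup.mk_mul, QuotientGroup.mk_inv]
    rw [hQc (QuotientGroup.mk x) (QuotientGroup.mk y)]
    group
  -- two generators
  by_cases htriv : agemo p S = ⊤
  · -- then `S` is trivial... use frattini
    have hfr : frattini S = ⊤ := top_le_iff.mp (htriv ▸ agemo_le_frattini hS)
    have hbot : (⊥ : Subgroup S) = ⊤ := by
      apply frattini_nongenerating
      rw [hfr]; exact bot_sup_eq _
    refine ⟨⊤, inferInstance, ?_, ?_⟩
    · rw [← hbot]; infer_instance
    · have : Subsingleton (S ⧸ (⊤ : Subgroup S)) := QuotientGroup.subsingleton_quotient_top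
      infer_instance
  obtain ⟨x₀, hx₀⟩ : ∃ x₀ : S, x₀ ∉ agemo p S := by
    by_contra hcon
    push Not at hcon
    exact htriv (eq_top_iff.mpr (fun x _ => hcon x))
  obtain ⟨y₀, hxy₀⟩ := gen_pair hS (agemo p S) (agemo_le_frattini hS) hidx x₀ hx₀
  -- the commutator subgroup is generated by `c`
  set c : S := ⁅x₀, y₀⁆ with hc
  have hcz : commutator S ≤ zpowers c := by
    rw [_root_.commutator_def, Subgroup.commutator_le]
    intro u _ v _
    exact BB.comm_mem_zpowers hcl hxy₀ u v
  -- choose `g` of maximal order with `c ∈ ⟨g⟩`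
  have hne : {g : S | c ∈ zpowers g}.Nonempty := by
    have : c ∈ φ.range := by rw [← hrange]; exact hcomm_le (hcomm_mem _ _)
    obtain ⟨g, hg⟩ := this
    refine ⟨g, ?_⟩
    show c ∈ zpowers g
    rw [← hg, hφ]
    exact pow_mem (mem_zpowers g) p
  obtain ⟨g, hgc, hgmax⟩ := Set.exists_max_image {g : S | c ∈ zpowers g} orderOf
    (Set.toFinite _) hne
  have hgc' : c ∈ zpowers g := hgc
  -- `g` is not a `p`-th power
  have hgK : g ∉ agemo p S := by
    intro hmem
    rw [hrange] at hmem
    obtain ⟨h, hh⟩ := hmem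
    rw [hφ] at hh
    have hzle : zpowers g ≤ zpowers h := by
      rw [zpowers_le, ← hh]; exact pow_mem (mem_zpowers h) p
    have hle := hgmax h (hzle hgc')
    by_cases hh1 : h = 1
    · -- then `g = 1` and everything has order one
      have hg1 : g = 1 := by rw [← hh, hh1, one_pow]
      have hall : ∀ s : S, s = 1 := by
        intro s
        have hc1 : c = 1 := by
          have := hgc'
          rw [hg1, zpowers_one_eq_bot, mem_bot] at this
          exact this
        have h1 := hgmax s (by show c ∈ zpowers s; rw [hc1]; exact one_mem _)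
        rw [hg1, orderOf_one] at h1
        have h2 : 0 < orderOf s := orderOf_pos s
        exact orderOf_eq_one_iff.mp (by omega)
      apply hx₀
      rw [hall x₀]
      exact one_mem _
    · have hdvd : p ∣ orderOf h := by
        obtain ⟨k, hk⟩ := IsPGroup.iff_orderOf.mp hS h
        rcases k with _ | k
        · rw [pow_zero, orderOf_eq_one_iff] at hk; exact absurd hk hh1
        · rw [hk, pow_succ]; exact dvd_mul_left p _
      have ho : orderOf g = orderOf h / p := by
        rw [← hh]; exact orderOf_pow_of_dvd hpp.ne_zero hdvd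
      have hpos : 0 < orderOf h := orderOf_pos h
      have : orderOf h / p < orderOf h := Nat.div_lt_self hpos hpp.one_lt
      omega
  obtain ⟨h, hgh⟩ := gen_pair hS (agemo p S) (agemo_le_frattini hS) hidx g hgK
  exact BB.isMetacyclic_of_pair hcl hgh (zpowers_le.mpr hgc' (hcz (hcomm_mem g h)))

/-- **Criterion**: a finite `p`-group, `p` odd, with `|G : ℧₁(G)| ≤ p²` is metacyclic. -/
theorem isMetacyclic_of_agemo_index_le {G : Type*} [Group G] [Finite G] {p : ℕ}
    [hp : Fact p.Prime] (hp2 : p ≠ 2) (hG : IsPGroup p G) (hidx : (agemo p G).index ≤ p ^ 2) :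
    Cfsg.IsMetacyclic G := by
  apply BB.isMetacyclic_of_quotient hG
  have hsurj := QuotientGroup.mk'_surjective (BB.nsub G p)
  have hmapc : commutator (G ⧸ BB.nsub G p) = (commutator G).map (QuotientGroup.mk' _) := by
    rw [_root_.commutator_def, _root_.commutator_def, Subgroup.map_commutator,
      Subgroup.map_top_of_surjective _ hsurj]
  apply isMetacyclic_of_class_two hp2 (hG.to_quotient _)
  · intro q hq
    rw [hmapc] at hq
    obtain ⟨x, hx, rfl⟩ := hq
    rw [mem_center_iff]
    intro r
    obtain ⟨y, rfl⟩ := QuotientGroup.mk_surjective r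
    rw [QuotientGroup.mk'_apply, ← QuotientGroup.mk_mul, ← QuotientGroup.mk_mul, QuotientGroup.eq]
    have h1 : (y * x)⁻¹ * (x * y) = ⁅x⁻¹, y⁻¹⁆ := by
      rw [commutatorElement_def]; group
    rw [h1]
    apply (le_sup_right : ⁅commutator G, (⊤ : Subgroup G)⁆ ≤ BB.nsub G p)
    exact commutator_mem_commutator (inv_mem hx) (mem_top _)
  · intro q hq
    rw [hmapc] at hq
    obtain ⟨x, hx, rfl⟩ := hq
    rw [QuotientGroup.mk'_apply, ← QuotientGroup.mk_pow, QuotientGroup.eq_one_iff]
    apply (le_sup_left : normalClosure {y : G | ∃ x ∈ commutator G, y = x ^ p} ≤ BB.nsub G p)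
    exact subset_normalClosure ⟨x, hx, rfl⟩
  · exact (agemo_index_map_le p _ hsurj).trans hidx

theorem card_le_of_cyclic_of_pow {C : Type*} [Group C] [Finite C] [hC : IsCyclic C] {p : ℕ}
    (hp : 0 < p) (h : ∀ x : C, x ^ p = 1) : Nat.card C ≤ p := by
  obtain ⟨a, ha⟩ := hC.exists_generator
  rw [← orderOf_eq_card_of_forall_mem_zpowers ha]
  exact Nat.le_of_dvd hp (orderOf_dvd_of_pow_eq_one (h a))

/-- a metacyclic group has `|G : ℧₁(G)| ≤ p²` -/
theorem agemo_index_le_of_isMetacyclic {G : Type*} [Group G] [Finite G] {p : ℕ}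
    [hp : Fact p.Prime] (h : Cfsg.IsMetacyclic G) : (agemo p G).index ≤ p ^ 2 := by
  have hpp := hp.out
  have hQ : Cfsg.IsMetacyclic (G ⧸ agemo p G) :=
    MA.isMetacyclic_of_surjective _ (QuotientGroup.mk'_surjective (agemo p G)) h
  have hexp : ∀ q : G ⧸ agemo p G, q ^ p = 1 := by
    intro q
    obtain ⟨x, rfl⟩ := QuotientGroup.mk_surjective q
    rw [← QuotientGroup.mk_pow, QuotientGroup.eq_one_iff]
    exact pow_mem_agemo p x
  obtain ⟨N, hN, hNc, hQc⟩ := hQ
  have h1 : Nat.card N ≤ p := by
    apply card_le_of_cyclic_of_pow hpp.pos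
    intro x
    apply Subtype.ext
    rw [Subgroup.coe_pow, hexp]; rfl
  have h2 : Nat.card ((G ⧸ agemo p G) ⧸ N) ≤ p := by
    apply card_le_of_cyclic_of_pow hpp.pos
    intro x
    obtain ⟨y, rfl⟩ := QuotientGroup.mk_surjective x
    rw [← QuotientGroup.mk_pow, hexp]; rfl
  rw [Subgroup.index_eq_card, Subgroup.card_eq_card_quotient_mul_card_subgroup N, sq]
  exact Nat.mul_le_mul h2 h1

end R2
end Cfsg.Agent.Lib.Helper68
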