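import Mathlib
import Cfsg.Prelude.Def_OddOrderLocal
import Cfsg.Agent.Lib.Helper23.PGroupLCS
import Cfsg.Agent.Lib.Helper26.NormalPP
import Cfsg.Agent.Lib.Helper75.Regular
import Cfsg.Agent.Lib.Helper68.Rank2Crit

/-! `p`-central `p`-groups (`p` odd): if every element of order `p` is central then the `p`-th power
map is multiplicative on the elements of order dividing `p²`; such a group with `|Ω₁| ≤ p²` is
metacyclic. -/

set_option autoImplicit false

namespace Cfsg.Agent.Lib.Helper68
namespace R2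

open Subgroup
open scoped commutatorElement

universe u

/-- all elements of order dividing `p` are central -/
def PCentral (p : ℕ) (T : Type*) [Group T] : Prop := ∀ x : T, x ^ p = 1 → x ∈ center T

theorem PCentral.subgroup {p : ℕ} {T : Type*} [Group T] (h : PCentral p T) (H : Subgroup T) :
    PCentral p H := by
  intro x hx
  rw [mem_center_iff]
  intro g
  have h1 : (x : T) ^ p = 1 := by rw [← Subgroup.coe_pow, hx]; rfl
  have h2 := mem_center_iff.mp (h _ h1) (g : T)
  exact Subtype.ext h2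

/-- a `p`-group, `p` odd, whose elements of order dividing `p` lie in a subgroup of order `≤ p` is
cyclic -/
theorem isCyclic_of_om_le {P : Type*} [Group P] [Finite P] {p : ℕ} [hp : Fact p.Prime]
    (hp2 : p ≠ 2) (hP : IsPGroup p P) (Z : Subgroup P) (hZ : Nat.card Z ≤ p)
    (h : ∀ x : P, x ^ p = 1 → x ∈ Z) : IsCyclic P := by
  by_contra hcon
  have hpp := hp.out
  have htop : ¬ IsCyclic (⊤ : Subgroup P) := by
    intro hc
    apply hcon
    exact isCyclic_of_surjective (Subgroup.topEquiv : (⊤ : Subgroup P) ≃* P).toMonoidHom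
      (Subgroup.topEquiv : (⊤ : Subgroup P) ≃* P).surjective
  obtain ⟨B, -, -, hBexp, hBcard⟩ :=
    Cfsg.Agent.Lib.Helper26.exists_normal_exp_p_sq hp2 hP ⊤ htop
  have hBZ : B ≤ Z := fun b hb => h b (hBexp b hb)
  have := Subgroup.card_le_of_le hBZ
  rw [hBcard] at this
  have : p ^ 2 ≤ p := this.trans hZ
  have h2 : p < p ^ 2 := by
    calc p = p ^ 1 := (pow_one p).symm
      _ < p ^ 2 := Nat.pow_lt_pow_right hpp.one_lt (by norm_num)
  omega

theorem pow_sq_eq {T : Type*} [Group T] (p : ℕ) (x : T) : x ^ (p ^ 2) = (x ^ p) ^ p := by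
  rw [sq, pow_mul]

/-- the normal closure of one element of a nonabelian nilpotent group is proper -/
theorem normalClosure_ne_top {T : Type*} [Group T] [Group.IsNilpotent T] (x : T)
    (hna : ∃ a b : T, a * b ≠ b * a) : normalClosure ({x} : Set T) ≠ ⊤ := by
  intro htop
  obtain ⟨a, b, hab⟩ := hna
  set M : Subgroup T :=
    (zpowers (QuotientGroup.mk' (commutator T) x)).comap (QuotientGroup.mk' (commutator T))
    with hM
  have hMn : M.Normal := by
    constructor
    intro n hn g
    rw [hM, mem_comap] at hn ⊢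
    have : QuotientGroup.mk' (commutator T) (g * n * g⁻¹) = QuotientGroup.mk' (commutator T) n := by
      rw [QuotientGroup.mk'_apply, QuotientGroup.mk'_apply, QuotientGroup.eq]
      have : (g * n * g⁻¹)⁻¹ * n = ⁅g, n⁻¹⁆ := by rw [commutatorElement_def]; group
      rw [this, _root_.commutator_def]
      exact commutator_mem_commutator (mem_top _) (mem_top _)
    rw [this]
    exact hn
  have hle : normalClosure ({x} : Set T) ≤ M := by
    apply normalClosure_le_normal
    rintro _ rfl
    rw [SetLike.mem_coe, hM, mem_comap]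
    exact mem_zpowers _
  have hMtop : M = ⊤ := top_le_iff.mp (htop ▸ hle)
  have hcyc : IsCyclic (T ⧸ commutator T) := by
    rw [isCyclic_iff_exists_zpowers_eq_top]
    refine ⟨QuotientGroup.mk' (commutator T) x, ?_⟩
    rw [eq_top_iff]
    intro q _
    obtain ⟨t, rfl⟩ := QuotientGroup.mk_surjective q
    have : t ∈ M := by rw [hMtop]; exact mem_top _
    rw [hM, mem_comap] at this
    exact this
  have hbot := Cfsg.Agent.Lib.Helper23.PGroupLCS.commutator_eq_bot_of_isCyclic hcyc
  apply hab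
  have : ⁅a, b⁆ ∈ commutator T := by
    rw [_root_.commutator_def]; exact commutator_mem_commutator (mem_top _) (mem_top _)
  rw [hbot, mem_bot, commutatorElement_eq_one_iff_mul_comm] at this
  exact this

/-- **Key lemma**: in a `p`-central `p`-group, `p` odd, `(xy)^p = x^p y^p` whenever
`x^(p²) = y^(p²) = 1`. -/
theorem pcentral_mul_pow_aux (p : ℕ) [hp : Fact p.Prime] (hp2 : p ≠ 2) :
    ∀ n : ℕ, ∀ (T : Type u) [Group T] [Finite T], Nat.card T = n → IsPGroup p T → PCentral p T →
      ∀ x y : T, x ^ (p ^ 2) = 1 → y ^ (p ^ 2) = 1 → (x * y) ^ p = x ^ p * y ^ p := by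
  intro n
  induction n using Nat.strong_induction_on with
  | _ n ih =>
    intro T _ _ hcard hT hc x y hx hy
    by_cases hcomm : x * y = y * x
    · exact (show Commute x y from hcomm).mul_pow p
    by_cases hH : closure ({x, y} : Set T) = ⊤
    · -- `T = ⟨x, y⟩`
      have hnil : Group.IsNilpotent T := hT.isNilpotent
      have hLne := normalClosure_ne_top x ⟨x, y, hcomm⟩
      set K : Subgroup T := closure ({x, y⁻¹ * x * y} : Set T) with hK
      have hxL : x ∈ normalClosure ({x} : Set T) := subset_normalClosure rfl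
      have hKL : K ≤ normalClosure ({x} : Set T) := by
        apply BB.closure_pair_le hxL
        have := (normalClosure_normal (s := ({x} : Set T))).conj_mem x hxL y⁻¹
        rwa [inv_inv] at this
      have hKne : K ≠ ⊤ := fun h => hLne (top_le_iff.mp (h ▸ hKL))
      have hxK : x ∈ K := subset_closure (Set.mem_insert _ _)
      have hyK : y⁻¹ * x * y ∈ K := subset_closure (Set.mem_insert_of_mem _ rfl)
      have hlt : Nat.card K < n := hcard ▸ Cfsg.Agent.Lib.Helper75.card_subgroup_lt K hKne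
      have hxp_c : x ^ p ∈ center T := hc _ (by rw [← pow_sq_eq]; exact hx)
      have key := ih (Nat.card K) hlt K rfl (hT.to_subgroup K) (hc.subgroup K)
        ⟨x⁻¹, inv_mem hxK⟩ ⟨y⁻¹ * x * y, hyK⟩
        (by apply Subtype.ext; rw [Subgroup.coe_pow]; simp [hx])
        (by
          apply Subtype.ext
          rw [Subgroup.coe_pow]
          show (y⁻¹ * x * y) ^ (p ^ 2) = 1
          have : (y⁻¹ * x * y) ^ (p ^ 2) = y⁻¹ * x ^ (p ^ 2) * y := by
            have := conj_pow (a := y⁻¹) (b := x) (i := p ^ 2)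
            rw [inv_inv] at this
            exact this
          rw [this, hx]; group)
      have key' : (x⁻¹ * (y⁻¹ * x * y)) ^ p = (x⁻¹) ^ p * (y⁻¹ * x * y) ^ p := by
        have := congrArg Subtype.val key
        simpa using this
      have hconj : (y⁻¹ * x * y) ^ p = x ^ p := by
        have : (y⁻¹ * x * y) ^ p = y⁻¹ * x ^ p * y := by
          have := conj_pow (a := y⁻¹) (b := x) (i := p)
          rw [inv_inv] at this
          exact this
        rw [this, mul_assoc, ← mem_center_iff.mp hxp_c y, ← mul_assoc, inv_mul_cancel, one_mul]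
      have hc1 : (x⁻¹ * (y⁻¹ * x * y)) ^ p = 1 := by
        rw [key', hconj, inv_pow, inv_mul_cancel]
      -- the commutator `c = y⁻¹ x⁻¹ y x`
      have hcc : ⁅y⁻¹, x⁻¹⁆ = (x⁻¹ * (y⁻¹ * x * y))⁻¹ := by
        rw [commutatorElement_def]; group
      have hcp : ⁅y⁻¹, x⁻¹⁆ ^ p = 1 := by rw [hcc, inv_pow, hc1, inv_one]
      have hcen := mem_center_iff.mp (hc _ hcp)
      apply Cfsg.Agent.Lib.Helper26.mul_pow_prime_comm_central hp2 x y ⁅y⁻¹, x⁻¹⁆ ?_ ?_ ?_ hcp
      · rw [commutatorElement_def]; group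
      · exact (hcen x).symm
      · exact (hcen y).symm
    · -- proper subgroup `⟨x, y⟩`
      set H : Subgroup T := closure ({x, y} : Set T) with hHdef
      have hxH : x ∈ H := subset_closure (Set.mem_insert _ _)
      have hyH : y ∈ H := subset_closure (Set.mem_insert_of_mem _ rfl)
      have hlt : Nat.card H < n := hcard ▸ Cfsg.Agent.Lib.Helper75.card_subgroup_lt H hH
      have key := ih (Nat.card H) hlt H rfl (hT.to_subgroup H) (hc.subgroup H)
        ⟨x, hxH⟩ ⟨y, hyH⟩
        (by apply Subtype.ext; rw [Subgroup.coe_pow]; exact hx)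
        (by apply Subtype.ext; rw [Subgroup.coe_pow]; exact hy)
      have := congrArg Subtype.val key
      simpa using this

theorem pcentral_mul_pow {T : Type u} [Group T] [Finite T] {p : ℕ} [hp : Fact p.Prime]
    (hp2 : p ≠ 2) (hT : IsPGroup p T) (hc : PCentral p T) (x y : T) (hx : x ^ (p ^ 2) = 1)
    (hy : y ^ (p ^ 2) = 1) : (x * y) ^ p = x ^ p * y ^ p :=
  pcentral_mul_pow_aux p hp2 _ T rfl hT hc x y hx hy

theorem conj_pow' {T : Type*} [Group T] (g x : T) (k : ℕ) :
    (g⁻¹ * x * g) ^ k = g⁻¹ * x ^ k * g := by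
  have := conj_pow (a := g⁻¹) (b := x) (i := k)
  rw [inv_inv] at this
  exact this

/-- in a `p`-central group, elements of order dividing `p²` commute with everything modulo `Ω₁` -/
theorem pcentral_comm_pow {T : Type u} [Group T] [Finite T] {p : ℕ} [hp : Fact p.Prime]
    (hp2 : p ≠ 2) (hT : IsPGroup p T) (hc : PCentral p T) (x g : T) (hx : x ^ (p ^ 2) = 1) :
    (x⁻¹ * (g⁻¹ * x * g)) ^ p = 1 := by
  have hxp_c : x ^ p ∈ center T := hc _ (by rw [← pow_sq_eq]; exact hx)
  rw [pcentral_mul_pow hp2 hT hc x⁻¹ (g⁻¹ * x * g) (by rw [inv_pow, hx, inv_one])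
    (by rw [conj_pow', hx]; group)]
  have h1 : g⁻¹ * x ^ p * g = x ^ p := by
    rw [mul_assoc, ← mem_center_iff.mp hxp_c g, ← mul_assoc, inv_mul_cancel, one_mul]
  rw [conj_pow', h1, inv_pow, inv_mul_cancel]

theorem isMetacyclic_of_isCyclic {T : Type*} [Group T] (h : IsCyclic T) : Cfsg.IsMetacyclic T := by
  refine ⟨⊤, inferInstance, ?_, ?_⟩
  · exact isCyclic_of_surjective (Subgroup.topEquiv : (⊤ : Subgroup T) ≃* T).symm.toMonoidHom
      (Subgroup.topEquiv : (⊤ : Subgroup T) ≃* T).symm.surjective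
  · have : Subsingleton (T ⧸ (⊤ : Subgroup T)) := QuotientGroup.subsingleton_quotient_top
    infer_instance

section quot

variable {T : Type u} [Group T] [Finite T] {p : ℕ} [hp : Fact p.Prime]

/-- the elements of order dividing `p²` of a `p`-central group -/
def om2 (hp2 : p ≠ 2) (hT : IsPGroup p T) (hc : PCentral p T) : Subgroup T where
  carrier := {x | x ^ (p ^ 2) = 1}
  one_mem' := one_pow _
  mul_mem' := by
    intro a b ha hb
    have ha' : a ^ (p ^ 2) = 1 := ha
    have hb' : b ^ (p ^ 2) = 1 := hb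
    show (a * b) ^ (p ^ 2) = 1
    have hap_c : a ^ p ∈ center T := hc _ (by rw [← pow_sq_eq]; exact ha')
    rw [pow_sq_eq, pcentral_mul_pow hp2 hT hc a b ha' hb',
      (show Commute (a ^ p) (b ^ p) from (mem_center_iff.mp hap_c _).symm).mul_pow,
      ← pow_sq_eq, ← pow_sq_eq, ha', hb', one_mul]
  inv_mem' := by
    intro a ha
    have ha' : a ^ (p ^ 2) = 1 := ha
    show a⁻¹ ^ (p ^ 2) = 1
    rw [inv_pow, ha', inv_one]

theorem mem_om2 (hp2 : p ≠ 2) (hT : IsPGroup p T) (hc : PCentral p T) (x : T) :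
    x ∈ om2 hp2 hT hc ↔ x ^ (p ^ 2) = 1 := Iff.rfl

/-- the `p`-th powers of the elements of order dividing `p²` -/
def pim (hp2 : p ≠ 2) (hT : IsPGroup p T) (hc : PCentral p T) : Subgroup T where
  carrier := {y | ∃ x : T, x ^ (p ^ 2) = 1 ∧ x ^ p = y}
  one_mem' := ⟨1, one_pow _, one_pow _⟩
  mul_mem' := by
    rintro _ _ ⟨a, ha, rfl⟩ ⟨b, hb, rfl⟩
    exact ⟨a * b, (om2 hp2 hT hc).mul_mem ha hb, pcentral_mul_pow hp2 hT hc a b ha hb⟩
  inv_mem' := by
    rintro _ ⟨a, ha, rfl⟩
    exact ⟨a⁻¹, (om2 hp2 hT hc).inv_mem ha, inv_pow a p⟩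

theorem mem_pim (hp2 : p ≠ 2) (hT : IsPGroup p T) (hc : PCentral p T) (y : T) :
    y ∈ pim hp2 hT hc ↔ ∃ x : T, x ^ (p ^ 2) = 1 ∧ x ^ p = y := Iff.rfl

variable (N : Subgroup T) [hNn : N.Normal]

/-- the quotient by `Ω₁` is `p`-central again -/
theorem pcentral_quotient (hp2 : p ≠ 2) (hT : IsPGroup p T) (hc : PCentral p T)
    (hN : ∀ x : T, x ∈ N ↔ x ^ p = 1) : PCentral p (T ⧸ N) := by
  intro q hq
  obtain ⟨x, rfl⟩ := QuotientGroup.mk_surjective q
  rw [← QuotientGroup.mk_pow, QuotientGroup.eq_one_iff, hN, ← pow_sq_eq] at hq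
  rw [mem_center_iff]
  intro r
  obtain ⟨g, rfl⟩ := QuotientGroup.mk_surjective r
  rw [← QuotientGroup.mk_mul, ← QuotientGroup.mk_mul, QuotientGroup.eq, hN]
  have h1 := pcentral_comm_pow hp2 hT hc x g hq
  have h2 : (g * x)⁻¹ * (x * g) = x⁻¹ * (g⁻¹ * x * g) := by group
  rw [h2]
  exact h1

/-- the elements of order dividing `p` of the quotient by `Ω₁` -/
theorem mem_map_om2 (hp2 : p ≠ 2) (hT : IsPGroup p T) (hc : PCentral p T)
    (hN : ∀ x : T, x ∈ N ↔ x ^ p = 1) (q : T ⧸ N) :
    q ∈ (om2 hp2 hT hc).map (QuotientGroup.mk' N) ↔ q ^ p = 1 := by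
  constructor
  · rintro ⟨x, hx, rfl⟩
    rw [QuotientGroup.mk'_apply, ← QuotientGroup.mk_pow, QuotientGroup.eq_one_iff, hN,
      ← pow_sq_eq]
    exact hx
  · intro hq
    obtain ⟨x, rfl⟩ := QuotientGroup.mk_surjective q
    rw [← QuotientGroup.mk_pow, QuotientGroup.eq_one_iff, hN, ← pow_sq_eq] at hq
    exact ⟨x, hq, rfl⟩

/-- `|Ω₁(T/Ω₁(T))| ≤ |℧₁(Ω₂(T))|` -/
theorem card_map_om2_le (hp2 : p ≠ 2) (hT : IsPGroup p T) (hc : PCentral p T)
    (hN : ∀ x : T, x ∈ N ↔ x ^ p = 1) :
    Nat.card ((om2 hp2 hT hc).map (QuotientGroup.mk' N)) ≤ Nat.card (pim hp2 hT hc) := by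
  have hout : ∀ q : (om2 hp2 hT hc).map (QuotientGroup.mk' N),
      (Quotient.out (q : T ⧸ N)) ^ (p ^ 2) = 1 := by
    rintro ⟨q, hq⟩
    rw [mem_map_om2 N hp2 hT hc hN] at hq
    have h1 : (QuotientGroup.mk (Quotient.out q) : T ⧸ N) = q := QuotientGroup.out_eq' q
    rw [← h1, ← QuotientGroup.mk_pow, QuotientGroup.eq_one_iff, hN, ← pow_sq_eq] at hq
    exact hq
  let g : (om2 hp2 hT hc).map (QuotientGroup.mk' N) → pim hp2 hT hc :=
    fun q => ⟨(Quotient.out (q : T ⧸ N)) ^ p, Quotient.out (q : T ⧸ N), hout q, rfl⟩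
  apply Nat.card_le_card_of_injective g
  intro q q' hqq
  have h1 : (Quotient.out (q : T ⧸ N)) ^ p = (Quotient.out (q' : T ⧸ N)) ^ p :=
    congrArg Subtype.val hqq
  have h2 : ((Quotient.out (q : T ⧸ N))⁻¹ * Quotient.out (q' : T ⧸ N)) ^ p = 1 := by
    rw [pcentral_mul_pow hp2 hT hc _ _ (by rw [inv_pow, hout q, inv_one]) (hout q'), inv_pow, h1,
      inv_mul_cancel]
  apply Subtype.ext
  rw [← QuotientGroup.out_eq' (q : T ⧸ N), ← QuotientGroup.out_eq' (q' : T ⧸ N),
    QuotientGroup.eq, hN]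
  exact h2

end quot

theorem normal_of_le_center {T : Type*} [Group T] (N : Subgroup T) (h : N ≤ center T) :
    N.Normal := by
  constructor
  intro n hn g
  have := mem_center_iff.mp (h hn) g
  rw [this, mul_assoc, mul_inv_cancel, mul_one]
  exact hn

/-- a `p`-central `p`-group, `p` odd, with `|Ω₁| ≤ p²` is metacyclic -/
theorem isMetacyclic_of_pcentral_aux (p : ℕ) [hp : Fact p.Prime] (hp2 : p ≠ 2) :
    ∀ n : ℕ, ∀ (T : Type u) [Group T] [Finite T], Nat.card T = n → IsPGroup p T → PCentral p T →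
      ∀ N : Subgroup T, (∀ x : T, x ∈ N ↔ x ^ p = 1) → Nat.card N ≤ p ^ 2 →
        Cfsg.IsMetacyclic T := by
  intro n
  induction n using Nat.strong_induction_on with
  | _ n ih =>
    intro T _ _ hcard hT hc N hN hNcard
    have hpp := hp.out
    by_cases hsmall : Nat.card N ≤ p
    · exact isMetacyclic_of_isCyclic
        (isCyclic_of_om_le hp2 hT N hsmall (fun x hx => (hN x).mpr hx))
    push Not at hsmall
    have hNc : N ≤ center T := fun x hx => hc x ((hN x).mp hx)
    have hNn : N.Normal := normal_of_le_center N hNc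
    have hlt : Nat.card (T ⧸ N) < n := by
      have h1 := Subgroup.card_eq_card_quotient_mul_card_subgroup N
      rw [hcard] at h1
      have h2 : 0 < Nat.card (T ⧸ N) := Nat.card_pos
      have h3 : 2 ≤ Nat.card N := by have := hpp.two_le; omega
      nlinarith
    have hPN : pim hp2 hT hc ≤ N := by
      rintro _ ⟨x, hx, rfl⟩
      rw [hN, ← pow_sq_eq]
      exact hx
    have hQc := pcentral_quotient N hp2 hT hc hN
    have hNQ := mem_map_om2 N hp2 hT hc hN
    have hcardNQ := card_map_om2_le N hp2 hT hc hN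
    by_cases hPeq : pim hp2 hT hc = N
    · have hQmeta := ih _ hlt (T ⧸ N) rfl (hT.to_quotient N) hQc _ hNQ
        (hcardNQ.trans (by rw [hPeq]; exact hNcard))
      have hidxQ := agemo_index_le_of_isMetacyclic (p := p) hQmeta
      have hNle : N ≤ agemo p T := by
        intro x hx
        rw [← hPeq] at hx
        obtain ⟨w, -, rfl⟩ := hx
        exact pow_mem_agemo p w
      have hidx : (agemo p T).index = (agemo p (T ⧸ N)).index := by
        rw [← agemo_map p (QuotientGroup.mk' N) (QuotientGroup.mk'_surjective N),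
          Subgroup.index_map, QuotientGroup.ker_mk', sup_eq_left.mpr hNle,
          MonoidHom.range_eq_top.mpr (QuotientGroup.mk'_surjective N), Subgroup.index_top, mul_one]
      exact isMetacyclic_of_agemo_index_le hp2 hT (hidx ▸ hidxQ)
    · have hPlt : pim hp2 hT hc < N := lt_of_le_of_ne hPN hPeq
      have hd := Cfsg.Agent.Lib.Helper23.PGroupLCS.p_mul_card_dvd_of_lt hT hPlt
      have hPcard : Nat.card (pim hp2 hT hc) ≤ p := by
        have h1 : p * Nat.card (pim hp2 hT hc) ≤ Nat.card N := Nat.le_of_dvd Nat.card_pos hd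
        have h2 : p * Nat.card (pim hp2 hT hc) ≤ p * p := by rw [← sq]; exact h1.trans hNcard
        exact Nat.le_of_mul_le_mul_left h2 hpp.pos
      have hQcyc : IsCyclic (T ⧸ N) :=
        isCyclic_of_om_le hp2 (hT.to_quotient N) _ (hcardNQ.trans hPcard)
          (fun q hq => (hNQ q).mpr hq)
      have hab : ∀ a b : T, a * b = b * a :=
        (MonoidHom.isMulCommutative_of_isCyclic_of_ker_le_center (QuotientGroup.mk' N)
          (by rw [QuotientGroup.ker_mk']; exact hNc)).is_comm.comm
      let φ : T →* T :=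
        { toFun := fun x => x ^ p, map_one' := one_pow p,
          map_mul' := fun x y => (show Commute x y from hab x y).mul_pow p }
      have hφ : ∀ x, φ x = x ^ p := fun _ => rfl
      have hker : φ.ker = N := by
        ext x
        rw [MonoidHom.mem_ker, hφ, hN]
      have hrange : agemo p T = φ.range := by
        apply le_antisymm
        · apply agemo_le
          intro x
          exact ⟨x, rfl⟩
        · rintro _ ⟨x, rfl⟩
          exact pow_mem_agemo p x
      have h1 := Subgroup.card_mul_index φ.ker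
      have h2 := Subgroup.card_mul_index φ.range
      rw [Subgroup.index_ker] at h1
      have h3 : φ.range.index = Nat.card φ.ker := by
        have hpos : 0 < Nat.card φ.range := Nat.card_pos
        have : Nat.card φ.range * φ.range.index = Nat.card φ.range * Nat.card φ.ker := by
          rw [h2, ← h1, mul_comm]
        exact Nat.eq_of_mul_eq_mul_left hpos this
      apply isMetacyclic_of_agemo_index_le hp2 hT
      rw [hrange, h3, hker]
      exact hNcard

theorem isMetacyclic_of_pcentral {T : Type u} [Group T] [Finite T] {p : ℕ} [hp : Fact p.Prime]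
    (hp2 : p ≠ 2) (hT : IsPGroup p T) (hc : PCentral p T) (N : Subgroup T)
    (hN : ∀ x : T, x ∈ N ↔ x ^ p = 1) (hNcard : Nat.card N ≤ p ^ 2) : Cfsg.IsMetacyclic T :=
  isMetacyclic_of_pcentral_aux p hp2 _ T rfl hT hc N hN hNcard

end R2
end Cfsg.Agent.Lib.Helper68
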