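import Mathlib
import Cfsg.Prelude.Def_OddOrderLocal
import Cfsg.Agent.Lib.Helper68.MetaActB
import Cfsg.Agent.Lib.Helper32.CoprimeDecomp
import Cfsg.Agent.Lib.Helper66.AbelAct

/-! A `p'`-group `A` acting on a metacyclic `p`-group `R` (`p` odd) with `[R, A] = R`:
then `R` is abelian (Bender--Glauberman 4.4(a)). -/

set_option autoImplicit false

namespace Cfsg.Agent.Lib.Helper68
namespace MA

open Subgroup
open scoped commutatorElement

variable {G : Type*} [Group G] [Finite G] {p : ℕ} [hp : Fact p.Prime]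

theorem abelian_of_commutator_eq (hp2 : p ≠ 2) (R A : Subgroup G) (hR : IsPGroup p R)
    (hRm : Cfsg.IsMetacyclic ↥R) (hA : A ≤ normalizer (R : Set G))
    (hcop : (Nat.card A).Coprime p) (hRA : ⁅R, A⁆ = R) : ⁅R, R⁆ = ⊥ := by
  by_contra hne
  have hna : commutator ↥R ≠ ⊥ := by
    intro h; apply hne; rw [← map_subtype_commutator, h, Subgroup.map_bot]
  have hφ : ∀ a ∈ A, ∃ φ : ↥R ≃* ↥R, ∀ x : ↥R, ((φ x : ↥R) : G) = a * x * a⁻¹ := by
    intro a ha
    exact ⟨R.normalizerMonoidHom ⟨a, hA ha⟩, fun x => rfl⟩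
  rcases struct_general hR hp2 hRm hna with ⟨L, hL, hLφ⟩ | ⟨Z, K, h1, h2, h3, h4⟩
  · apply hL
    have hle : ⁅R, A⁆ ≤ L.map R.subtype := by
      rw [commutator_le]
      intro x hx a ha
      obtain ⟨φ, hφa⟩ := hφ a ha
      refine ⟨(⟨x, hx⟩ : ↥R) * φ (⟨x, hx⟩⁻¹), ?_, ?_⟩
      · have := hLφ φ (⟨x, hx⟩⁻¹ : ↥R)
        rwa [inv_inv] at this
      · simp only [coe_subtype, coe_mul, hφa, InvMemClass.coe_inv, commutatorElement_def]
        group
    rw [hRA] at hle
    rw [eq_top_iff]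
    intro x _
    obtain ⟨y, hy, hyx⟩ := hle x.2
    have : y = x := Subtype.ext hyx
    rwa [this] at hy
  · obtain ⟨Z', hZ'⟩ : ∃ Z' : Subgroup G, Z' = Z.map R.subtype := ⟨_, rfl⟩
    obtain ⟨K', hK'⟩ : ∃ K' : Subgroup G, K' = K.map R.subtype := ⟨_, rfl⟩
    have hK'R : K' ≤ R := by rw [hK']; exact map_subtype_le K
    have hZK' : Z' ≤ K' := by rw [hZ', hK']; exact map_mono h2
    have hconj : ∀ a ∈ A, ∀ u ∈ K', u⁻¹ * (a * u * a⁻¹) ∈ Z' := by
      intro a ha u hu
      rw [hK'] at hu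
      obtain ⟨u, hu, rfl⟩ := hu
      obtain ⟨φ, hφa⟩ := hφ a ha
      rw [hZ']
      refine ⟨u⁻¹ * φ u, h4 φ u hu, ?_⟩
      simp only [coe_subtype, coe_mul, hφa, InvMemClass.coe_inv]
    have hfw : ∀ b ∈ A, ∀ u ∈ K', b * u * b⁻¹ ∈ K' := by
      intro b hb u hu
      have := K'.mul_mem hu (hZK' (hconj b hb u hu))
      rwa [mul_inv_cancel_left] at this
    have hnorm : A ≤ normalizer (K' : Set G) := by
      intro a ha
      rw [mem_normalizer_iff]
      intro u
      constructor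
      · exact hfw a ha u
      · intro h
        have := hfw a⁻¹ (A.inv_mem ha) _ h
        have e : a⁻¹ * (a * u * a⁻¹) * a⁻¹⁻¹ = u := by group
        rwa [e] at this
    have hKA : ⁅K', A⁆ ≤ Z' := by
      rw [commutator_le]
      intro u hu a ha
      have := hconj a ha u⁻¹ (K'.inv_mem hu)
      rw [inv_inv] at this
      have e : ⁅u, a⁆ = u * (a * u⁻¹ * a⁻¹) := by rw [commutatorElement_def]; group
      rwa [e]
    obtain ⟨n, hn⟩ := IsPGroup.iff_card.mp hR
    have hcopR : (Nat.card A).Coprime (Nat.card R) := by rw [hn]; exact hcop.pow_right n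
    have hcopK : (Nat.card K').Coprime (Nat.card A) :=
      (hcopR.coprime_dvd_right (card_dvd_of_le hK'R)).symm
    have hsolv : Group.IsSolvable K' ∨ Group.IsSolvable A := Or.inl (by
      have hKp : IsPGroup p K' := hR.to_le hK'R
      have : Group.IsNilpotent K' := hKp.isNilpotent
      infer_instance)
    have hdec := Helper32.le_centralizer_sup_commutator hnorm hcopK hsolv
    have hU : K' ⊓ centralizer (A : Set G) ≤ ⁅R, R⁆ := by
      apply Helper66.le_commutator_of_centralized R A _ hA hRA hcopR (inf_le_left.trans hK'R)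
      rw [commutator_eq_bot_iff_le_centralizer]; exact inf_le_right
    have hRR : ⁅R, R⁆ ≤ Z' := by rw [← map_subtype_commutator, hZ']; exact map_mono h1
    have hK'Z' : K' ≤ Z' := hdec.trans (sup_le (hU.trans hRR) hKA)
    apply h3
    apply le_antisymm _ h2
    rw [hK', hZ'] at hK'Z'
    exact (map_le_map_iff_of_injective R.subtype_injective).mp hK'Z'

section centmod

variable {G : Type*} [Group G]

/-- the elements of `N(U)` centralizing `A` modulo `U` -/
def centMod (U A : Subgroup G) : Subgroup G where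
  carrier := {r | r ∈ normalizer (U : Set G) ∧ ∀ a ∈ A, ⁅r, a⁆ ∈ U}
  one_mem' := ⟨one_mem _, fun a _ => by rw [commutatorElement_one_left]; exact one_mem _⟩
  mul_mem' := by
    rintro x y ⟨hx, hxa⟩ ⟨hy, hya⟩
    refine ⟨mul_mem hx hy, fun a ha => ?_⟩
    rw [commutatorElement_mul_left_eq_conj_mul]
    exact mul_mem ((mem_normalizer_iff.mp hx _).mp (hya a ha)) (hxa a ha)
  inv_mem' := by
    rintro x ⟨hx, hxa⟩
    refine ⟨inv_mem hx, fun a ha => ?_⟩
    have e : ⁅x⁻¹, a⁆ = x⁻¹ * (⁅x, a⁆)⁻¹ * x⁻¹⁻¹ := by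
      simp only [commutatorElement_def]; group
    rw [e]
    exact (mem_normalizer_iff.mp (inv_mem hx) _).mp (inv_mem (hxa a ha))

theorem mem_centMod {U A : Subgroup G} {r : G} :
    r ∈ centMod U A ↔ r ∈ normalizer (U : Set G) ∧ ∀ a ∈ A, ⁅r, a⁆ ∈ U := Iff.rfl

theorem commutator_le_of_le_centMod {H U A : Subgroup G} (h : H ≤ centMod U A) : ⁅H, A⁆ ≤ U := by
  rw [commutator_le]
  intro r hr a ha
  exact (h hr).2 a ha

theorem normalizer_inf_le_normalizer_commutator (H₁ H₂ : Subgroup G) :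
    normalizer (H₁ : Set G) ⊓ normalizer (H₂ : Set G) ≤ normalizer ((⁅H₁, H₂⁆ : Subgroup G) : Set G) := by
  rw [Subgroup.commutator_def]
  apply le_normalizer_closure_iff.mpr
  rintro g ⟨hg1, hg2⟩ _ ⟨h₁, hh₁, h₂, hh₂, rfl⟩
  have e : g * ⁅h₁, h₂⁆ * g⁻¹ = ⁅g * h₁ * g⁻¹, g * h₂ * g⁻¹⁆ := by
    simp only [commutatorElement_def]; group
  rw [e]
  apply Subgroup.subset_closure
  exact ⟨_, (mem_normalizer_iff.mp hg1 _).mp hh₁, _, (mem_normalizer_iff.mp hg2 _).mp hh₂, rfl⟩

/-- coprime action: `[R, A, A] = [R, A]` -/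
theorem commutator_commutator_eq_self [Finite G] (R A : Subgroup G)
    (hA : A ≤ normalizer (R : Set G)) (hcop : (Nat.card R).Coprime (Nat.card A))
    (hsolv : Group.IsSolvable R ∨ Group.IsSolvable A) : ⁅⁅R, A⁆, A⁆ = ⁅R, A⁆ := by
  have hAT : A ≤ normalizer ((⁅R, A⁆ : Subgroup G) : Set G) := normalizer_commutator_ge_right R A
  have hUT : ⁅⁅R, A⁆, A⁆ ≤ ⁅R, A⁆ := le_normalizer_iff_commutator_le_left.mp hAT
  apply le_antisymm hUT
  have hTM : ⁅R, A⁆ ≤ centMod ⁅⁅R, A⁆, A⁆ A := fun t ht =>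
    ⟨normalizer_commutator_ge_left _ A ht, fun a ha => commutator_mem_commutator ht ha⟩
  have hCM : R ⊓ centralizer (A : Set G) ≤ centMod ⁅⁅R, A⁆, A⁆ A := by
    rintro c ⟨hcR, hcA⟩
    refine ⟨?_, fun a ha => ?_⟩
    · apply normalizer_inf_le_normalizer_commutator
      exact ⟨normalizer_commutator_ge_left R A hcR, centralizer_le_normalizer _ hcA⟩
    · have h1 : ⁅c, a⁆ = 1 := by
        rw [commutatorElement_eq_one_iff_commute]
        exact (mem_centralizer_iff.mp hcA a ha).symm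
      rw [h1]; exact one_mem _
  have hdec := Helper32.le_centralizer_sup_commutator hA hcop hsolv
  exact commutator_le_of_le_centMod (hdec.trans (sup_le hCM hTM))

end centmod

end MA
end Cfsg.Agent.Lib.Helper68
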