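import Mathlib
import Cfsg.Prelude.Def_OddOrderLocal
import Cfsg.Agent.S1453
import Cfsg.Agent.Lib.Helper68.Rank2PCentral

/-!
# The centralizer of a maximal elementary abelian subgroup of order `p ^ 2`

In a `p`-group `R` (`p` odd) of rank at least three, the centralizer of an elementary abelian subgroup
`A` of order `p ^ 2` contained in no larger elementary abelian subgroup is abelian (it is `⟨a⟩ × C` with
`C` cyclic), and the `p`-th powers of its elements of order dividing `p ^ 2` are central in `R`.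
-/

set_option autoImplicit false

namespace Cfsg.Agent.Lib.Helper68.BGCentAb

open Cfsg

/-- commutation of two members of a commutative subgroup -/
theorem comm_of_isMulCommutative {G : Type*} [Group G] {A : Subgroup G} (h : IsMulCommutative ↥A)
    {a b : G} (ha : a ∈ A) (hb : b ∈ A) : a * b = b * a := by
  have := h.is_comm.comm ⟨a, ha⟩ ⟨b, hb⟩
  exact congrArg Subtype.val this

/-- a subgroup whose members commute is commutative -/
theorem isMulCommutative_of_comm {G : Type*} [Group G] {A : Subgroup G}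
    (h : ∀ a ∈ A, ∀ b ∈ A, a * b = b * a) : IsMulCommutative ↥A :=
  ⟨⟨fun a b => Subtype.ext (h a a.2 b b.2)⟩⟩

/-- adjoining to an elementary abelian subgroup an element of order dividing `p` commuting with it -/
theorem elemAb_sup_zpowers {G : Type*} [Group G] {p : ℕ} {A : Subgroup G}
    (hA : IsElementaryAbelian p A) {x : G} (hx : x ^ p = 1) (hc : ∀ a ∈ A, a * x = x * a) :
    IsElementaryAbelian p (A ⊔ Subgroup.zpowers x) := by
  have hEq : A ⊔ Subgroup.zpowers x = Subgroup.closure ((A : Set G) ∪ {x}) := by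
    rw [Subgroup.closure_union, Subgroup.closure_eq, Subgroup.zpowers_eq_closure]
  have hcomm : ∀ u ∈ ((A : Set G) ∪ {x}), ∀ v ∈ ((A : Set G) ∪ {x}), u * v = v * u := by
    rintro u (hu | hu) v (hv | hv)
    · exact comm_of_isMulCommutative hA.1 hu hv
    · rw [Set.mem_singleton_iff] at hv
      rw [hv]
      exact hc u hu
    · rw [Set.mem_singleton_iff] at hu
      rw [hu]
      exact (hc v hv).symm
    · rw [Set.mem_singleton_iff] at hu hv
      rw [hu, hv]
  have hK : IsMulCommutative ↥(Subgroup.closure ((A : Set G) ∪ {x})) :=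
    Subgroup.isMulCommutative_closure hcomm
  rw [hEq]
  refine ⟨hK, ?_⟩
  intro u hu
  induction hu using Subgroup.closure_induction with
  | mem u hu =>
    rcases hu with hu | hu
    · exact hA.2 u hu
    · rw [Set.mem_singleton_iff] at hu
      rw [hu]
      exact hx
  | one => exact one_pow p
  | mul u v hu hv ihu ihv =>
    have hcv : Commute u v := comm_of_isMulCommutative hK hu hv
    rw [hcv.mul_pow, ihu, ihv, one_mul]
  | inv u hu ihu => rw [inv_pow, ihu, inv_one]

/-- **Main lemma**, for a `p`-group given as a type. -/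
theorem centralizer_abelian_of_maxElemAb {R : Type*} [Group R] [Finite R] (p : ℕ)
    [hp : Fact p.Prime] (hp2 : p ≠ 2) (hR : IsPGroup p R) (hr : ¬ PRankLE p 2 R) (A : Subgroup R)
    (hA : IsElementaryAbelian p A) (hA2 : Nat.card A = p ^ 2)
    (hmax : ∀ B : Subgroup R, IsElementaryAbelian p B → A ≤ B → B = A) :
    (∀ x ∈ Subgroup.centralizer (A : Set R), ∀ y ∈ Subgroup.centralizer (A : Set R),
        x * y = y * x) ∧
      (∀ x ∈ Subgroup.centralizer (A : Set R), x ^ (p * p) = 1 → x ^ p ∈ Subgroup.center R) := by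
  obtain ⟨hAT, hZcard, -, hTchar, hTidx⟩ := Cfsg.Agent.S1453.result p hp2 hR hr A hA hA2 hmax
  set W : Subgroup R :=
    Subgroup.closure {x : R | x ∈ Subgroup.upperCentralSeries R 2 ∧ x ^ p = 1} with hW
  set T : Subgroup R := Subgroup.centralizer (W : Set R) with hT
  set Z : Subgroup R := Subgroup.closure {x : R | x ∈ Subgroup.center R ∧ x ^ p = 1} with hZ
  have hpp := hp.out
  -- elements of order dividing `p` centralizing `A` lie in `A`
  have hkey : ∀ x : R, x ∈ Subgroup.centralizer (A : Set R) → x ^ p = 1 → x ∈ A := by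
    intro x hx hxp
    have hB := elemAb_sup_zpowers hA hxp
      (fun a ha => (Subgroup.mem_centralizer_iff.1 hx a ha))
    have h1 := hmax _ hB le_sup_left
    rw [← h1]
    exact Subgroup.mem_sup_right (Subgroup.mem_zpowers x)
  have hZcen : Z ≤ Subgroup.center R := by
    rw [hZ, Subgroup.closure_le]
    rintro x ⟨hxc, -⟩
    exact hxc
  have hZA : Z ≤ A := by
    rw [hZ, Subgroup.closure_le]
    rintro x ⟨hxc, hxp⟩
    exact hkey x (Subgroup.center_le_centralizer _ hxc) hxp
  have hZT : Z ≤ T := fun x hx => Subgroup.center_le_centralizer _ (hZcen hx)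
  -- `A ⊓ T = Z`
  have hATZ : A ⊓ T ≤ Z := by
    have h1 : Nat.card ↥(A ⊓ T) ∣ p ^ 2 := hA2 ▸ Subgroup.card_dvd_of_le inf_le_left
    have h2 : Nat.card ↥(A ⊓ T) ≠ p ^ 2 := by
      intro h
      apply hAT
      have h3 : A ⊓ T = A := Subgroup.eq_of_le_of_card_ge inf_le_left (by rw [h, hA2])
      rw [← h3]
      exact inf_le_right
    have h3 : Nat.card ↥(A ⊓ T) ≤ p := by
      obtain ⟨k, hk, hk'⟩ := (Nat.dvd_prime_pow hpp).1 h1
      have hk2 : k ≠ 2 := by
        intro h
        rw [h] at hk'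
        exact h2 hk'
      have hk1 : k ≤ 1 := by omega
      rw [hk']
      calc p ^ k ≤ p ^ 1 := Nat.pow_le_pow_right hpp.pos hk1
        _ = p := pow_one p
    have h4 : Z ≤ A ⊓ T := le_inf hZA hZT
    have h5 : Z = A ⊓ T := Subgroup.eq_of_le_of_card_ge h4 (by rw [hZcard]; exact h3)
    rw [h5]
  -- the cyclic part
  set D : Subgroup R := Subgroup.centralizer (A : Set R) ⊓ T with hD
  have hZD : Z ≤ D := le_inf (fun x hx => Subgroup.center_le_centralizer _ (hZcen hx)) hZT
  have hDcyc : IsCyclic ↥D := by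
    refine Cfsg.Agent.Lib.Helper68.R2.isCyclic_of_om_le hp2 (hR.to_subgroup D)
      (Z.subgroupOf D) ?_ ?_
    · rw [Nat.card_congr (Subgroup.subgroupOfEquivOfLe hZD).toEquiv, hZcard]
    · intro x hx
      rw [Subgroup.mem_subgroupOf]
      have hx' : (x : R) ^ p = 1 := by
        have := congrArg Subtype.val hx
        simpa using this
      apply hATZ
      exact ⟨hkey x x.2.1 hx', x.2.2⟩
  have hDcomm : ∀ d ∈ D, ∀ d' ∈ D, d * d' = d' * d := by
    obtain ⟨g, hg⟩ := hDcyc.exists_generator
    intro d hd d' hd'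
    obtain ⟨i, hi⟩ := Subgroup.mem_zpowers_iff.1 (hg ⟨d, hd⟩)
    obtain ⟨j, hj⟩ := Subgroup.mem_zpowers_iff.1 (hg ⟨d', hd'⟩)
    have h1 : (⟨d, hd⟩ : ↥D) * ⟨d', hd'⟩ = ⟨d', hd'⟩ * ⟨d, hd⟩ := by
      rw [← hi, ← hj, ← zpow_add, ← zpow_add, add_comm]
    exact congrArg Subtype.val h1
  -- the element `a`
  obtain ⟨a, haA, haT⟩ := SetLike.not_le_iff_exists.1 hAT
  have hap : a ^ p = 1 := hA.2 a haA
  have haC : a ∈ Subgroup.centralizer (A : Set R) := by
    rw [Subgroup.mem_centralizer_iff]
    intro b hb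
    exact comm_of_isMulCommutative hA.1 hb haA
  have : T.Normal := Subgroup.normal_of_characteristic T
  have hQcard : Nat.card (R ⧸ T) = p := by rw [← Subgroup.index_eq_card, hTidx]
  have hane : (QuotientGroup.mk a : R ⧸ T) ≠ 1 := by
    intro h
    exact haT ((QuotientGroup.eq_one_iff a).1 h)
  have hgen := zpowers_eq_top_of_prime_card hQcard hane
  -- decomposition of the elements of the centralizer
  have hdec : ∀ c ∈ Subgroup.centralizer (A : Set R), ∃ k : ℤ, ∃ t ∈ D, c = a ^ k * t := by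
    intro c hc
    have h1 : (QuotientGroup.mk c : R ⧸ T) ∈ Subgroup.zpowers (QuotientGroup.mk a : R ⧸ T) := by
      rw [hgen]
      trivial
    obtain ⟨k, hk⟩ := Subgroup.mem_zpowers_iff.1 h1
    have h2 : (QuotientGroup.mk (a ^ k) : R ⧸ T) = QuotientGroup.mk c := by
      rw [QuotientGroup.mk_zpow, hk]
    have h3 : (a ^ k)⁻¹ * c ∈ T := QuotientGroup.eq.1 h2
    refine ⟨k, (a ^ k)⁻¹ * c, ⟨?_, h3⟩, by group⟩
    exact Subgroup.mul_mem _ (Subgroup.inv_mem _ (Subgroup.zpow_mem _ haC k)) hc
  have hat : ∀ t ∈ D, Commute a t := by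
    intro t ht
    exact (Subgroup.mem_centralizer_iff.1 ht.1 a haA)
  refine ⟨?_, ?_⟩
  · intro x hx y hy
    obtain ⟨k, t, ht, rfl⟩ := hdec x hx
    obtain ⟨l, s, hs, rfl⟩ := hdec y hy
    have h1 : Commute (a ^ k) (a ^ l) := (Commute.refl a).zpow_zpow k l
    have h2 : Commute (a ^ k) s := (hat s hs).zpow_left k
    have h3 : Commute t (a ^ l) := ((hat t ht).zpow_left l).symm
    have h4 : Commute t s := hDcomm t ht s hs
    exact (h1.mul_right h2).mul_left (h3.mul_right h4)
  · intro x hx hxpp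
    obtain ⟨k, t, ht, rfl⟩ := hdec x hx
    have h2 : Commute (a ^ k) t := (hat t ht).zpow_left k
    have h3 : (a ^ k * t) ^ p = t ^ p := by
      rw [h2.mul_pow, ← zpow_natCast, ← zpow_mul, mul_comm, zpow_mul, zpow_natCast, hap, one_zpow,
        one_mul]
    rw [h3]
    have h4 : (t ^ p) ^ p = 1 := by
      rw [← h3, ← pow_mul]
      exact hxpp
    have h5 : t ^ p ∈ D := Subgroup.pow_mem _ ht p
    apply hZcen
    apply hATZ
    exact ⟨hkey _ h5.1 h4, h5.2⟩

/-- **Main lemma**, for a `p`-subgroup `R` of an ambient group: if `R` has rank at least three and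
`A ≤ R` is elementary abelian of order `p ^ 2`, maximal among the elementary abelian subgroups of `R`,
then `C_R(A)` is abelian and the `p`-th powers of its elements of order dividing `p ^ 2` are central
in `R`. -/
theorem comm_of_maxElemAb_subgroup {G : Type*} [Group G] (p : ℕ) [hp : Fact p.Prime] (hp2 : p ≠ 2)
    (R : Subgroup G) [Finite R] (hR : IsPGroup p R) (hr : ¬ PRankLE p 2 R) (A : Subgroup G)
    (hAR : A ≤ R) (hA : IsElementaryAbelian p A) (hA2 : Nat.card A = p ^ 2)
    (hmax : ∀ B : Subgroup G, B ≤ R → IsElementaryAbelian p B → A ≤ B → B = A) :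
    (∀ x ∈ R ⊓ Subgroup.centralizer (A : Set G), ∀ y ∈ R ⊓ Subgroup.centralizer (A : Set G),
        x * y = y * x) ∧
      (∀ x ∈ R ⊓ Subgroup.centralizer (A : Set G), x ^ (p * p) = 1 → ∀ y ∈ R,
        x ^ p * y = y * x ^ p) := by
  have hA' : IsElementaryAbelian p (A.subgroupOf R) := by
    refine ⟨isMulCommutative_of_comm ?_, ?_⟩
    · intro a ha b hb
      exact Subtype.ext (comm_of_isMulCommutative hA.1 (Subgroup.mem_subgroupOf.1 ha)
        (Subgroup.mem_subgroupOf.1 hb))
    · intro a ha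
      exact Subtype.ext (by simpa using hA.2 a (Subgroup.mem_subgroupOf.1 ha))
  have hA2' : Nat.card (A.subgroupOf R) = p ^ 2 := by
    rw [Nat.card_congr (Subgroup.subgroupOfEquivOfLe hAR).toEquiv, hA2]
  have hmax' : ∀ B : Subgroup R, IsElementaryAbelian p B → A.subgroupOf R ≤ B →
      B = A.subgroupOf R := by
    intro B hB hAB
    have hB' : IsElementaryAbelian p (B.map R.subtype) := by
      refine ⟨isMulCommutative_of_comm ?_, ?_⟩
      · rintro _ ⟨a, ha, rfl⟩ _ ⟨b, hb, rfl⟩
        have := comm_of_isMulCommutative hB.1 ha hb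
        exact congrArg Subtype.val this
      · rintro _ ⟨a, ha, rfl⟩
        have := hB.2 a ha
        have h2 := congrArg Subtype.val this
        simpa using h2
    have hle : A ≤ B.map R.subtype := by
      intro a ha
      exact ⟨⟨a, hAR ha⟩, hAB (Subgroup.mem_subgroupOf.2 ha), rfl⟩
    have hEq := hmax _ (Subgroup.map_subtype_le B) hB' hle
    ext x
    rw [Subgroup.mem_subgroupOf, ← hEq]
    constructor
    · intro hx
      exact ⟨x, hx, rfl⟩
    · rintro ⟨y, hy, hyx⟩
      have : y = x := Subtype.ext hyx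
      rw [← this]
      exact hy
  obtain ⟨h1, h2⟩ := centralizer_abelian_of_maxElemAb p hp2 hR hr (A.subgroupOf R) hA' hA2' hmax'
  have hmem : ∀ x (hx : x ∈ R ⊓ Subgroup.centralizer (A : Set G)),
      (⟨x, hx.1⟩ : R) ∈ Subgroup.centralizer ((A.subgroupOf R : Subgroup R) : Set R) := by
    intro x hx
    rw [Subgroup.mem_centralizer_iff]
    intro a ha
    apply Subtype.ext
    exact Subgroup.mem_centralizer_iff.1 hx.2 a (Subgroup.mem_subgroupOf.1 ha)
  refine ⟨?_, ?_⟩
  · intro x hx y hy
    have := h1 _ (hmem x hx) _ (hmem y hy)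
    exact congrArg Subtype.val this
  · intro x hx hxpp y hy
    have hx1 : (⟨x, hx.1⟩ : R) ^ (p * p) = 1 := Subtype.ext (by simpa using hxpp)
    have h3 := h2 _ (hmem x hx) hx1
    have h4 := Subgroup.mem_center_iff.1 h3 ⟨y, hy⟩
    have h5 := congrArg Subtype.val h4
    simpa using h5.symm

end Cfsg.Agent.Lib.Helper68.BGCentAb
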