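import Mathlib
import Cfsg.Prelude.Def_PLocal
import Cfsg.Prelude.Def_LocalEven
import Cfsg.Prelude.Def_OddOrderLocal
import Cfsg.Agent.S0664
import Cfsg.Agent.S1450
import Cfsg.Agent.S1459
import Cfsg.Agent.Lib.Helper02.SecCtl
import Cfsg.Agent.Lib.Helper02.QdFree
import Cfsg.Agent.Lib.Helper54.QdFusionFwd
import Cfsg.Agent.Lib.Helper41.FamilyTransfer
import Cfsg.Agent.Lib.Helper40.Cores
import Cfsg.Agent.Lib.Helper40.NarrowGlue
import Cfsg.Agent.Lib.Helper01.PPrimeCore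

set_option autoImplicit false

open scoped commutatorElement Pointwise

namespace Cfsg.Agent.Lib.Helper68.OddRank2

universe u

/-- the involution `diag(-1,-1,1)` of `Qd(p)` -/
def negDiag (p : ℕ) : Matrix.SpecialLinearGroup (Fin 3) (ZMod p) :=
  ⟨!![-1, 0, 0; 0, -1, 0; 0, 0, 1], by
    rw [Matrix.det_fin_three]; simp⟩

theorem negDiag_mem (p : ℕ) : negDiag p ∈ Cfsg.qd p := by
  apply Subgroup.subset_closure
  refine ⟨?_, ?_, ?_⟩ <;> simp [negDiag]

theorem negDiag_sq (p : ℕ) : negDiag p * negDiag p = 1 := by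
  apply Subtype.ext
  show (negDiag p : Matrix (Fin 3) (Fin 3) (ZMod p)) * (negDiag p : Matrix (Fin 3) (Fin 3) (ZMod p)) = 1
  have h : (negDiag p : Matrix (Fin 3) (Fin 3) (ZMod p)) = !![-1, 0, 0; 0, -1, 0; 0, 0, 1] := rfl
  rw [h]
  ext i j
  fin_cases i <;> fin_cases j <;> simp [Matrix.mul_apply, Fin.sum_univ_three]

theorem negDiag_ne_one (p : ℕ) [Fact p.Prime] (hp : p ≠ 2) : negDiag p ≠ 1 := by
  intro h
  have h1 : (negDiag p : Matrix (Fin 3) (Fin 3) (ZMod p)) 0 0 = (1 : Matrix (Fin 3) (Fin 3) (ZMod p)) 0 0 := by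
    rw [h]; rfl
  simp [negDiag] at h1
  have h2 : (2 : ZMod p) = 0 := by
    have : (1 : ZMod p) + 1 = 0 := by
      nth_rewrite 1 [← h1]; ring
    rw [← this]; norm_num
  have h3 : ((2 : ℕ) : ZMod p) = 0 := by exact_mod_cast h2
  rw [ZMod.natCast_eq_zero_iff] at h3
  have hpp : p.Prime := Fact.out
  have := (Nat.prime_dvd_prime_iff_eq hpp Nat.prime_two).1 h3
  exact hp this

theorem two_dvd_card_qd (p : ℕ) [Fact p.Prime] (hp : p ≠ 2) : 2 ∣ Nat.card ↥(Cfsg.qd p) := by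
  have : Finite ↥(Cfsg.qd p) := inferInstance
  let x : ↥(Cfsg.qd p) := ⟨negDiag p, negDiag_mem p⟩
  have hx2 : x ^ 2 = 1 := by
    apply Subtype.ext
    rw [pow_two]
    exact negDiag_sq p
  have hx1 : x ≠ 1 := by
    intro h
    exact negDiag_ne_one p hp (congrArg Subtype.val h)
  have ho : orderOf x = 2 := orderOf_eq_prime hx2 hx1
  rw [← ho]
  exact orderOf_dvd_natCard x

/-- a group of odd order is `Qd(p)`-free, `p` odd -/
theorem not_involves_qd_of_odd {G : Type*} [Group G] [Finite G] (hodd : Odd (Nat.card G))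
    (p : ℕ) [Fact p.Prime] (hp : p ≠ 2) : ¬ Cfsg.Involves ↥(Cfsg.qd p) G := by
  rintro ⟨K, R, hR, ⟨e⟩⟩
  have h1 : 2 ∣ Nat.card (↥K ⧸ R.subgroupOf K) := by
    rw [Nat.card_congr e.toEquiv]
    exact two_dvd_card_qd p hp
  have h2 : Nat.card (↥K ⧸ R.subgroupOf K) ∣ Nat.card K := by
    rw [← Subgroup.index_eq_card]
    exact Subgroup.index_dvd_card _
  have h3 : Nat.card K ∣ Nat.card G := Subgroup.card_subgroup_dvd_card K
  have h4 : 2 ∣ Nat.card G := h1.trans (h2.trans h3)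
  rw [Nat.odd_iff] at hodd
  omega

/-- **Glauberman**: in a `Qd(p)`-free group, `p` odd, the normalizer of `Z(J(P))` controls strong fusion
in the Sylow `p`-subgroup `P` itself. -/
theorem control_ZJ {G : Type u} [Group G] [Finite G] {p : ℕ} [Fact p.Prime] (hp : p ≠ 2)
    (hfree : ¬ Cfsg.Involves ↥(Cfsg.qd p) G) (P : Sylow p G) (A : Set G)
    (hA : A ⊆ ((P : Subgroup G) : Set G)) (g : G)
    (hg : (fun a => g * a * g⁻¹) '' A ⊆ ((P : Subgroup G) : Set G)) :
    ∃ x ∈ Subgroup.normalizer ((Cfsg.centerThompsonAOf (P : Subgroup G) : Subgroup G) : Set G),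
      ∀ a ∈ A, g * a * g⁻¹ = x * a * x⁻¹ := by
  classical
  have hloc : ∀ (K R : Subgroup G) [hR : (R.subgroupOf K).Normal],
      Subgroup.centralizer ((Cfsg.pCore p (↥K ⧸ R.subgroupOf K) :
        Subgroup (↥K ⧸ R.subgroupOf K)) : Set (↥K ⧸ R.subgroupOf K)) ≤
          Cfsg.pCore p (↥K ⧸ R.subgroupOf K) →
      ∃ T : Sylow p (↥K ⧸ R.subgroupOf K),
        (Cfsg.inducedFunctor (G := (↥K ⧸ R.subgroupOf K)) Cfsg.Agent.Lib.Helper54.ZJAfun
          ((T : Subgroup (↥K ⧸ R.subgroupOf K)))).Normal := by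
    intro K R hR hcon
    obtain ⟨T⟩ : Nonempty (Sylow p (↥K ⧸ R.subgroupOf K)) := inferInstance
    refine ⟨T, ?_⟩
    rw [Cfsg.Agent.Lib.Helper54.inducedFunctor_ZJA]
    exact Cfsg.Agent.S0664.result hp
      (Cfsg.Agent.Lib.Helper02.QdFree.not_involves_section hfree K R) hcon T
  have hg' : (fun a => (g⁻¹)⁻¹ * a * g⁻¹) '' A ⊆ ((P : Subgroup G) : Set G) := by
    simpa using hg
  obtain ⟨n, hn, hna⟩ := Cfsg.Agent.Lib.Helper02.SecCtl.controls_of_normal_in_sections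
    Cfsg.Agent.Lib.Helper54.ZJAfun Cfsg.Agent.Lib.Helper54.isCharPFunctor_ZJA hloc P A hA g⁻¹ hg'
  rw [Cfsg.Agent.Lib.Helper54.inducedFunctor_ZJA] at hn
  refine ⟨n⁻¹, Subgroup.inv_mem _ hn, fun a ha => ?_⟩
  have := hna a ha
  rw [inv_inv] at this ⊢
  exact this.symm

/-- `Z(J(P)) ≠ 1` for a nontrivial `p`-subgroup `P` -/
theorem centerThompsonAOf_ne_bot {G : Type u} [Group G] [Finite G] {p : ℕ} [Fact p.Prime]
    (P : Subgroup G) (hP : IsPGroup p P) (hP1 : P ≠ ⊥) : Cfsg.centerThompsonAOf P ≠ ⊥ := by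
  rw [← Cfsg.Agent.Lib.Helper54.inducedFunctor_ZJA]
  have hnt : Nontrivial ↥P := (Subgroup.nontrivial_iff_ne_bot P).2 hP1
  have h1 : Cfsg.Agent.Lib.Helper54.ZJAfun ↥P ≠ ⊥ :=
    (Cfsg.Agent.Lib.Helper54.isCharPFunctor_ZJA (p := p)).1 ↥P hP hnt
  intro h
  apply h1
  unfold Cfsg.inducedFunctor at h
  exact (Subgroup.map_eq_bot_iff_of_injective _ P.subtype_injective).1 h

theorem centerThompsonAOf_le {G : Type u} [Group G] (P : Subgroup G) :
    Cfsg.centerThompsonAOf P ≤ P := by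
  rw [← Cfsg.Agent.Lib.Helper54.inducedFunctor_ZJA]
  exact Subgroup.map_subtype_le _

/-- first part of `S1461`, with the factorization as hypothesis -/
theorem sylow_le_commutator_normalizer {G : Type*} [Group G] [Finite G] (p : ℕ) [Fact p.Prime]
    (S : Sylow p G) (K : Subgroup G) [K.Normal] (hKc : (Nat.card K).Coprime p)
    (hdec : ∀ g : G, ∃ n ∈ Subgroup.normalizer ((S : Subgroup G) : Set G), ∃ k ∈ K, g = n * k)
    (hSG : (S : Subgroup G) ≤ commutator G) :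
    (S : Subgroup G) ≤ ⁅Subgroup.normalizer ((S : Subgroup G) : Set G),
      Subgroup.normalizer ((S : Subgroup G) : Set G)⁆ := by
  set N := Subgroup.normalizer ((S : Subgroup G) : Set G) with hN
  have hcomm : commutator G ≤ K ⊔ ⁅N, N⁆ := by
    rw [commutator_eq_closure, Subgroup.closure_le]
    rintro _ ⟨g₁, g₂, rfl⟩
    obtain ⟨n₁, hn₁, k₁, hk₁, rfl⟩ := hdec g₁
    obtain ⟨n₂, hn₂, k₂, hk₂, rfl⟩ := hdec g₂
    have hπ : ∀ n k : G, k ∈ K → (QuotientGroup.mk' K) (n * k) = (QuotientGroup.mk' K) n := by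
      intro n k hk
      have : (QuotientGroup.mk' K) k = 1 := by
        rw [QuotientGroup.mk'_apply]; exact (QuotientGroup.eq_one_iff k).2 hk
      rw [map_mul, this, mul_one]
    have h1 : (QuotientGroup.mk' K) ⁅n₁ * k₁, n₂ * k₂⁆ = (QuotientGroup.mk' K) ⁅n₁, n₂⁆ := by
      rw [map_commutatorElement, map_commutatorElement, hπ n₁ k₁ hk₁, hπ n₂ k₂ hk₂]
    have h2 : ⁅n₁, n₂⁆⁻¹ * ⁅n₁ * k₁, n₂ * k₂⁆ ∈ K := by
      rw [← QuotientGroup.eq]
      exact h1.symm
    have h3 : ⁅n₁ * k₁, n₂ * k₂⁆ = ⁅n₁, n₂⁆ * (⁅n₁, n₂⁆⁻¹ * ⁅n₁ * k₁, n₂ * k₂⁆) := by group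
    rw [SetLike.mem_coe, h3]
    exact mul_mem (Subgroup.mem_sup_right (Subgroup.commutator_mem_commutator hn₁ hn₂))
      (Subgroup.mem_sup_left h2)
  intro s hs
  have hs1 : s ∈ K ⊔ ⁅N, N⁆ := hcomm (hSG hs)
  rw [← SetLike.mem_coe, Subgroup.normal_mul] at hs1
  obtain ⟨k, hk, m, hm, rfl⟩ := Set.mem_mul.1 hs1
  have hmN : m ∈ N := Subgroup.commutator_le_self N hm
  have hsN : k * m ∈ N := Subgroup.le_normalizer hs
  have hkN : k ∈ N := by
    have := mul_mem hsN (inv_mem hmN)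
    rwa [mul_inv_cancel_right] at this
  have hm' : (⟨m, hmN⟩ : N) ∈ commutator N := by
    rw [← Subgroup.map_subtype_commutator] at hm
    obtain ⟨m', hm', hmm⟩ := hm
    have : m' = ⟨m, hmN⟩ := Subtype.ext hmm
    rwa [this] at hm'
  have hφ : Abelianization.of (⟨k * m, hsN⟩ : N) = Abelianization.of (⟨k, hkN⟩ : N) := by
    have h1 : (⟨k * m, hsN⟩ : N) = ⟨k, hkN⟩ * ⟨m, hmN⟩ := rfl
    have h2 : Abelianization.of (⟨m, hmN⟩ : N) = 1 := by
      rw [← MonoidHom.mem_ker, Abelianization.ker_of]; exact hm'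
    rw [h1, map_mul, h2, mul_one]
  have ho1 : orderOf (Abelianization.of (⟨k * m, hsN⟩ : N)) ∣ orderOf (k * m) := by
    have := orderOf_map_dvd (Abelianization.of (G := N)) (⟨k * m, hsN⟩ : N)
    rwa [← Subgroup.orderOf_coe] at this
  have ho2 : orderOf (Abelianization.of (⟨k, hkN⟩ : N)) ∣ orderOf k := by
    have := orderOf_map_dvd (Abelianization.of (G := N)) (⟨k, hkN⟩ : N)
    rwa [← Subgroup.orderOf_coe] at this
  obtain ⟨j, hj⟩ := IsPGroup.iff_card.1 S.2
  have ho3 : orderOf (k * m) ∣ p ^ j := by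
    rw [← hj]
    have : orderOf (⟨k * m, hs⟩ : (S : Subgroup G)) ∣ Nat.card (S : Subgroup G) := orderOf_dvd_natCard _
    rwa [← Subgroup.orderOf_coe] at this
  have ho4 : orderOf k ∣ Nat.card K := by
    have : orderOf (⟨k, hk⟩ : K) ∣ Nat.card K := orderOf_dvd_natCard _
    rwa [← Subgroup.orderOf_coe] at this
  have hcop : (p ^ j).Coprime (Nat.card K) := Nat.Coprime.pow_left _ hKc.symm
  have ho5 : orderOf (Abelianization.of (⟨k * m, hsN⟩ : N)) = 1 :=
    Nat.eq_one_of_dvd_coprimes hcop (ho1.trans ho3) (hφ ▸ ho2.trans ho4)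
  rw [orderOf_eq_one_iff, ← MonoidHom.mem_ker, Abelianization.ker_of] at ho5
  rw [← Subgroup.map_subtype_commutator]
  exact ⟨_, ho5, rfl⟩

/-- the Frattini factorization `H = N_H(S) O_{p'}(H)` for a solvable group `H` of odd order whose Sylow
`p`-subgroup `S` has rank at most two and lies in `H'` -/
theorem exists_decomp {H : Type*} [Group H] [Finite H] [Group.IsSolvable H]
    (hodd : Odd (Nat.card H)) (p : ℕ) [Fact p.Prime] (S : Sylow p H)
    (hS1 : (S : Subgroup H) ≠ ⊥) (hr : Cfsg.PRankLE p 2 ↥(S : Subgroup H))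
    (hSG : (S : Subgroup H) ≤ commutator H) :
    ∀ g : H, ∃ n ∈ Subgroup.normalizer ((S : Subgroup H) : Set H),
      ∃ k ∈ Cfsg.pPrimeCore p H, g = n * k := by
  have hpp : p.Prime := Fact.out
  have hpH : p ∣ Nat.card H := by
    obtain ⟨k, hk⟩ := IsPGroup.iff_card.1 S.2
    have hk0 : k ≠ 0 := by
      rintro rfl
      rw [pow_zero] at hk
      exact hS1 (Subgroup.card_eq_one.1 hk)
    have : p ∣ Nat.card (S : Subgroup H) := by rw [hk]; exact dvd_pow_self p hk0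
    exact this.trans (Subgroup.card_subgroup_dvd_card _)
  have hrH : Cfsg.PRankLE p 2 H := Cfsg.Agent.Lib.Helper40.NarrowGlue.pRankLE_of_sylow S hr
  have h1450 := Cfsg.Agent.S1450.result hodd p hpH hrH
  have hL : commutator H ≤ Cfsg.pPrimePCore p H := h1450.2.2.2.2.1
  have hSL : (S : Subgroup H) ≤ Cfsg.pPrimePCore p H := hSG.trans hL
  have hfr := Sylow.normalizer_sup_eq_top' S hSL
  have hLle := Cfsg.Agent.Lib.Helper40.pPrimePCore_le_sylow_sup S
  have htop : Subgroup.normalizer ((S : Subgroup H) : Set H) ⊔ Cfsg.pPrimeCore p H = ⊤ := by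
    apply top_le_iff.1
    rw [← hfr]
    apply sup_le le_sup_left
    exact hLle.trans (sup_le (Subgroup.le_normalizer.trans le_sup_left) le_sup_right)
  intro g
  have hg : g ∈ Subgroup.normalizer ((S : Subgroup H) : Set H) ⊔ Cfsg.pPrimeCore p H := by
    rw [htop]; trivial
  rw [← SetLike.mem_coe, Subgroup.mul_normal] at hg
  obtain ⟨n, hn, k, hk, rfl⟩ := Set.mem_mul.1 hg
  exact ⟨n, hn, k, hk, rfl⟩

/-- In a solvable group `H` of odd order whose Sylow `p`-subgroup `S` has rank at most two and lies in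
`H'`, a `p'`-subgroup `V` of `N_H(S)` satisfies `[S, V] = S`. -/
theorem exists_coprime_action {H : Type*} [Group H] [Finite H] [Group.IsSolvable H]
    (hodd : Odd (Nat.card H)) (p : ℕ) [Fact p.Prime] (S : Sylow p H)
    (hS1 : (S : Subgroup H) ≠ ⊥) (hr : Cfsg.PRankLE p 2 ↥(S : Subgroup H))
    (hSG : (S : Subgroup H) ≤ commutator H) :
    ∃ V : Subgroup H, V ≤ Subgroup.normalizer ((S : Subgroup H) : Set H) ∧
      (Nat.card V).Coprime p ∧ ⁅(S : Subgroup H), V⁆ = (S : Subgroup H) := by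
  classical
  have hpp : p.Prime := Fact.out
  set M := Subgroup.normalizer ((S : Subgroup H) : Set H) with hM
  have hdec := exists_decomp hodd p S hS1 hr hSG
  have hSM' : (S : Subgroup H) ≤ ⁅M, M⁆ :=
    sylow_le_commutator_normalizer p S (Cfsg.pPrimeCore p H)
      (Cfsg.Agent.Lib.Helper01.pPrimeCore_card_coprime p) hdec hSG
  have hSM : (S : Subgroup H) ≤ M := Subgroup.le_normalizer
  set S₀ : Subgroup ↥M := (S : Subgroup H).subgroupOf M with hS₀
  have hS₀n : S₀.Normal := Subgroup.normal_in_normalizer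
  have hS₀card : Nat.card S₀ = Nat.card (S : Subgroup H) :=
    Nat.card_congr (Subgroup.subgroupOfEquivOfLe hSM).toEquiv
  have hS₀idx : ¬ p ∣ S₀.index := by
    intro h
    have h1 : S₀.index ∣ (S : Subgroup H).index := by
      show (S : Subgroup H).relIndex M ∣ _
      exact Dvd.intro _ (Subgroup.relIndex_mul_index hSM)
    exact S.not_dvd_index (h.trans h1)
  have hcop : (Nat.card S₀).Coprime S₀.index := by
    obtain ⟨k, hk⟩ := IsPGroup.iff_card.1 S.2
    rw [hS₀card, hk]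
    exact Nat.Coprime.pow_left _ ((Nat.Prime.coprime_iff_not_dvd hpp).2 hS₀idx)
  obtain ⟨V₀, hV₀⟩ := Subgroup.exists_right_complement'_of_coprime hcop
  have hsolv : Group.IsSolvable ↥M := Group.isSolvable_of_isSolvable_injective M.subtype_injective
  have hle : S₀ ≤ commutator ↥M := by
    intro x hx
    have hx1 : (x : H) ∈ ⁅M, M⁆ := hSM' (Subgroup.mem_subgroupOf.1 hx)
    rw [← Subgroup.map_subtype_commutator] at hx1
    obtain ⟨y, hy, hyx⟩ := hx1
    have : y = x := Subtype.ext hyx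
    rwa [this] at hy
  have h1459 := (Cfsg.Agent.S1459.result (G := ↥M)).1 S₀ V₀ hS₀n hcop hV₀ hle
  have hmapS : S₀.map M.subtype = (S : Subgroup H) := by
    rw [hS₀, Subgroup.subgroupOf_map_subtype, inf_of_le_left hSM]
  refine ⟨V₀.map M.subtype, Subgroup.map_subtype_le _, ?_, ?_⟩
  · rw [Subgroup.card_map_of_injective M.subtype_injective]
    have : S₀.index = Nat.card V₀ := hV₀.symm.index_eq_card
    rw [← this]
    exact (Nat.Prime.coprime_iff_not_dvd hpp).2 hS₀idx |>.symm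
  · conv_lhs => rw [← hmapS]
    rw [← Subgroup.map_commutator, ← h1459.1, hmapS]

end Cfsg.Agent.Lib.Helper68.OddRank2
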