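import Cfsg.Agent.Lib.Helper68.HPPoly

/-!
# The Hall–Petrescu collection formula

`hall_petrescu_mem`: in a group of class `≤ c`, `(y^n)⁻¹ (x^n)⁻¹ (xy)^n` is a product of elements
`g_i ^ (n.choose i)` with `g_i ∈ γ_i(G)`, `2 ≤ i ≤ c` (stated as membership in any subgroup `M`
containing all such elements).
-/

set_option autoImplicit false

namespace Cfsg.Agent.Lib.Helper68.HP

open scoped commutatorElement

variable {G : Type*} [Group G]

/-- the binomial power function `n ↦ g ^ (n choose i)` -/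
def B (g : G) (i : ℕ) : ℕ → G := fun n => g ^ (n.choose i)

theorem D_B_succ (g : G) (i : ℕ) : D (B g (i + 1)) = B g i := by
  funext n
  simp only [D, B]
  rw [Nat.choose_succ_succ n i, pow_add, (Commute.pow_pow_self g (n.choose i) (n.choose i.succ)).eq,
    inv_mul_cancel_left]

theorem B_mem_P {i : ℕ} : ∀ {s : ℕ} {g : G}, g ∈ gam G (s + i) → B g i ∈ P s := by
  induction i with
  | zero =>
    intro s g hg
    have : B g 0 = fun _ => g := by funext n; simp [B]
    rw [this]
    exact const_mem_P (by simpa using hg)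
  | succ i ih =>
    intro s g hg
    rw [mem_P_iff]
    refine ⟨?_, ?_⟩
    · simp [B]
    · rw [D_B_succ]
      exact ih (by rwa [show s + 1 + i = s + (i + 1) by omega])

theorem iter_D_zero_of_vanish (j : ℕ) :
    ∀ u : ℕ → G, (∀ i < j, u i = 1) → (D^[j] u) 0 = u j := by
  induction j with
  | zero => intro u _; rfl
  | succ j ih =>
    intro u hu
    rw [Function.iterate_succ_apply, ih (D u) ?_]
    · simp [D, hu j (Nat.lt_succ_self j)]
    · intro i hi
      simp [D, hu i (by omega), hu (i + 1) (by omega)]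

theorem eq_one_of_vanish {c : ℕ} (hc : gam G (c + 1) = ⊥) {u : ℕ → G} (hu : u ∈ P 0)
    {j : ℕ} (hj : c + 1 ≤ j) (hv : ∀ i < j, u i = 1) : u = 1 := by
  have bot_of : ∀ r, c + 1 ≤ r → gam G r = ⊥ := fun r hr => le_bot_iff.mp (hc ▸ gam_anti G hr)
  have hall : ∀ i, (D^[i] u) 0 = 1 := by
    intro i
    by_cases hi : i < j
    · rw [iter_D_zero_of_vanish i u (fun i' hi' => hv i' (by omega))]
      exact hv i hi
    · have := hu i
      rw [Nat.zero_add, bot_of i (by omega)] at this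
      simpa using this
  have hmem : u ∈ P (c + 1) := by
    intro i
    rw [hall i]
    exact Subgroup.one_mem _
  exact eq_one_of_bot hc hmem

/-- Peeling off the binomial powers. -/
theorem peel_mem (Hg : Good G 0) {c : ℕ} (hc : gam G (c + 1) = ⊥) (M : Subgroup G) (n : ℕ)
    (hM : ∀ i, 2 ≤ i → i ≤ c → ∀ g ∈ gam G i, g ^ n.choose i ∈ M) :
    ∀ d j, c + 1 ≤ j + d → 2 ≤ j → ∀ u : ℕ → G, u ∈ P 0 → (∀ i < j, u i = 1) → u n ∈ M := by
  intro d
  induction d with
  | zero =>
    intro j hj _ u hu hv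
    rw [eq_one_of_vanish hc hu (by omega) hv]
    exact M.one_mem
  | succ d ih =>
    intro j hj hj2 u hu hv
    by_cases hjc : c + 1 ≤ j
    · rw [eq_one_of_vanish hc hu hjc hv]
      exact M.one_mem
    · have hgj : u j ∈ gam G j := by
        have := hu j
        rwa [Nat.zero_add, iter_D_zero_of_vanish j u hv] at this
      have hB : B (u j) j ∈ P 0 := B_mem_P (by rwa [Nat.zero_add])
      set u' : ℕ → G := (B (u j) j)⁻¹ * u with hu'
      have hu'P : u' ∈ P 0 := Hg.mul_mem 0 le_rfl _ _ (Hg.inv_mem 0 le_rfl _ hB) hu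
      have hv' : ∀ i < j + 1, u' i = 1 := by
        intro i hi
        rcases Nat.lt_succ_iff_lt_or_eq.mp hi with hlt | rfl
        · simp [hu', B, Nat.choose_eq_zero_of_lt hlt, hv i hlt]
        · simp [hu', B]
      have h1 := ih (j + 1) (by omega) (by omega) u' hu'P hv'
      have h2 : u n = (u j) ^ n.choose j * u' n := by
        simp [hu', B]
      rw [h2]
      exact M.mul_mem (hM j hj2 (by omega) _ hgj) h1

theorem pow_fun_mem_P (x : G) : (fun n : ℕ => x ^ n) ∈ P 0 := by
  rw [mem_P_iff]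
  refine ⟨by simp [gam_zero], ?_⟩
  have : D (fun n : ℕ => x ^ n) = fun _ => x := by
    funext n
    simp [D, pow_succ]
  rw [this]
  exact const_mem_P (by rw [gam_one]; exact Subgroup.mem_top x)

/-- **Hall–Petrescu** (membership form): in a group of class `≤ c`, the element
`(y^n)⁻¹ (x^n)⁻¹ (xy)^n` lies in every subgroup containing all `g ^ (n choose i)` with
`g ∈ γ_i(G)` (`= lowerCentralSeries (i-1)`), `2 ≤ i ≤ c`. -/
theorem hall_petrescu_mem {c : ℕ} (hcl : (⊤ : Subgroup G).lowerCentralSeries c = ⊥) (x y : G)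
    (n : ℕ) (M : Subgroup G)
    (hM : ∀ i, 2 ≤ i → i ≤ c → ∀ g ∈ (⊤ : Subgroup G).lowerCentralSeries (i - 1),
      g ^ n.choose i ∈ M) :
    (y ^ n)⁻¹ * (x ^ n)⁻¹ * (x * y) ^ n ∈ M := by
  have Hg : Good G 0 := good_zero hcl
  have hc : gam G (c + 1) = ⊥ := hcl
  set u : ℕ → G := (fun n : ℕ => y ^ n)⁻¹ * (fun n : ℕ => x ^ n)⁻¹ * (fun n : ℕ => (x * y) ^ n)
    with hu
  have huP : u ∈ P 0 :=
    Hg.mul_mem 0 le_rfl _ _ (Hg.mul_mem 0 le_rfl _ _ (Hg.inv_mem 0 le_rfl _ (pow_fun_mem_P y))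
      (Hg.inv_mem 0 le_rfl _ (pow_fun_mem_P x))) (pow_fun_mem_P (x * y))
  have hv : ∀ i < 2, u i = 1 := by
    intro i hi
    interval_cases i
    · simp [hu]
    · simp [hu, mul_assoc]
  have := peel_mem Hg hc M n hM (c + 1) 2 (by omega) le_rfl u huP hv
  simpa [hu] using this

end Cfsg.Agent.Lib.Helper68.HP
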