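import Mathlib
import Cfsg.Agent.Lib.Helper68.MetaIndex

/-! Subgroups of a metacyclic `p`-group in terms of the explicit data. -/

namespace Cfsg.Agent.Lib.Helper68
namespace MC

open Subgroup

theorem isMulCommutative_iff {G : Type*} [Group G] (L : Subgroup G) :
    IsMulCommutative ↥L ↔ ∀ g ∈ L, ∀ h ∈ L, g * h = h * g := by
  rw [← le_centralizer_iff_isMulCommutative]
  constructor
  · intro h g hg x hx
    exact ((mem_centralizer_iff.mp (h hg)) x hx).symm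
  · intro h g hg
    rw [mem_centralizer_iff]
    intro x hx
    exact (h g hg x hx).symm

namespace Data

variable {p : ℕ} [hp : Fact p.Prime] {G : Type*} [Group G] (D : Data p G) [Finite G]

/-- normal form data for a subgroup `L`. -/
structure SubForm (L : Subgroup G) (e : ℕ) where
  α : ℕ
  β : ℕ
  k : ℕ
  hα : α ≤ D.m
  hβ : β ≤ e
  h1 : L ⊓ zpowers D.a = zpowers (D.a ^ p ^ α)
  h2 : L.map (QuotientGroup.mk' (zpowers D.a)) = zpowers (D.bbar ^ p ^ β)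
  hy : D.a ^ k * D.b ^ p ^ β ∈ L

theorem exists_subForm (L : Subgroup G) {e : ℕ} (he : orderOf D.bbar = p ^ e) :
    Nonempty (D.SubForm L e) := by
  obtain ⟨α, hα, h1⟩ := exists_eq_zpowers_pow D.ha (L ⊓ zpowers D.a) inf_le_right
  obtain ⟨β, hβ, h2⟩ := exists_eq_zpowers_pow he (L.map (QuotientGroup.mk' (zpowers D.a)))
    (by rw [D.zpowers_bbar]; exact le_top)
  have h3 : D.bbar ^ p ^ β ∈ L.map (QuotientGroup.mk' (zpowers D.a)) := by
    rw [h2]; exact mem_zpowers _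
  obtain ⟨y, hyL, hy⟩ := h3
  have h4 : y * (D.b ^ p ^ β)⁻¹ ∈ zpowers D.a := by
    rw [← QuotientGroup.eq_one_iff, QuotientGroup.mk_mul, QuotientGroup.mk_inv, QuotientGroup.mk_pow]
    rw [QuotientGroup.mk'_apply] at hy
    rw [hy]
    exact mul_inv_cancel _
  obtain ⟨k, hk⟩ := (D.mem_zpowers_a_iff _).mp h4
  refine ⟨⟨α, β, k, hα, hβ, h1, h2, ?_⟩⟩
  rw [← hk]
  simpa using hyL

variable {D}

omit hp in
theorem SubForm.a_mem {L : Subgroup G} {e : ℕ} (F : D.SubForm L e) : D.a ^ p ^ F.α ∈ L := by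
  have : D.a ^ p ^ F.α ∈ L ⊓ zpowers D.a := by rw [F.h1]; exact mem_zpowers _
  exact this.1

theorem SubForm.gen {L : Subgroup G} {e : ℕ} (F : D.SubForm L e) {g : G} (hg : g ∈ L) :
    ∃ x z : ℕ, g = (D.a ^ p ^ F.α) ^ x * (D.a ^ F.k * D.b ^ p ^ F.β) ^ z := by
  have h1 : (QuotientGroup.mk' (zpowers D.a)) g ∈ zpowers (D.bbar ^ p ^ F.β) := by
    rw [← F.h2]; exact mem_map_of_mem _ hg
  obtain ⟨z, hz⟩ := exists_nat_pow_of_mem_zpowers h1
  have h2 : (QuotientGroup.mk (D.a ^ F.k * D.b ^ p ^ F.β) : G ⧸ zpowers D.a) = D.bbar ^ p ^ F.β :=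
    D.mk_eq _ _
  have h3 : g * ((D.a ^ F.k * D.b ^ p ^ F.β) ^ z)⁻¹ ∈ L ⊓ zpowers D.a := by
    refine ⟨L.mul_mem hg (L.inv_mem (L.pow_mem F.hy _)), ?_⟩
    show g * ((D.a ^ F.k * D.b ^ p ^ F.β) ^ z)⁻¹ ∈ zpowers D.a
    rw [← QuotientGroup.eq_one_iff, QuotientGroup.mk_mul, QuotientGroup.mk_inv, QuotientGroup.mk_pow,
      h2, hz]
    rw [QuotientGroup.mk'_apply]
    exact mul_inv_cancel _
  rw [F.h1] at h3
  obtain ⟨x, hx⟩ := exists_nat_pow_of_mem_zpowers h3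
  exact ⟨x, z, by rw [hx]; group⟩

theorem SubForm.index_eq {L : Subgroup G} {e : ℕ} (he : orderOf D.bbar = p ^ e)
    (F : D.SubForm L e) : L.index = p ^ (F.α + F.β) :=
  D.index_of_form L he F.hα F.hβ F.h1 F.h2

theorem SubForm.comm_iff (hodd : Odd p) {L : Subgroup G} {e : ℕ} (F : D.SubForm L e) :
    IsMulCommutative ↥L ↔ D.n ≤ F.α + F.β := by
  have key : Commute (D.a ^ F.k * D.b ^ p ^ F.β) (D.a ^ p ^ F.α) ↔ D.n ≤ F.α + F.β := by
    rw [D.commute_a_iff hodd, ← pow_add, Nat.pow_dvd_pow_iff_le_right hp.out.one_lt]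
  rw [isMulCommutative_iff, ← key]
  constructor
  · intro h
    exact h _ F.hy _ F.a_mem
  · intro h g hg g' hg'
    obtain ⟨x, z, rfl⟩ := F.gen hg
    obtain ⟨x', z', rfl⟩ := F.gen hg'
    have c1 : Commute ((D.a ^ p ^ F.α) ^ x) ((D.a ^ p ^ F.α) ^ x') := (Commute.refl _).pow_pow _ _
    have c2 : Commute ((D.a ^ p ^ F.α) ^ x) ((D.a ^ F.k * D.b ^ p ^ F.β) ^ z') := h.symm.pow_pow _ _
    have c3 : Commute ((D.a ^ F.k * D.b ^ p ^ F.β) ^ z) ((D.a ^ p ^ F.α) ^ x') := h.pow_pow _ _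
    have c4 : Commute ((D.a ^ F.k * D.b ^ p ^ F.β) ^ z) ((D.a ^ F.k * D.b ^ p ^ F.β) ^ z') :=
      (Commute.refl _).pow_pow _ _
    exact ((c1.mul_right c2).mul_left (c3.mul_right c4)).eq

/-- S3880, first part: abelian iff index at least `|G'|`. -/
theorem comm_iff_index (hodd : Odd p) (L : Subgroup G) :
    IsMulCommutative ↥L ↔ p ^ D.n ≤ L.index := by
  obtain ⟨e, he, -⟩ := D.exists_e hodd
  obtain ⟨F⟩ := D.exists_subForm L he
  rw [F.comm_iff hodd, F.index_eq he, Nat.pow_le_pow_iff_right hp.out.one_lt]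

theorem pow_key (D : Data p G) (hodd : Odd p) (u j x : ℕ) :
    (D.a ^ (u * (D.r ^ j - 1))) ^ x = 1 ↔ p ^ D.n ∣ u * x * j := by
  rw [← pow_mul, ← D.key hodd]
  have : u * (D.r ^ j - 1) * x = u * x * (D.r ^ j - 1) := by ring
  rw [this]

theorem orderOf_pow_key (D : Data p G) (hodd : Odd p) {α β : ℕ} (h : α + β ≤ D.n) :
    orderOf (D.a ^ (p ^ α * (D.r ^ p ^ β - 1))) = p ^ (D.n - (α + β)) := by
  have hsplit : p ^ D.n = p ^ α * p ^ (D.n - (α + β)) * p ^ β := by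
    rw [← pow_add, ← pow_add]; congr 1; omega
  apply Nat.dvd_antisymm
  · apply orderOf_dvd_of_pow_eq_one
    rw [D.pow_key hodd, hsplit]
  · have h1 := pow_orderOf_eq_one (D.a ^ (p ^ α * (D.r ^ p ^ β - 1)))
    rw [D.pow_key hodd, hsplit] at h1
    have h2 : p ^ α * p ^ (D.n - (α + β)) * p ^ β = (p ^ α * p ^ β) * p ^ (D.n - (α + β)) := by ring
    have h3 : p ^ α * orderOf (D.a ^ (p ^ α * (D.r ^ p ^ β - 1))) * p ^ β =
        (p ^ α * p ^ β) * orderOf (D.a ^ (p ^ α * (D.r ^ p ^ β - 1))) := by ring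
    rw [h2, h3] at h1
    exact Nat.dvd_of_mul_dvd_mul_left (Nat.mul_pos (pow_pos hp.out.pos _) (pow_pos hp.out.pos _)) h1

/-- the data of a nonabelian (or any) subgroup with `α + β ≤ n` -/
theorem exists_data_sub (hodd : Odd p) {L : Subgroup G} {e : ℕ} (he : orderOf D.bbar = p ^ e)
    (F : D.SubForm L e) (h : F.α + F.β ≤ D.n) :
    ∃ DL : Data p L, DL.n = D.n - (F.α + F.β) := by
  have hr1 : 1 < D.r ^ p ^ F.β := Nat.one_lt_pow (pow_ne_zero _ hp.out.ne_zero) D.hr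
  have hmL : orderOf (⟨D.a ^ p ^ F.α, F.a_mem⟩ : L) = p ^ (D.m - F.α) := by
    rw [Subgroup.orderOf_mk]; exact orderOf_pow_pow_of_le D.ha F.hα
  have hyo : ∃ fL, orderOf (⟨D.a ^ F.k * D.b ^ p ^ F.β, F.hy⟩ : L) = p ^ fL := by
    have : orderOf (D.a ^ F.k * D.b ^ p ^ F.β) ∣ p ^ (D.m + e) := by
      rw [← D.card_eq he]; exact orderOf_dvd_natCard _
    obtain ⟨fL, -, hfL⟩ := (Nat.dvd_prime_pow hp.out).mp this
    exact ⟨fL, by rw [Subgroup.orderOf_mk]; exact hfL⟩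
  obtain ⟨fL, hfL⟩ := hyo
  have hconjL : (⟨D.a ^ F.k * D.b ^ p ^ F.β, F.hy⟩ : L) * ⟨D.a ^ p ^ F.α, F.a_mem⟩ *
      (⟨D.a ^ F.k * D.b ^ p ^ F.β, F.hy⟩ : L)⁻¹ =
      (⟨D.a ^ p ^ F.α, F.a_mem⟩ : L) ^ (D.r ^ p ^ F.β) := by
    apply Subtype.ext
    push_cast
    rw [D.conj_a_pow, pow_mul]
  have hord : orderOf ((⟨D.a ^ p ^ F.α, F.a_mem⟩ : L) ^ (D.r ^ p ^ F.β - 1)) =
      p ^ (D.n - (F.α + F.β)) := by
    rw [← Subgroup.orderOf_coe]
    push_cast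
    rw [← pow_mul]
    exact D.orderOf_pow_key hodd h
  have hgenL : ∀ g : L, ∃ i j : ℕ, g = (⟨D.a ^ p ^ F.α, F.a_mem⟩ : L) ^ i *
      (⟨D.a ^ F.k * D.b ^ p ^ F.β, F.hy⟩ : L) ^ j := by
    intro g
    obtain ⟨x, z, hxz⟩ := F.gen g.2
    exact ⟨x, z, Subtype.ext (by push_cast; exact hxz)⟩
  exact ⟨⟨_, _, D.r ^ p ^ F.β, D.m - F.α, D.n - (F.α + F.β), fL, hmL, hfL, hconjL, hr1,
    dvd_pow_sub_one D.hrp D.one_le_r _, hgenL, hord⟩, rfl⟩

/-- the commutator subgroup of a nonabelian subgroup `L`: `|L'| |G : L| = |G'|`. -/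
theorem card_commutator_sub (hodd : Odd p) (L : Subgroup G) (hL : ¬ IsMulCommutative ↥L) :
    Nat.card (commutator ↥L) * L.index = p ^ D.n := by
  obtain ⟨e, he, -⟩ := D.exists_e hodd
  obtain ⟨F⟩ := D.exists_subForm L he
  rw [F.comm_iff hodd, not_le] at hL
  obtain ⟨DL, hDL⟩ := exists_data_sub hodd he F hL.le
  rw [F.index_eq he, DL.card_commutator, hDL, ← pow_add]
  congr 1; omega

end Data
end MC
end Cfsg.Agent.Lib.Helper68
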