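import Mathlib
import Cfsg.Agent.Lib.Helper68.MetaSub
import Cfsg.Agent.Lib.Helper72.Frattini
import Cfsg.Agent.Lib.Helper03.PGroupFrattini

/-! Frattini subgroup of a metacyclic `p`-group. -/

namespace Cfsg.Agent.Lib.Helper68
namespace MC
namespace Data

open Subgroup
open scoped commutatorElement

variable {p : ℕ} [hp : Fact p.Prime] {G : Type*} [Group G] [Finite G]

theorem frattini_eq_lev (D : Data p G) (hG : IsPGroup p G) : frattini G = lev G p 1 := by
  apply le_antisymm
  · apply Cfsg.Agent.Lib.Helper72.frattini_le_of_elementary_quotient p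
    · intro x
      exact Subgroup.subset_closure ⟨x, by rw [pow_one]⟩
    · intro x y
      have h1 : ⁅x, y⁆ ∈ commutator G := commutator_mem_commutator (mem_top _) (mem_top _)
      rw [D.commutator_eq] at h1
      have h2 : zpowers (D.a ^ (D.r - 1)) ≤ lev G p 1 := by
        rw [zpowers_le]
        obtain ⟨w, hw⟩ := D.hrp
        rw [hw, mul_comm, pow_mul]
        exact Subgroup.subset_closure ⟨D.a ^ w, by rw [pow_one]⟩
      exact h2 h1
  · unfold lev
    rw [closure_le]
    rintro x ⟨y, rfl⟩
    rw [pow_one]
    exact Cfsg.Agent.Lib.Helper03.pow_mem_frattini_of_isPGroup hG y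

theorem isMulCommutative_top_iff {G : Type*} [Group G] :
    IsMulCommutative ↥(⊤ : Subgroup G) ↔ IsMulCommutative G := by
  rw [isMulCommutative_iff]
  constructor
  · intro h
    exact ⟨⟨fun a b => h a (mem_top _) b (mem_top _)⟩⟩
  · intro h g _ k _
    exact (IsMulCommutative.is_comm (M := G)).comm g k

theorem one_le_n_of_not_comm (D : Data p G) (hodd : Odd p) (hna : ¬ IsMulCommutative G) : 1 ≤ D.n := by
  by_contra h
  have h0 : D.n = 0 := by omega
  apply hna
  rw [← isMulCommutative_top_iff, comm_iff_index (D := D) hodd, h0, index_top, pow_zero]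

end Data
end MC
end Cfsg.Agent.Lib.Helper68
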