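import Mathlib

set_option autoImplicit false

namespace Cfsg.Agent.Lib.Helper68

variable {G : Type*} [Group G]

/-- the conjugate subgroup `g H g⁻¹` in the form used by the statements -/
abbrev cj (g : G) (H : Subgroup G) : Subgroup G := H.map (MulAut.conj g).toMonoidHom

theorem mem_cj {g : G} {H : Subgroup G} {x : G} : x ∈ cj g H ↔ ∃ h ∈ H, g * h * g⁻¹ = x := by
  simp [cj, Subgroup.mem_map, MulAut.conj_apply]

theorem mem_cj' {g : G} {H : Subgroup G} {x : G} : x ∈ cj g H ↔ g⁻¹ * x * g ∈ H := by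
  rw [mem_cj]
  constructor
  · rintro ⟨h, hh, rfl⟩
    have : g⁻¹ * (g * h * g⁻¹) * g = h := by group
    rwa [this]
  · intro hx
    exact ⟨_, hx, by group⟩

theorem cj_mul (g h : G) (H : Subgroup G) : cj (g * h) H = cj g (cj h H) := by
  ext x
  simp only [mem_cj']
  have : (g * h)⁻¹ * x * (g * h) = h⁻¹ * (g⁻¹ * x * g) * h := by group
  rw [this]

theorem cj_one (H : Subgroup G) : cj 1 H = H := by
  ext x
  simp [mem_cj']

theorem cj_inv_cj (g : G) (H : Subgroup G) : cj g⁻¹ (cj g H) = H := by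
  rw [← cj_mul, inv_mul_cancel, cj_one]

theorem cj_cj_inv (g : G) (H : Subgroup G) : cj g (cj g⁻¹ H) = H := by
  rw [← cj_mul, mul_inv_cancel, cj_one]

theorem cj_mono (g : G) {H K : Subgroup G} (h : H ≤ K) : cj g H ≤ cj g K :=
  Subgroup.map_mono h

theorem cj_le_of_mem {J H : Subgroup G} {x : G} (hx : x ∈ J) (hH : H ≤ J) : cj x H ≤ J := by
  intro y hy
  rw [mem_cj] at hy
  obtain ⟨h, hh, rfl⟩ := hy
  exact J.mul_mem (J.mul_mem hx (hH hh)) (J.inv_mem hx)

theorem cj_eq_self_iff {g : G} {H : Subgroup G} :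
    cj g H = H ↔ g ∈ Subgroup.normalizer (H : Set G) :=
  Subgroup.mem_normalizer_iff_map_conj_eq.symm

theorem cj_sup (g : G) (H K : Subgroup G) : cj g (H ⊔ K) = cj g H ⊔ cj g K :=
  Subgroup.map_sup H K _

theorem card_cj (g : G) (H : Subgroup G) : Nat.card (cj g H) = Nat.card H := by
  have : Function.Injective (MulAut.conj g).toMonoidHom := (MulAut.conj g).injective
  exact Nat.card_congr (H.equivMapOfInjective _ this).toEquiv.symm

end Cfsg.Agent.Lib.Helper68
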