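import Mathlib
import Cfsg.Agent.Lib.Helper68.Conj

set_option autoImplicit false

namespace Cfsg.Agent.Lib.Helper68

variable {G : Type*} [Group G]

open scoped Pointwise

theorem smul_eq_cj (g : G) (H : Subgroup G) : MulAut.conj g • H = cj g H := by
  ext x
  rw [Subgroup.pointwise_smul_def]
  rfl

/-- two `p`-subgroups of index prime to `p` are conjugate -/
theorem exists_cj_eq_of_not_dvd_index [Finite G] {p : ℕ} [Fact p.Prime] (A B : Subgroup G)
    (hA : IsPGroup p A) (hB : IsPGroup p B) (hAi : ¬ p ∣ A.index) (hBi : ¬ p ∣ B.index) :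
    ∃ x : G, cj x A = B := by
  obtain ⟨x, hx⟩ := MulAction.exists_smul_eq G (hA.toSylow hAi) (hB.toSylow hBi)
  refine ⟨x, ?_⟩
  have := congrArg Sylow.toSubgroup hx
  rw [Sylow.coe_subgroup_smul, smul_eq_cj] at this
  simpa using this

theorem map_cj_subgroupOf (A H : Subgroup G) (hHA : H ≤ A) (a : ↥A) :
    (cj a (H.subgroupOf A)).map A.subtype = cj (a : G) H := by
  ext y
  constructor
  · rintro ⟨z, hz, rfl⟩
    rw [SetLike.mem_coe, mem_cj] at hz
    obtain ⟨h, hh, rfl⟩ := hz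
    rw [mem_cj]
    refine ⟨(h : G), ?_, ?_⟩
    · exact Subgroup.mem_subgroupOf.1 hh
    · simp
  · intro hy
    rw [mem_cj] at hy
    obtain ⟨h, hh, rfl⟩ := hy
    refine ⟨a * ⟨h, hHA hh⟩ * a⁻¹, ?_, ?_⟩
    · rw [SetLike.mem_coe, mem_cj]
      exact ⟨⟨h, hHA hh⟩, Subgroup.mem_subgroupOf.2 hh, rfl⟩
    · simp

/-- conjugacy inside a subgroup `J` of two `p`-subgroups of `J` of index prime to `p` in `J` -/
theorem exists_cj_eq_of_not_dvd_relIndex [Finite G] {p : ℕ} [Fact p.Prime] (J A B : Subgroup G)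
    (hAJ : A ≤ J) (hBJ : B ≤ J)
    (hA : IsPGroup p A) (hB : IsPGroup p B) (hAi : ¬ p ∣ A.relIndex J) (hBi : ¬ p ∣ B.relIndex J) :
    ∃ x ∈ J, cj x A = B := by
  have hA' : IsPGroup p (A.subgroupOf J) := by
    have := hA.comap_of_injective J.subtype J.subtype_injective
    exact this
  have hB' : IsPGroup p (B.subgroupOf J) := by
    have := hB.comap_of_injective J.subtype J.subtype_injective
    exact this
  obtain ⟨x, hx⟩ := exists_cj_eq_of_not_dvd_index (A.subgroupOf J) (B.subgroupOf J) hA' hB' hAi hBi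
  refine ⟨(x : G), x.2, ?_⟩
  have := congrArg (Subgroup.map J.subtype) hx
  rw [map_cj_subgroupOf J A hAJ, Subgroup.map_subgroupOf_eq_of_le hBJ] at this
  exact this

end Cfsg.Agent.Lib.Helper68
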