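import Mathlib
import Cfsg.Agent.Lib.Helper68.SylowConj

set_option autoImplicit false

namespace Cfsg.Agent.Lib.Helper68

variable {S : Type*} [Group S]

/-- A subgroup of prime index is maximal. -/
theorem eq_top_of_lt_of_index_prime {p : ℕ} (hp : p.Prime) (A B : Subgroup S) (hAi : A.index = p)
    (hlt : A < B) : B = ⊤ := by
  have h1 := Subgroup.relIndex_mul_index hlt.le
  rw [hAi] at h1
  have hdvd : B.index ∣ p := Dvd.intro_left _ h1
  rcases (Nat.dvd_prime hp).1 hdvd with h2 | h2
  · exact Subgroup.index_eq_one.1 h2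
  · exfalso
    rw [h2] at h1
    have h3 : A.relIndex B = 1 := Nat.eq_of_mul_eq_mul_right hp.pos (by rw [h1, one_mul])
    exact hlt.not_ge (Subgroup.relIndex_eq_one.1 h3)

/-- elements commuting with `A` (abelian) and with `s`, where `A ⊔ ⟨s⟩ = ⊤`, are central -/
theorem mem_center_of_comm_sup (A : Subgroup S) (s z : S) (hsup : A ⊔ Subgroup.zpowers s = ⊤)
    (hA : ∀ a ∈ A, a * z = z * a) (hs : s * z = z * s) : z ∈ Subgroup.center S := by
  rw [Subgroup.mem_center_iff]
  intro g
  have hle : A ⊔ Subgroup.zpowers s ≤ Subgroup.centralizer ({z} : Set S) := by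
    apply sup_le
    · intro a ha
      rw [Subgroup.mem_centralizer_iff]
      intro h hh
      rw [Set.mem_singleton_iff] at hh
      rw [hh]; exact (hA a ha).symm
    · rw [Subgroup.zpowers_le, Subgroup.mem_centralizer_iff]
      intro h hh
      rw [Set.mem_singleton_iff] at hh
      rw [hh]; exact hs.symm
  have hg : g ∈ Subgroup.centralizer ({z} : Set S) := hle (by rw [hsup]; trivial)
  rw [Subgroup.mem_centralizer_iff] at hg
  exact (hg z rfl).symm


theorem sup_zpowers_eq_top_of_index_prime {p : ℕ} (hp : p.Prime) (A : Subgroup S) (hAi : A.index = p)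
    (s : S) (hs : s ∉ A) : A ⊔ Subgroup.zpowers s = ⊤ := by
  apply eq_top_of_lt_of_index_prime hp A _ hAi
  apply lt_of_le_of_ne le_sup_left
  intro h
  apply hs
  rw [h]
  exact (le_sup_right : Subgroup.zpowers s ≤ A ⊔ Subgroup.zpowers s) (Subgroup.mem_zpowers s)

/-- if `A` is abelian, `A ⊔ ⟨s⟩ = ⊤` and the group is not abelian then the centre lies in `A` -/
theorem center_le_of_abelian_index_prime {p : ℕ} (hp : p.Prime) (hna : ¬ IsMulCommutative S)
    (A : Subgroup S) (hA : IsMulCommutative ↥A) (hAi : A.index = p) : Subgroup.center S ≤ A := by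
  intro z hz
  by_contra hzA
  apply hna
  have hsup := sup_zpowers_eq_top_of_index_prime hp A hAi z hzA
  rw [← Subgroup.center_eq_top_iff, eq_top_iff]
  intro x _
  apply mem_center_of_comm_sup A z x hsup
  · intro a ha
    -- x ∈ A ⊔ zpowers z; show a commutes with x
    have hle : A ⊔ Subgroup.zpowers z ≤ Subgroup.centralizer ({a} : Set S) := by
      apply sup_le
      · intro b hb
        rw [Subgroup.mem_centralizer_iff]
        intro h hh
        rw [Set.mem_singleton_iff] at hh
        rw [hh]
        have := mul_comm' (⟨a, ha⟩ : ↥A) ⟨b, hb⟩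
        exact congrArg Subtype.val this
      · rw [Subgroup.zpowers_le, Subgroup.mem_centralizer_iff]
        intro h hh
        rw [Set.mem_singleton_iff] at hh
        rw [hh]
        exact (Subgroup.mem_center_iff.1 hz a)
    have hx : x ∈ Subgroup.centralizer ({a} : Set S) := hle (by rw [hsup]; trivial)
    rw [Subgroup.mem_centralizer_iff] at hx
    exact hx a rfl
  · exact (Subgroup.mem_center_iff.1 hz x).symm


/-- the commutator homomorphism `a ↦ [a, s]` on an abelian normal subgroup -/
def commWith (A : Subgroup S) (hA : IsMulCommutative ↥A) (hAn : A.Normal) (s : S) : ↥A →* S where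
  toFun a := (a : S) * s * (a : S)⁻¹ * s⁻¹
  map_one' := by simp
  map_mul' a b := by
    have hcomm : ∀ x ∈ A, ∀ y ∈ A, x * y = y * x := by
      intro x hx y hy
      have := mul_comm' (⟨x, hx⟩ : ↥A) ⟨y, hy⟩
      exact congrArg Subtype.val this
    have hu : s * (b : S)⁻¹ * s⁻¹ ∈ A := hAn.conj_mem _ (A.inv_mem b.2) s
    have hv : s * (a : S)⁻¹ * s⁻¹ ∈ A := hAn.conj_mem _ (A.inv_mem a.2) s
    show ((a * b : ↥A) : S) * s * ((a * b : ↥A) : S)⁻¹ * s⁻¹ =
      ((a : S) * s * (a : S)⁻¹ * s⁻¹) * ((b : S) * s * (b : S)⁻¹ * s⁻¹)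
    rw [Subgroup.coe_mul]
    calc (a : S) * b * s * ((a : S) * b)⁻¹ * s⁻¹
        = a * (b * ((s * (b : S)⁻¹ * s⁻¹) * (s * (a : S)⁻¹ * s⁻¹))) := by group
      _ = a * (b * ((s * (a : S)⁻¹ * s⁻¹) * (s * (b : S)⁻¹ * s⁻¹))) := by rw [hcomm _ hu _ hv]
      _ = a * ((b * (s * (a : S)⁻¹ * s⁻¹)) * (s * (b : S)⁻¹ * s⁻¹)) := by group
      _ = a * (((s * (a : S)⁻¹ * s⁻¹) * b) * (s * (b : S)⁻¹ * s⁻¹)) := by rw [hcomm _ b.2 _ hv]
      _ = ((a : S) * s * (a : S)⁻¹ * s⁻¹) * ((b : S) * s * (b : S)⁻¹ * s⁻¹) := by group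

theorem commWith_apply (A : Subgroup S) (hA : IsMulCommutative ↥A) (hAn : A.Normal) (s : S) (a : ↥A) :
    commWith A hA hAn s a = (a : S) * s * (a : S)⁻¹ * s⁻¹ := rfl

theorem commWith_mem (A : Subgroup S) (hA : IsMulCommutative ↥A) (hAn : A.Normal) (s : S) (a : ↥A) :
    commWith A hA hAn s a ∈ A := by
  rw [commWith_apply]
  have : (a : S) * s * (a : S)⁻¹ * s⁻¹ = a * (s * (a : S)⁻¹ * s⁻¹) := by group
  rw [this]
  exact A.mul_mem a.2 (hAn.conj_mem _ (A.inv_mem a.2) s)


theorem commWith_ker {p : ℕ} (hp : p.Prime)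
    (A : Subgroup S) (hA : IsMulCommutative ↥A) (hAn : A.Normal) (hAi : A.index = p)
    (s : S) (hs : s ∉ A) :
    (commWith A hA hAn s).ker = (Subgroup.center S).subgroupOf A := by
  have hsup := sup_zpowers_eq_top_of_index_prime hp A hAi s hs
  ext a
  rw [MonoidHom.mem_ker, commWith_apply, Subgroup.mem_subgroupOf]
  constructor
  · intro h
    have hsa : s * (a : S) = a * s := by
      have h1 : (a : S) * s * (a : S)⁻¹ * s⁻¹ * (s * a) = s * a := by rw [h, one_mul]
      rw [← h1]; group
    apply mem_center_of_comm_sup A s a hsup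
    · intro b hb
      have := mul_comm' (⟨b, hb⟩ : ↥A) a
      exact congrArg Subtype.val this
    · exact hsa
  · intro h
    have := Subgroup.mem_center_iff.1 h s
    calc (a : S) * s * (a : S)⁻¹ * s⁻¹ = (s * a) * (a : S)⁻¹ * s⁻¹ := by rw [this]
      _ = 1 := by group

theorem commWith_range_normal {p : ℕ} (hp : p.Prime) [Finite S]
    (A : Subgroup S) (hA : IsMulCommutative ↥A) (hAn : A.Normal) (hAi : A.index = p)
    (s : S) (hs : s ∉ A) : (commWith A hA hAn s).range.Normal := by
  have hsup := sup_zpowers_eq_top_of_index_prime hp A hAi s hs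
  set K := (commWith A hA hAn s).range with hK
  have hKA : K ≤ A := by
    rintro _ ⟨a, rfl⟩
    exact commWith_mem A hA hAn s a
  rw [← Subgroup.normalizer_eq_top_iff, eq_top_iff, ← hsup]
  apply sup_le
  · intro b hb
    rw [← cj_eq_self_iff]
    ext x
    rw [mem_cj']
    constructor
    · intro hx
      have hxA : b⁻¹ * x * b ∈ A := hKA hx
      have hxA' : x ∈ A := by
        have : x = b * (b⁻¹ * x * b) * b⁻¹ := by group
        rw [this]; exact A.mul_mem (A.mul_mem hb hxA) (A.inv_mem hb)
      have hc := mul_comm' (⟨x, hxA'⟩ : ↥A) ⟨b, hb⟩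
      have hc' : x * b = b * x := congrArg Subtype.val hc
      have : b⁻¹ * x * b = x := by
        calc b⁻¹ * x * b = b⁻¹ * (x * b) := by group
          _ = b⁻¹ * (b * x) := by rw [hc']
          _ = x := by group
      rwa [this] at hx
    · intro hx
      have hxA : x ∈ A := hKA hx
      have hc := mul_comm' (⟨x, hxA⟩ : ↥A) ⟨b, hb⟩
      have hc' : x * b = b * x := congrArg Subtype.val hc
      have : b⁻¹ * x * b = x := by
        calc b⁻¹ * x * b = b⁻¹ * (x * b) := by group
          _ = b⁻¹ * (b * x) := by rw [hc']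
          _ = x := by group
      rwa [this]
  · rw [Subgroup.zpowers_le, ← cj_eq_self_iff]
    apply Subgroup.eq_of_le_of_card_ge
    · intro x hx
      rw [mem_cj] at hx
      obtain ⟨k, ⟨a, rfl⟩, rfl⟩ := hx
      refine ⟨⟨s * (a : S) * s⁻¹, hAn.conj_mem _ a.2 s⟩, ?_⟩
      rw [commWith_apply, commWith_apply]
      simp only
      group
    · rw [card_cj]

theorem commWith_range {p : ℕ} (hp : p.Prime) [Finite S]
    (A : Subgroup S) (hA : IsMulCommutative ↥A) (hAn : A.Normal) (hAi : A.index = p)
    (s : S) (hs : s ∉ A) : (commWith A hA hAn s).range = commutator S := by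
  have hsup := sup_zpowers_eq_top_of_index_prime hp A hAi s hs
  set K := (commWith A hA hAn s).range with hK
  have hKn : K.Normal := commWith_range_normal hp A hA hAn hAi s hs
  apply le_antisymm
  · rintro _ ⟨a, rfl⟩
    rw [commWith_apply, commutator_def]
    exact Subgroup.commutator_mem_commutator (Subgroup.mem_top (a : S)) (Subgroup.mem_top s)
  · rw [← Subgroup.Normal.quotient_commutative_iff_commutator_le, ← Subgroup.center_eq_top_iff,
      eq_top_iff]
    have hsurj : Function.Surjective (QuotientGroup.mk' K) := QuotientGroup.mk'_surjective K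
    -- images of A and s commute
    have hAs : ∀ a ∈ A, (QuotientGroup.mk' K) a * (QuotientGroup.mk' K) s =
        (QuotientGroup.mk' K) s * (QuotientGroup.mk' K) a := by
      intro a ha
      rw [← map_mul, ← map_mul]
      have h1 : (QuotientGroup.mk' K) (a * s * (s * a)⁻¹) = 1 := by
        apply (QuotientGroup.eq_one_iff _).2
        refine ⟨⟨a, ha⟩, ?_⟩
        rw [commWith_apply]; simp only; group
      have h2 : a * s = (a * s * (s * a)⁻¹) * (s * a) := by group
      rw [h2, map_mul, h1, one_mul]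
    have hAA : ∀ a ∈ A, ∀ b ∈ A, (QuotientGroup.mk' K) a * (QuotientGroup.mk' K) b =
        (QuotientGroup.mk' K) b * (QuotientGroup.mk' K) a := by
      intro a ha b hb
      rw [← map_mul, ← map_mul]
      have := mul_comm' (⟨a, ha⟩ : ↥A) ⟨b, hb⟩
      have h := congrArg Subtype.val this
      simp only [Subgroup.coe_mul] at h
      rw [h]
    -- every element is central
    have hcentral : ∀ z : S, (∀ a ∈ A, (QuotientGroup.mk' K) a * (QuotientGroup.mk' K) z =
        (QuotientGroup.mk' K) z * (QuotientGroup.mk' K) a) →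
        ((QuotientGroup.mk' K) s * (QuotientGroup.mk' K) z =
        (QuotientGroup.mk' K) z * (QuotientGroup.mk' K) s) →
        (QuotientGroup.mk' K) z ∈ Subgroup.center (S ⧸ K) := by
      intro z hzA hzs
      rw [Subgroup.mem_center_iff]
      intro g
      obtain ⟨x, rfl⟩ := hsurj g
      have hle : A ⊔ Subgroup.zpowers s ≤
          (Subgroup.centralizer ({(QuotientGroup.mk' K) z} : Set (S ⧸ K))).comap (QuotientGroup.mk' K) := by
        apply sup_le
        · intro a ha
          rw [Subgroup.mem_comap, Subgroup.mem_centralizer_iff]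
          intro h hh
          rw [Set.mem_singleton_iff] at hh
          rw [hh]; exact (hzA a ha).symm
        · rw [Subgroup.zpowers_le, Subgroup.mem_comap, Subgroup.mem_centralizer_iff]
          intro h hh
          rw [Set.mem_singleton_iff] at hh
          rw [hh]; exact hzs.symm
      have hx : x ∈ (Subgroup.centralizer ({(QuotientGroup.mk' K) z} : Set (S ⧸ K))).comap (QuotientGroup.mk' K) :=
        hle (by rw [hsup]; trivial)
      rw [Subgroup.mem_comap, Subgroup.mem_centralizer_iff] at hx
      exact (hx _ rfl).symm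
    have hs_c : (QuotientGroup.mk' K) s ∈ Subgroup.center (S ⧸ K) :=
      hcentral s hAs rfl
    have hA_c : ∀ a ∈ A, (QuotientGroup.mk' K) a ∈ Subgroup.center (S ⧸ K) := by
      intro a ha
      exact hcentral a (fun b hb => hAA b hb a ha) (hAs a ha).symm
    intro g _
    obtain ⟨x, rfl⟩ := hsurj g
    have hle : A ⊔ Subgroup.zpowers s ≤ (Subgroup.center (S ⧸ K)).comap (QuotientGroup.mk' K) := by
      apply sup_le
      · intro a ha; exact hA_c a ha
      · rw [Subgroup.zpowers_le]; exact hs_c
    exact hle (by rw [hsup]; trivial)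

/-- `|A| = |Z(S)| * |S'|` for an abelian normal subgroup of prime index in a non-abelian group -/
theorem card_eq_card_center_mul_card_commutator {p : ℕ} (hp : p.Prime) [Finite S]
    (hna : ¬ IsMulCommutative S)
    (A : Subgroup S) (hA : IsMulCommutative ↥A) (hAn : A.Normal) (hAi : A.index = p) :
    Nat.card A = Nat.card (Subgroup.center S) * Nat.card (commutator S) := by
  have hAtop : A ≠ ⊤ := by
    intro h
    rw [h, Subgroup.index_top] at hAi
    exact hp.one_lt.ne hAi
  obtain ⟨s, hs⟩ : ∃ s, s ∉ A := by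
    by_contra hcon
    push Not at hcon
    exact hAtop (eq_top_iff.2 fun x _ => hcon x)
  have hZA := center_le_of_abelian_index_prime hp hna A hA hAi
  have h1 := Subgroup.card_mul_index (commWith A hA hAn s).ker
  rw [Subgroup.index_ker, commWith_ker hp A hA hAn hAi s hs, commWith_range hp A hA hAn hAi s hs] at h1
  rw [← h1]
  congr 1
  exact Nat.card_congr (Subgroup.subgroupOfEquivOfLe hZA).toEquiv

end Cfsg.Agent.Lib.Helper68
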