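import Mathlib
import Cfsg.Prelude.Def_OddOrderLocal
import Cfsg.Agent.S1412
import Cfsg.Agent.Lib.Helper68.BGCentAb

/-!
# Centralizers of elementary abelian subgroups of order `p ^ 2` in Sylow subgroups of a minimal simple
group of odd order

* `comm_of_rank_two`: if the Sylow `p`-subgroup `P` has rank at most two, then `C_P(A)` is abelian for
  every elementary abelian `A ≤ P` of order `p ^ 2`, and all `p`-th powers of elements of `P` are central.
* `comm_of_sylow`: for an arbitrary Sylow `p`-subgroup `P` and `A ≤ P` elementary abelian of order `p ^ 2`,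
  maximal among the elementary abelian subgroups of `P`: `C_P(A)` is abelian, and the `p`-th powers of its
  elements of order dividing `p ^ 2` are central in `P`.
-/

set_option autoImplicit false

namespace Cfsg.Agent.Lib.Helper68.BGCentAb

open Cfsg

/-- elements of the join of two elementwise commuting subgroups are products -/
theorem exists_mul_of_mem_sup {G : Type*} [Group G] {P₁ P₂ : Subgroup G}
    (hc : ∀ a ∈ P₁, ∀ b ∈ P₂, a * b = b * a) {x : G} (hx : x ∈ P₁ ⊔ P₂) :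
    ∃ x₁ ∈ P₁, ∃ x₂ ∈ P₂, x = x₁ * x₂ := by
  rw [← Subgroup.closure_eq P₁, ← Subgroup.closure_eq P₂, ← Subgroup.closure_union] at hx
  induction hx using Subgroup.closure_induction with
  | mem u hu =>
    rcases hu with hu | hu
    · exact ⟨u, hu, 1, P₂.one_mem, (mul_one u).symm⟩
    · exact ⟨1, P₁.one_mem, u, hu, (one_mul u).symm⟩
  | one => exact ⟨1, P₁.one_mem, 1, P₂.one_mem, (mul_one 1).symm⟩
  | mul u v _ _ ihu ihv =>
    obtain ⟨u₁, hu₁, u₂, hu₂, rfl⟩ := ihu
    obtain ⟨v₁, hv₁, v₂, hv₂, rfl⟩ := ihv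
    refine ⟨u₁ * v₁, P₁.mul_mem hu₁ hv₁, u₂ * v₂, P₂.mul_mem hu₂ hv₂, ?_⟩
    have h := hc v₁ hv₁ u₂ hu₂
    calc u₁ * u₂ * (v₁ * v₂) = u₁ * (u₂ * v₁) * v₂ := by group
      _ = u₁ * (v₁ * u₂) * v₂ := by rw [h]
      _ = u₁ * v₁ * (u₂ * v₂) := by group
  | inv u _ ihu =>
    obtain ⟨u₁, hu₁, u₂, hu₂, rfl⟩ := ihu
    refine ⟨u₁⁻¹, P₁.inv_mem hu₁, u₂⁻¹, P₂.inv_mem hu₂, ?_⟩
    have h := hc u₁ hu₁ u₂ hu₂
    rw [mul_inv_rev]
    have h2 : Commute u₁⁻¹ u₂⁻¹ := (Commute.inv_inv (show Commute u₁ u₂ from h))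
    exact h2.symm

/-- the rank two case -/
theorem comm_of_rank_two {G : Type*} [Group G] [Finite G] (hG : IsMinSimpleOddOrder G) (p : ℕ)
    [hp : Fact p.Prime] (P : Sylow p G) (hr : PRankLE p 2 (P : Subgroup G)) (A : Subgroup G)
    (hAP : A ≤ (P : Subgroup G)) (hA : IsElementaryAbelian p A) (hA2 : Nat.card A = p ^ 2) :
    (∀ x ∈ (P : Subgroup G) ⊓ Subgroup.centralizer (A : Set G),
        ∀ y ∈ (P : Subgroup G) ⊓ Subgroup.centralizer (A : Set G), x * y = y * x) ∧
      (∀ x ∈ (P : Subgroup G), ∀ y ∈ (P : Subgroup G), x ^ p * y = y * x ^ p) := by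
  have hpp := hp.out
  rcases Cfsg.Agent.S1412.result hG p P hr with hab | ⟨P₁, P₂, hsup, hc, hna, hcard, hexp, hcyc, hZ⟩
  · refine ⟨fun x hx y hy => comm_of_isMulCommutative hab hx.1 hy.1, fun x hx y hy => ?_⟩
    exact comm_of_isMulCommutative hab (Subgroup.pow_mem _ hx p) hy
  · have hP₁P : P₁ ≤ (P : Subgroup G) := hsup ▸ le_sup_left
    have hP₂P : P₂ ≤ (P : Subgroup G) := hsup ▸ le_sup_right
    have hdec : ∀ x ∈ (P : Subgroup G), ∃ x₁ ∈ P₁, ∃ x₂ ∈ P₂, x = x₁ * x₂ := by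
      intro x hx
      rw [← hsup] at hx
      exact exists_mul_of_mem_sup hc hx
    -- `P₂` is commutative
    have hP₂c : ∀ a ∈ P₂, ∀ b ∈ P₂, a * b = b * a := by
      obtain ⟨g, hg⟩ := hcyc.exists_generator
      intro d hd d' hd'
      obtain ⟨i, hi⟩ := Subgroup.mem_zpowers_iff.1 (hg ⟨d, hd⟩)
      obtain ⟨j, hj⟩ := Subgroup.mem_zpowers_iff.1 (hg ⟨d', hd'⟩)
      have h1 : (⟨d, hd⟩ : ↥P₂) * ⟨d', hd'⟩ = ⟨d', hd'⟩ * ⟨d, hd⟩ := by
        rw [← hi, ← hj, ← zpow_add, ← zpow_add, add_comm]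
      exact congrArg Subtype.val h1
    -- `P₂` is central in `P`
    have hP₂cen : ∀ b ∈ P₂, ∀ y ∈ (P : Subgroup G), b * y = y * b := by
      intro b hb y hy
      obtain ⟨y₁, hy₁, y₂, hy₂, rfl⟩ := hdec y hy
      have h1 : Commute b y₁ := (hc y₁ hy₁ b hb).symm
      have h2 : Commute b y₂ := hP₂c b hb y₂ hy₂
      exact h1.mul_right h2
    -- `P₁` has exponent `p`
    have hP₁exp : ∀ a ∈ P₁, a ^ p = 1 := by
      intro a ha
      have := Monoid.pow_exponent_eq_one (⟨a, ha⟩ : ↥P₁)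
      rw [hexp] at this
      have h2 := congrArg Subtype.val this
      simpa using h2
    -- the `p`-th powers
    have hpow : ∀ x ∈ (P : Subgroup G), x ^ p ∈ P₂ := by
      intro x hx
      obtain ⟨x₁, hx₁, x₂, hx₂, rfl⟩ := hdec x hx
      have h1 : Commute x₁ x₂ := hc x₁ hx₁ x₂ hx₂
      rw [h1.mul_pow, hP₁exp x₁ hx₁, one_mul]
      exact Subgroup.pow_mem _ hx₂ p
    refine ⟨?_, fun x hx y hy => hP₂cen _ (hpow x hx) y hy⟩
    -- the group `Z₁ = Ω₁(P₂) = Z(P₁)` has order at most `p`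
    set Z₁ : Subgroup G := Subgroup.closure {x : G | x ∈ P₂ ∧ x ^ p = 1} with hZ₁
    have hZ₁P₂ : Z₁ ≤ P₂ := by
      rw [hZ₁, Subgroup.closure_le]
      rintro x ⟨hx, -⟩
      exact hx
    have hZ₁exp : ∀ x ∈ Z₁, x ^ p = 1 := by
      intro x hx
      induction hx using Subgroup.closure_induction with
      | mem u hu => exact hu.2
      | one => exact one_pow p
      | mul u v hu hv ihu ihv =>
        have hcv : Commute u v := hP₂c u (hZ₁P₂ hu) v (hZ₁P₂ hv)
        rw [hcv.mul_pow, ihu, ihv, one_mul]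
      | inv u _ ihu => rw [inv_pow, ihu, inv_one]
    have hZ₁card : Nat.card Z₁ ≤ p := by
      have : IsCyclic ↥Z₁ := by
        have h1 : IsCyclic ↥(Z₁.subgroupOf P₂) := by
          have := hcyc
          infer_instance
        exact isCyclic_of_surjective (Subgroup.subgroupOfEquivOfLe hZ₁P₂).toMonoidHom
          (Subgroup.subgroupOfEquivOfLe hZ₁P₂).surjective
      apply Cfsg.Agent.Lib.Helper68.R2.card_le_of_cyclic_of_pow hpp.pos
      intro x
      exact Subtype.ext (by simpa using hZ₁exp x x.2)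
    -- `A ≤ P₁`
    have hAP₁ : A ≤ P₁ := by
      intro a ha
      obtain ⟨a₁, ha₁, a₂, ha₂, rfl⟩ := hdec a (hAP ha)
      have h1 : Commute a₁ a₂ := hc a₁ ha₁ a₂ ha₂
      have h2 := hA.2 _ ha
      rw [h1.mul_pow, hP₁exp a₁ ha₁, one_mul] at h2
      have h3 : a₂ ∈ Z₁ := Subgroup.subset_closure ⟨ha₂, h2⟩
      rw [hZ] at h3
      exact P₁.mul_mem ha₁ h3.1
    -- `C_{P₁}(A) = A`
    set C₁ : Subgroup G := P₁ ⊓ Subgroup.centralizer (A : Set G) with hC₁
    have hAC₁ : A ≤ C₁ := by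
      intro a ha
      have hmem : a ∈ Subgroup.centralizer (A : Set G) := by
        rw [Subgroup.mem_centralizer_iff]
        intro b hb
        exact comm_of_isMulCommutative hA.1 hb ha
      exact ⟨hAP₁ ha, hmem⟩
    have hC₁ne : C₁ ≠ P₁ := by
      intro h
      have h1 : A ≤ Z₁ := by
        intro a ha
        rw [hZ]
        have hmem : a ∈ Subgroup.centralizer (P₁ : Set G) := by
          rw [Subgroup.mem_centralizer_iff]
          intro b hb
          have hb' : b ∈ C₁ := by rw [h]; exact hb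
          exact (Subgroup.mem_centralizer_iff.1 hb'.2 a ha).symm
        exact ⟨hAP₁ ha, hmem⟩
      have h2 := Subgroup.card_le_of_le h1
      rw [hA2] at h2
      have h3 : p ^ 2 ≤ p := h2.trans hZ₁card
      have h4 : p < p ^ 2 := by
        have := hpp.one_lt
        nlinarith
      omega
    have hC₁A : C₁ = A := by
      symm
      apply Subgroup.eq_of_le_of_card_ge hAC₁
      have h1 : Nat.card C₁ ∣ p ^ 3 := hcard ▸ Subgroup.card_dvd_of_le inf_le_left
      obtain ⟨k, hk, hk'⟩ := (Nat.dvd_prime_pow hpp).1 h1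
      have hk3 : k ≠ 3 := by
        intro h
        apply hC₁ne
        apply Subgroup.eq_of_le_of_card_ge inf_le_left
        rw [hcard, hk', h]
      have hk2 : k ≤ 2 := by omega
      rw [hk', hA2]
      exact Nat.pow_le_pow_right hpp.pos hk2
    intro x hx y hy
    obtain ⟨x₁, hx₁, x₂, hx₂, rfl⟩ := hdec x hx.1
    obtain ⟨y₁, hy₁, y₂, hy₂, rfl⟩ := hdec y hy.1
    have hx₂c : x₂ ∈ Subgroup.centralizer (A : Set G) := by
      rw [Subgroup.mem_centralizer_iff]
      intro a ha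
      exact (hP₂cen x₂ hx₂ a (hAP ha)).symm
    have hy₂c : y₂ ∈ Subgroup.centralizer (A : Set G) := by
      rw [Subgroup.mem_centralizer_iff]
      intro a ha
      exact (hP₂cen y₂ hy₂ a (hAP ha)).symm
    have hx₁A : x₁ ∈ A := by
      rw [← hC₁A]
      refine ⟨hx₁, ?_⟩
      have : x₁ = x₁ * x₂ * x₂⁻¹ := by group
      rw [this]
      exact Subgroup.mul_mem _ hx.2 (Subgroup.inv_mem _ hx₂c)
    have hy₁A : y₁ ∈ A := by
      rw [← hC₁A]
      refine ⟨hy₁, ?_⟩
      have : y₁ = y₁ * y₂ * y₂⁻¹ := by group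
      rw [this]
      exact Subgroup.mul_mem _ hy.2 (Subgroup.inv_mem _ hy₂c)
    have h1 : Commute x₁ y₁ := comm_of_isMulCommutative hA.1 hx₁A hy₁A
    have h2 : Commute x₁ y₂ := hc x₁ hx₁ y₂ hy₂
    have h3 : Commute x₂ y₁ := (hc y₁ hy₁ x₂ hx₂).symm
    have h4 : Commute x₂ y₂ := hP₂c x₂ hx₂ y₂ hy₂
    exact (h1.mul_right h2).mul_left (h3.mul_right h4)

/-- **Sylow form.** `P` a Sylow `p`-subgroup of a minimal simple group of odd order, `A ≤ P` elementary
abelian of order `p ^ 2`, maximal among the elementary abelian subgroups of `P`. Then `C_P(A)` is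
abelian and the `p`-th powers of its elements of order dividing `p ^ 2` are central in `P`. -/
theorem comm_of_sylow {G : Type*} [Group G] [Finite G] (hG : IsMinSimpleOddOrder G) (p : ℕ)
    [hp : Fact p.Prime] (P : Sylow p G) (A : Subgroup G)
    (hAP : A ≤ (P : Subgroup G)) (hA : IsElementaryAbelian p A) (hA2 : Nat.card A = p ^ 2)
    (hmax : ∀ B : Subgroup G, B ≤ (P : Subgroup G) → IsElementaryAbelian p B → A ≤ B → B = A) :
    (∀ x ∈ (P : Subgroup G) ⊓ Subgroup.centralizer (A : Set G),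
        ∀ y ∈ (P : Subgroup G) ⊓ Subgroup.centralizer (A : Set G), x * y = y * x) ∧
      (∀ x ∈ (P : Subgroup G) ⊓ Subgroup.centralizer (A : Set G), x ^ (p * p) = 1 →
        ∀ y ∈ (P : Subgroup G), x ^ p * y = y * x ^ p) := by
  have hp2 : p ≠ 2 := by
    intro h
    have h1 : Nat.card A ∣ Nat.card G := Subgroup.card_subgroup_dvd_card A
    rw [hA2, h] at h1
    have h2 : 2 ∣ Nat.card G := (Dvd.intro_left 2 rfl : 2 ∣ 2 ^ 2).trans h1
    exact (Nat.not_even_iff_odd.2 hG.1) (even_iff_two_dvd.2 h2)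
  by_cases hr : PRankLE p 2 (P : Subgroup G)
  · obtain ⟨h1, h2⟩ := comm_of_rank_two hG p P hr A hAP hA hA2
    exact ⟨h1, fun x hx _ y hy => h2 x hx.1 y hy⟩
  · exact comm_of_maxElemAb_subgroup p hp2 (P : Subgroup G) P.isPGroup' hr A hAP hA hA2 hmax

end Cfsg.Agent.Lib.Helper68.BGCentAb
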