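import Mathlib
import Cfsg.Agent.Lib.Helper15.BG139Defs
import Cfsg.Agent.Lib.Helper31.BG12a
import Cfsg.Agent.Lib.Helper13.BG12B
import Cfsg.Agent.S1350
import Cfsg.Agent.S1405
import Cfsg.Agent.S1417
import Cfsg.Agent.S1426

/-!
# K-S1378-L1b (helper68): BG 13.9, step 2: `τ₂(M) = ∅`, `M_σ` not nilpotent, `M_α ≠ 1`
-/

set_option autoImplicit false

namespace Cfsg.Agent.Lib.Helper68.BG139

open Cfsg Cfsg.Agent.Lib.Helper55 Cfsg.Agent.Lib.Helper31.BG134 Cfsg.Agent.Lib.Helper15.BG139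

variable {G : Type*} [Group G] [Finite G]

theorem isNilpotent_of_injective' {A B : Type*} [Group A] [Group B] (f : A →* B)
    (hf : Function.Injective f) [Group.IsNilpotent B] : Group.IsNilpotent A := by
  have : Group.IsNilpotent f.range := inferInstance
  exact Group.nilpotent_of_mulEquiv (MonoidHom.ofInjective hf).symm

theorem Cfg.not_nilpotent {M N S : Subgroup G} {p : ℕ} (c : Cfg M N S p) :
    ¬ Group.IsNilpotent (sigmaCore M) := fun hnil =>
  Cfsg.Agent.Lib.Helper31.BG12.sigma_sigma_disjoint c.hG c.hM c.hN c.hnc hnil c.hpM c.hpN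

theorem Cfg.tau2_empty {M N S : Subgroup G} {p : ℕ} (c : Cfg M N S p) : ∀ q : ℕ, q ∉ tau2 M := by
  intro q hq
  have : Fact q.Prime := ⟨hq.1⟩
  obtain ⟨A, hAM, hAe, hAc⟩ := Cfsg.Agent.Lib.Helper13.BG12.exists_elemAb_sq_of_tau2 hq
  exact Cfg.not_nilpotent c (Cfsg.Agent.S1417.result c.hG M c.hM q hq A ⟨hAM, hAe, hAc⟩).1

theorem Cfg.alphaCore_ne_bot {M N S : Subgroup G} {p : ℕ} (c : Cfg M N S p) : alphaCore M ≠ ⊥ := by
  intro hα
  apply Cfg.not_nilpotent c
  have hG := c.hG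
  have hM := c.hM
  -- `O_α(M) = 1`
  have hpc : piCore (alpha M) ↥M = ⊥ := by
    unfold alphaCore at hα
    exact (Subgroup.map_eq_bot_iff_of_injective _ M.subtype_injective).mp hα
  -- `M'` is nilpotent
  have h5 := (Cfsg.Agent.S1405.result hG M hM).2.2.2.2
  have hinj : Function.Injective (QuotientGroup.mk' (piCore (alpha M) ↥M)) := by
    rw [← MonoidHom.ker_eq_bot_iff, QuotientGroup.ker_mk', hpc]
  have := h5
  have hcn : Group.IsNilpotent ↥(commutator ↥M) :=
    Group.nilpotent_of_mulEquiv ((commutator ↥M).equivMapOfInjective _ hinj).symm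
  have := hcn
  have hcn' : Group.IsNilpotent ↥((commutator ↥M).map M.subtype) :=
    Group.nilpotent_of_mulEquiv ((commutator ↥M).equivMapOfInjective _ M.subtype_injective)
  rw [Subgroup.map_subtype_commutator] at hcn'
  have := hcn'
  -- `M_σ ≤ M'`
  have hHall := (Cfsg.Agent.S1350.result hG M hM).1
  obtain ⟨E, hE, -⟩ := Cfsg.Agent.Lib.Helper13.BG12.exists_complIn_ge hG hM hHall
    (K := ⊥) bot_le (by
      intro q hq hqd
      rw [Subgroup.card_bot] at hqd
      exact absurd (Nat.dvd_one.mp hqd) hq.one_lt.ne')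
  have h26 := (Cfsg.Agent.S1426.result hG M hM E hE).2.1
  have hle : sigmaCore M ≤ ⁅M, M⁆ := by
    calc sigmaCore M = ⁅sigmaCore M, E⁆ := h26.symm
      _ ≤ ⁅M, M⁆ := Subgroup.commutator_mono hE.2.1 hE.1
  exact isNilpotent_of_injective' (Subgroup.inclusion hle) (Subgroup.inclusion_injective hle)

end Cfsg.Agent.Lib.Helper68.BG139
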