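import Mathlib
import Cfsg.Agent.Lib.Helper11.BG144Defs
import Cfsg.Agent.Lib.Helper48.BG144G1
import Cfsg.Agent.Lib.Helper55.Basic
import Cfsg.Agent.Lib.Helper55.Uniq2
import Cfsg.Agent.Lib.Helper55.Uniq3
import Cfsg.Agent.Lib.Helper01.BG134CJ
import Cfsg.Agent.Lib.Helper71.BG11a
import Cfsg.Agent.Lib.Helper31.FittingHall
import Cfsg.Agent.S1350

/-!
# K-144-G2 (keystone 137410, S1377 = BG Lemma 14.5): the double count

`|Ã| = (|M_σ| - 1) |G : M|` for `A = M_σ - 1`, from the statements of BG 14.4 (`HA`, `HB`, `HC`,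
`H1433`, `H1374`) and the compatibility of `supportR` with conjugation.
-/

set_option autoImplicit false

namespace Cfsg.Agent.Lib.Helper68.BG144

open Cfsg Subgroup Cfsg.Agent.Lib.Helper55

variable {G : Type*} [Group G] [Finite G]

/-! ### `M_σ` and conjugation -/

theorem sigmaCore_cj (hG : IsMinSimpleOddOrder G) {M : Subgroup G} (hM : IsCoatom M) (y : G) :
    sigmaCore (cj y M) = cj y (sigmaCore M) := by
  have hM' : IsCoatom (cj y M) := isCoatom_cj y hM
  have hH := (Cfsg.Agent.S1350.result hG M hM).1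
  refine ((Cfsg.Agent.S1350.result hG (cj y M) hM').2.2 (cj y (sigmaCore M)) ?_ ?_).symm
  · have h1 : M ≤ normalizer (sigmaCore M : Set G) :=
      Cfsg.Agent.Lib.Helper71.BG11.le_normalizer_sigmaCore M
    have h2 := cj_mono (g := y) h1
    rwa [cj_normalizer] at h2
  · refine ⟨cj_mono hH.1, ?_, ?_⟩
    · intro p hp hpd
      rw [card_cj] at hpd
      rw [Cfsg.Agent.Lib.Helper01.BG134.mem_sigma_cj_iff]
      exact hH.2.1 p hp hpd
    · intro p hp hpσ hpd
      rw [Cfsg.Agent.Lib.Helper01.BG134.mem_sigma_cj_iff] at hpσ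
      have : (cj y (sigmaCore M)).relIndex (cj y M) = (sigmaCore M).relIndex M :=
        Subgroup.relIndex_map_map_of_injective _ _ (MulAut.conj y).injective
      rw [this] at hpd
      exact hH.2.2 p hp hpσ hpd

/-! ### unfolding `supportR` -/

theorem supportR_eq_bot' (M : Subgroup G) (x : G) (h : centralizer ({x} : Set G) ≤ M) :
    supportR M x = ⊥ := by
  unfold supportR
  rw [dif_neg]
  intro h'
  exact h'.1 h

theorem supportR_eq' (hC : Cfsg.Agent.Lib.Helper11.BG144.HC G) {M : Subgroup G} {x : G}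
    {N : Subgroup G} (h : Cfsg.Agent.Lib.Helper11.BG144.Supp M x N) :
    supportR M x = sigmaCore N ⊓ centralizer ({x} : Set G) := by
  have hnot : ¬ centralizer ({x} : Set G) ≤ M := by
    intro hle
    apply h.R_ne
    rw [eq_bot_iff, ← h.inf_bot]
    exact inf_le_inf_left _ hle
  have hcond : ¬ centralizer ({x} : Set G) ≤ M ∧
      ∃! L : Subgroup G, IsCoatom L ∧ centralizer ({x} : Set G) ≤ L :=
    ⟨hnot, N, ⟨h.coatom, h.cent_le⟩, fun L hL => h.uniq L hL.1 hL.2⟩
  unfold supportR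
  rw [dif_pos hcond]
  have hch : Classical.choose hcond.2.exists = N :=
    h.uniq _ (Classical.choose_spec hcond.2.exists).1 (Classical.choose_spec hcond.2.exists).2
  rw [hch, ← hC N h.coatom h.nilp]

theorem supportR_congr {M₁ M₂ : Subgroup G} {x : G}
    (h : centralizer ({x} : Set G) ≤ M₁ ↔ centralizer ({x} : Set G) ≤ M₂) :
    supportR M₁ x = supportR M₂ x := by
  classical
  unfold supportR
  by_cases h1 : ¬ centralizer ({x} : Set G) ≤ M₁ ∧
      ∃! L : Subgroup G, IsCoatom L ∧ centralizer ({x} : Set G) ≤ L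
  · have h2 : ¬ centralizer ({x} : Set G) ≤ M₂ ∧
        ∃! L : Subgroup G, IsCoatom L ∧ centralizer ({x} : Set G) ≤ L :=
      ⟨fun hh => h1.1 (h.2 hh), h1.2⟩
    rw [dif_pos h1, dif_pos h2]
  · have h2 : ¬ (¬ centralizer ({x} : Set G) ≤ M₂ ∧
        ∃! L : Subgroup G, IsCoatom L ∧ centralizer ({x} : Set G) ≤ L) :=
      fun hh => h1 ⟨fun hh' => hh.1 (h.1 hh'), hh.2⟩
    rw [dif_neg h1, dif_neg h2]

/-- `supportR` does not depend on the conjugate of `M` through `x` -/
theorem supportR_cj_eq (hA : Cfsg.Agent.Lib.Helper11.BG144.HA G) {M₁ : Subgroup G}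
    (hM₁ : IsCoatom M₁) {b : G} (hb : b ∈ sigmaCore M₁) (hb1 : b ≠ 1) (g : G)
    (hbg : b ∈ cj g M₁) : supportR (cj g M₁) b = supportR M₁ b := by
  obtain ⟨c, hc, hcg⟩ : ∃ c ∈ centralizer ({b} : Set G), cj c M₁ = cj g M₁ :=
    hA M₁ hM₁ b hb hb1 g hbg
  rw [← hcg]
  apply supportR_congr
  have hcc : cj c (centralizer ({b} : Set G)) = centralizer ({b} : Set G) :=
    cj_eq_self_of_mem hc
  have hcc' : cj c⁻¹ (centralizer ({b} : Set G)) = centralizer ({b} : Set G) :=
    cj_eq_self_of_mem (inv_mem hc)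
  constructor
  · intro h
    have := cj_mono (g := c⁻¹) h
    rwa [hcc', cj_inv_cj] at this
  · intro h
    have := cj_mono (g := c) h
    rwa [hcc] at this

/-- the order of `R(b)` is the index of `C_{M₁}(b)` in `C_G(b)` -/
theorem card_supportR (hB : Cfsg.Agent.Lib.Helper11.BG144.HB G)
    (hC : Cfsg.Agent.Lib.Helper11.BG144.HC G) {M₁ : Subgroup G} (hM₁ : IsCoatom M₁) {b : G}
    (hb : b ∈ sigmaCore M₁) (hb1 : b ≠ 1) :
    Nat.card ↥(M₁ ⊓ centralizer ({b} : Set G)) * Nat.card (supportR M₁ b) =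
      Nat.card (centralizer ({b} : Set G)) := by
  by_cases hle : centralizer ({b} : Set G) ≤ M₁
  · rw [supportR_eq_bot' M₁ b hle, Subgroup.card_bot, mul_one, inf_eq_right.2 hle]
  · obtain ⟨N, hN⟩ := hB M₁ hM₁ b hb hb1 hle
    rw [supportR_eq' hC hN]
    apply Cfsg.Agent.Lib.Helper31.IsComplIn.card_mul
    refine ⟨inf_le_right, inf_le_right, ?_, ?_⟩
    · rw [eq_bot_iff, ← hN.inf_bot]
      intro z hz
      exact ⟨hz.2.1, hz.1.1⟩
    · intro n hn
      exact hN.cent_split n hn

/-! ### conjugates of `M` and cosets of `M` -/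

theorem cj_eq_cj_iff (hG : IsMinSimpleOddOrder G) {M : Subgroup G} (hM : IsCoatom M)
    (hM1 : M ≠ ⊥) (y z : G) : cj y M = cj z M ↔ y⁻¹ * z ∈ M := by
  have hN : normalizer (M : Set G) = M := ms_normalizer_eq hG hM hM1 le_rfl le_normalizer
  constructor
  · intro h
    have h2 : cj (y⁻¹ * z) M = M := by
      rw [cj_mul, ← h, cj_inv_cj]
    rw [cj_eq_self_iff, hN] at h2
    exact h2
  · intro h
    have h2 : cj (y⁻¹ * z) M = M := cj_eq_self_of_mem h
    have h3 : cj z M = cj y (cj (y⁻¹ * z) M) := by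
      rw [← cj_mul]
      congr 1
      group
    rw [h3, h2]

theorem card_filter_mem [Fintype G] [DecidableEq G] (H : Subgroup G)
    [DecidablePred (fun g => g ∈ H)] :
    (Finset.univ.filter (fun g => g ∈ H)).card = Nat.card H := by
  rw [Nat.card_eq_fintype_card, Fintype.card_subtype]

/-! ### the double count -/

/-- **K-144-G2 (137410).** BG Lemma 14.5 from the statements of Theorem 14.4. -/
theorem s1377_of (hG : IsMinSimpleOddOrder G) (hA : Cfsg.Agent.Lib.Helper11.BG144.HA G)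
    (hB : Cfsg.Agent.Lib.Helper11.BG144.HB G) (hC : Cfsg.Agent.Lib.Helper11.BG144.HC G)
    (h33 : Cfsg.Agent.Lib.Helper11.BG144.H1433 G) (h74 : Cfsg.Agent.Lib.Helper11.BG144.H1374 G)
    (M : Subgroup G) (hM : IsCoatom M) :
    Set.ncard (tildeOf M ((sigmaCore M : Set G) \ {1})) =
      (Nat.card (sigmaCore M) - 1) * M.index := by
  classical
  haveI : Fintype G := Fintype.ofFinite G
  haveI : Fintype (G ⧸ M) := Fintype.ofFinite _
  have hcoat : ∀ y, IsCoatom (cj y M) := fun y => isCoatom_cj y hM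
  have hσ : ∀ y, sigmaCore (cj y M) = cj y (sigmaCore M) := fun y => sigmaCore_cj hG hM y
  have hσle : ∀ L : Subgroup G, sigmaCore L ≤ L := Cfsg.Agent.Lib.Helper71.BG11.sigmaCore_le
  -- the function `R`
  let Rb : G → Subgroup G := fun b =>
    if h : ∃ y, b ∈ sigmaCore (cj y M) then supportR (cj h.choose M) b else ⊥
  have hRb : ∀ y b, b ≠ 1 → b ∈ sigmaCore (cj y M) → Rb b = supportR (cj y M) b := by
    intro y b hb1 hb
    have hex : ∃ y, b ∈ sigmaCore (cj y M) := ⟨y, hb⟩
    have hb' : b ∈ sigmaCore (cj hex.choose M) := hex.choose_spec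
    have h1 : cj hex.choose M = cj (hex.choose * y⁻¹) (cj y M) := by
      rw [← cj_mul]
      congr 1
      group
    show (if h : ∃ y, b ∈ sigmaCore (cj y M) then supportR (cj h.choose M) b else ⊥) = _
    rw [dif_pos hex, h1]
    apply supportR_cj_eq hA (hcoat y) hb hb1
    rw [← h1]
    exact hσle _ hb'
  let S : Finset G := Finset.univ.filter (fun b => b ≠ 1 ∧ ∃ y, b ∈ sigmaCore (cj y M))
  let piece : G → Finset G := fun b =>
    (Finset.univ.filter (fun r => r ∈ Rb b)).image (fun r => b * r)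
  have hS : ∀ b, b ∈ S ↔ b ≠ 1 ∧ ∃ y, b ∈ sigmaCore (cj y M) := by
    intro b
    show b ∈ Finset.univ.filter (fun b => b ≠ 1 ∧ ∃ y, b ∈ sigmaCore (cj y M)) ↔ _
    rw [Finset.mem_filter]
    exact ⟨fun h => h.2, fun h => ⟨Finset.mem_univ _, h⟩⟩
  have hpc : ∀ b g, g ∈ piece b ↔ ∃ r ∈ Rb b, b * r = g := by
    intro b g
    show g ∈ (Finset.univ.filter (fun r => r ∈ Rb b)).image (fun r => b * r) ↔ _
    rw [Finset.mem_image]
    constructor
    · rintro ⟨r, hr, h⟩
      exact ⟨r, (Finset.mem_filter.1 hr).2, h⟩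
    · rintro ⟨r, hr, h⟩
      exact ⟨r, Finset.mem_filter.2 ⟨Finset.mem_univ _, hr⟩, h⟩
  -- step 1 : the set is the union of the pieces
  have hT : tildeOf M ((sigmaCore M : Set G) \ {1}) = ↑(S.biUnion piece) := by
    ext g
    rw [Finset.mem_coe, Finset.mem_biUnion]
    constructor
    · rintro ⟨a, ⟨haσ, ha1⟩, r, hr, y, rfl⟩
      have ha1' : a ≠ 1 := ha1
      have hb1 : y * a * y⁻¹ ≠ 1 := by
        intro h
        apply ha1'
        have h2 : a = y⁻¹ * (y * a * y⁻¹) * y := by group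
        rw [h2, h]
        group
      have hbσ : y * a * y⁻¹ ∈ sigmaCore (cj y M) := by
        rw [hσ]
        exact conj_mem_cj haσ
      refine ⟨y * a * y⁻¹, (hS _).2 ⟨hb1, y, hbσ⟩, ?_⟩
      rw [hpc]
      refine ⟨y * r * y⁻¹, ?_, by group⟩
      rw [hRb y _ hb1 hbσ, Cfsg.Agent.Lib.Helper48.BG144.supportR_conj]
      exact conj_mem_cj hr
    · rintro ⟨b, hbS, hg⟩
      obtain ⟨hb1, y, hb⟩ := (hS b).1 hbS
      obtain ⟨r', hr', rfl⟩ := (hpc b g).1 hg
      rw [hRb y b hb1 hb] at hr'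
      rw [hσ] at hb
      obtain ⟨a, ha, hab⟩ : ∃ a ∈ sigmaCore M, b = y * a * y⁻¹ :=
        ⟨y⁻¹ * b * y, mem_cj.1 hb, by group⟩
      subst hab
      rw [Cfsg.Agent.Lib.Helper48.BG144.supportR_conj] at hr'
      obtain ⟨r, hr, hrr'⟩ : ∃ r ∈ supportR M a, r' = y * r * y⁻¹ :=
        ⟨y⁻¹ * r' * y, mem_cj.1 hr', by group⟩
      subst hrr'
      refine ⟨a, ⟨ha, ?_⟩, r, hr, y, by group⟩
      intro h
      rw [Set.mem_singleton_iff] at h
      apply hb1
      rw [h]
      group
  -- step 2 : the pieces are disjoint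
  have hdisj : (S : Set G).PairwiseDisjoint piece := by
    intro b hb b' hb' hne
    obtain ⟨hb1, y, hby⟩ := (hS b).1 (Finset.mem_coe.1 hb)
    obtain ⟨hb'1, y', hby'⟩ := (hS b').1 (Finset.mem_coe.1 hb')
    show Disjoint (piece b) (piece b')
    rw [Finset.disjoint_left]
    intro g hg hg'
    obtain ⟨r, hr, rfl⟩ := (hpc b g).1 hg
    obtain ⟨r', hr', hrr⟩ := (hpc b' _).1 hg'
    rw [hRb y b hb1 hby] at hr
    rw [hRb y' b' hb'1 hby'] at hr'
    exact h33 (cj y M) (cj y' M) (hcoat y) (hcoat y') b b' hby hby' hb1 hb'1 hne r hr r' hr'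
      hrr.symm
  -- step 3 : the size of a piece
  have hpiece : ∀ b, (piece b).card = Nat.card (Rb b) := by
    intro b
    show ((Finset.univ.filter (fun r => r ∈ Rb b)).image (fun r => b * r)).card = _
    rw [Finset.card_image_of_injective _ (mul_right_injective b)]
    exact card_filter_mem (Rb b)
  -- the conjugate attached to a coset
  have hF : ∀ z : G, cj ((z : G ⧸ M)).out M = cj z M := by
    intro z
    obtain ⟨h, hh⟩ := QuotientGroup.mk_out_eq_mul M z
    rw [hh, cj_mul, cj_eq_self_of_mem h.2]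
  -- step 4 : `|R(b)|` is the number of conjugates of `M` with `b` in their `σ`-core
  have hcount : ∀ b ∈ S, Nat.card (Rb b) =
      (Finset.univ.filter (fun q : G ⧸ M => b ∈ sigmaCore (cj q.out M))).card := by
    intro b hbS
    obtain ⟨hb1, y, hby⟩ := (hS b).1 hbS
    have hM1 : M ≠ ⊥ := by
      rintro rfl
      apply hb1
      have h1 := hσle _ hby
      rw [cj_bot] at h1
      exact Subgroup.mem_bot.1 h1
    obtain ⟨-, R', -, hR'c, hR'u⟩ := h74 (cj y M) (hcoat y) b hby hb1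
    have hcard : Nat.card R' = Nat.card (Rb b) := by
      have h1 := Cfsg.Agent.Lib.Helper31.IsComplIn.card_mul hR'c
      have h2 := card_supportR hB hC (hcoat y) hby hb1
      rw [← h2] at h1
      rw [hRb y b hb1 hby]
      exact Nat.eq_of_mul_eq_mul_left Nat.card_pos h1
    rw [← hcard, ← card_filter_mem R']
    have hR'cent : ∀ r ∈ R', r * b * r⁻¹ = b := by
      intro r hr
      have h1 := hR'c.2.1 hr
      rw [Subgroup.mem_centralizer_iff] at h1
      have h2 := h1 b rfl
      rw [← h2]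
      group
    apply Finset.card_bij (fun r _ => ((r * y : G) : G ⧸ M))
    · intro r hr
      have hr' : r ∈ R' := (Finset.mem_filter.1 hr).2
      rw [Finset.mem_filter]
      refine ⟨Finset.mem_univ _, ?_⟩
      rw [hF, cj_mul, sigmaCore_cj hG (hcoat y) r, ← hR'cent r hr']
      exact conj_mem_cj hby
    · intro r hr r' hr' heq
      have hr1 : r ∈ R' := (Finset.mem_filter.1 hr).2
      have hr'1 : r' ∈ R' := (Finset.mem_filter.1 hr').2
      have h1 : cj ((r * y : G) : G ⧸ M).out M = cj ((r' * y : G) : G ⧸ M).out M := by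
        rw [heq]
      rw [hF, hF, cj_mul, cj_mul] at h1
      have hbr : b ∈ cj r (cj y M) := by
        rw [← hR'cent r hr1]
        exact conj_mem_cj (hσle _ hby)
      obtain ⟨r₀, -, hu⟩ := hR'u r hbr
      rw [hu r ⟨hr1, rfl⟩, hu r' ⟨hr'1, h1.symm⟩]
    · intro q hq
      have hq' : b ∈ sigmaCore (cj q.out M) := (Finset.mem_filter.1 hq).2
      have h1 : cj q.out M = cj (q.out * y⁻¹) (cj y M) := by
        rw [← cj_mul]
        congr 1
        group
      have hbq : b ∈ cj (q.out * y⁻¹) (cj y M) := by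
        rw [← h1]
        exact hσle _ hq'
      obtain ⟨r, ⟨hr, hr2⟩, -⟩ := hR'u (q.out * y⁻¹) hbq
      refine ⟨r, Finset.mem_filter.2 ⟨Finset.mem_univ _, hr⟩, ?_⟩
      have h2 : cj (r * y) M = cj q.out M := by
        rw [cj_mul, h1]
        exact hr2
      rw [← QuotientGroup.out_eq' q]
      exact QuotientGroup.eq.2 ((cj_eq_cj_iff hG hM hM1 _ _).1 h2)
  -- step 5 : the number of non-identity elements of the `σ`-core of a conjugate
  have hbelow : ∀ q ∈ (Finset.univ : Finset (G ⧸ M)),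
      (S.bipartiteBelow (fun (b : G) (q : G ⧸ M) => b ∈ sigmaCore (cj q.out M)) q).card =
        Nat.card (sigmaCore M) - 1 := by
    intro q _
    have h1 : S.bipartiteBelow (fun (b : G) (q : G ⧸ M) => b ∈ sigmaCore (cj q.out M)) q =
        (Finset.univ.filter (fun g => g ∈ sigmaCore (cj q.out M))).erase 1 := by
      ext b
      rw [Finset.mem_bipartiteBelow, Finset.mem_erase, hS, Finset.mem_filter]
      constructor
      · rintro ⟨⟨hb1, -⟩, hb⟩
        exact ⟨hb1, Finset.mem_univ _, hb⟩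
      · rintro ⟨hb1, -, hb⟩
        exact ⟨⟨hb1, _, hb⟩, hb⟩
    rw [h1, Finset.card_erase_of_mem (Finset.mem_filter.2 ⟨Finset.mem_univ _, one_mem _⟩),
      card_filter_mem, hσ, card_cj]
  rw [hT, Set.ncard_coe_finset, Finset.card_biUnion hdisj]
  have h5 : ∀ b ∈ S, (piece b).card =
      ((Finset.univ : Finset (G ⧸ M)).bipartiteAbove
        (fun (b : G) (q : G ⧸ M) => b ∈ sigmaCore (cj q.out M)) b).card := by
    intro b hb
    rw [hpiece, hcount b hb]
    rfl
  rw [Finset.sum_congr rfl h5, Finset.sum_card_bipartiteAbove_eq_sum_card_bipartiteBelow,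
    Finset.sum_congr rfl hbelow, Finset.sum_const, smul_eq_mul, Finset.card_univ,
    Subgroup.index_eq_card, Nat.card_eq_fintype_card (α := G ⧸ M), mul_comm]

end Cfsg.Agent.Lib.Helper68.BG144
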