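import Mathlib
import Cfsg.Agent.Lib.Helper71.BG1366Defs
import Cfsg.Agent.Lib.Helper15.BG142Defs
import Cfsg.Agent.Lib.Helper55.Basic
import Cfsg.Agent.Lib.Helper71.BG11a
import Cfsg.Agent.Lib.Helper31.BG12a
import Cfsg.Agent.S1378

/-!
# K-1366-A (keystone 136601, pack K-1366, architect helper71): `home_basic`.
The home `J ⊇ N_G(X)` of a subgroup `X ≤ K` of prime order: `X ≤ J_σ`, `J` not conjugate to `M`,
`σ(M) ∩ σ(J) = ∅`, `K K* ≤ J`, `M_σ ∩ J = K*`.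
-/

set_option autoImplicit false

namespace Cfsg.Agent.Lib.Helper68.BG1366

open Cfsg Subgroup Cfsg.Agent.Lib.Helper55 Cfsg.Agent.Lib.Helper11.BG14D Cfsg.Agent.Lib.Helper11.BG144
  Cfsg.Agent.Lib.Helper31.BG147 Cfsg.Agent.Lib.Helper71.BG1366

variable {G : Type*} [Group G] [Finite G]

/-- **KEYSTONE 136601  K-1366-A.** -/
theorem home_basic (hG : IsMinSimpleOddOrder G) (h30 : H1430 G) {M K X J : Subgroup G} (hp : PPair M K)
    (hXK : X ≤ K) (hXc : (Nat.card X).Prime) (hJ : IsCoatom J) (hNJ : normalizer (X : Set G) ≤ J) :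
    X ≤ sigmaCore J ∧ (∀ g : G, J ≠ M.map (MulAut.conj g).toMonoidHom) ∧ (∀ r : ℕ, r ∈ sigma M → r ∉ sigma J) ∧
      K ⊔ Ks M K ≤ J ∧ sigmaCore M ⊓ J = Ks M K := by
  obtain ⟨c1, -, c3⟩ := h30 M hp.coatom K hp.hall hp.ne
  obtain ⟨hN, -, hhome⟩ := c3 X hXK hXc
  have hXJ : X ≤ sigmaCore J := hhome J hJ hNJ
  have hZJ : K ⊔ Ks M K ≤ J := by
    have h1 : K ⊔ Ks M K = M ⊓ normalizer (X : Set G) := hN.symm
    rw [h1]
    exact inf_le_right.trans hNJ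
  have hpσJ : Nat.card X ∈ sigma J :=
    Cfsg.Agent.Lib.Helper71.BG11.sigmaCore_pi hG hJ hXc (Subgroup.card_dvd_of_le hXJ)
  have hpκ : Nat.card X ∈ kappa M := hp.hall.2.1 _ hXc (Subgroup.card_dvd_of_le hXK)
  have hpσM : Nat.card X ∉ sigma M := hpκ.2.2.1
  have hnc : ∀ g : G, J ≠ M.map (MulAut.conj g).toMonoidHom := by
    intro g hJg
    have : Fact (Nat.card X).Prime := ⟨hXc⟩
    have h1 : Nat.card X ∈ sigma (cj g⁻¹ J) := Cfsg.Agent.Lib.Helper31.BG12.mem_sigma_cj hpσJ g⁻¹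
    rw [hJg] at h1
    have h2 : cj g⁻¹ (M.map (MulAut.conj g).toMonoidHom) = M := cj_inv_cj g M
    rw [h2] at h1
    exact hpσM h1
  have hdis : ∀ r : ℕ, r ∈ sigma M → r ∉ sigma J := by
    intro r hrM hrJ
    obtain ⟨g, hg⟩ := (Cfsg.Agent.S1378.result hG).2 M J hp.coatom hJ ⟨r, hrM, hrJ⟩
    exact hnc g hg
  refine ⟨hXJ, hnc, hdis, hZJ, ?_⟩
  -- `M_σ ⊓ J_σ = ⊥`
  have hbot : sigmaCore M ⊓ sigmaCore J = ⊥ := by
    by_contra hne
    have hcard : Nat.card ↥(sigmaCore M ⊓ sigmaCore J) ≠ 1 := by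
      intro h
      exact hne (Subgroup.card_eq_one.1 h)
    obtain ⟨r, hr, hrd⟩ := Nat.exists_prime_and_dvd hcard
    have h1 : r ∈ sigma M := Cfsg.Agent.Lib.Helper71.BG11.sigmaCore_pi hG hp.coatom hr
      (hrd.trans (Subgroup.card_dvd_of_le inf_le_left))
    have h2 : r ∈ sigma J := Cfsg.Agent.Lib.Helper71.BG11.sigmaCore_pi hG hJ hr
      (hrd.trans (Subgroup.card_dvd_of_le inf_le_right))
    exact hdis r h1 h2
  -- a generator of `X`
  obtain ⟨x, hxX, hx1⟩ : ∃ x ∈ X, x ≠ 1 := by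
    have hXne : X ≠ ⊥ := by
      intro h
      rw [h, Subgroup.card_bot] at hXc
      exact Nat.not_prime_one hXc
    obtain ⟨a, ha⟩ := Subgroup.ne_bot_iff_exists_ne_one.1 hXne
    exact ⟨a.1, a.2, fun h => ha (Subtype.ext h)⟩
  apply le_antisymm
  · intro d hd
    obtain ⟨hdM, hdJ⟩ := Subgroup.mem_inf.1 hd
    have hxM : x ∈ M := hp.hall.1 (hXK hxX)
    have hxJσ : x ∈ sigmaCore J := hXJ hxX
    have hc1 : d * (x * d⁻¹ * x⁻¹) ∈ sigmaCore M := by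
      have h1 : x * d⁻¹ * x⁻¹ ∈ sigmaCore M :=
        ((Subgroup.mem_normalizer_iff.1
          (Cfsg.Agent.Lib.Helper71.BG11.le_normalizer_sigmaCore M hxM)) d⁻¹).1 (inv_mem hdM)
      exact mul_mem hdM h1
    have hc2 : d * x * d⁻¹ * x⁻¹ ∈ sigmaCore J := by
      have h1 : d * x * d⁻¹ ∈ sigmaCore J :=
        ((Subgroup.mem_normalizer_iff.1
          (Cfsg.Agent.Lib.Helper71.BG11.le_normalizer_sigmaCore J hdJ)) x).1 hxJσ
      exact mul_mem h1 (inv_mem hxJσ)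
    have heq : d * (x * d⁻¹ * x⁻¹) = d * x * d⁻¹ * x⁻¹ := by group
    rw [heq] at hc1
    have hc : d * x * d⁻¹ * x⁻¹ = 1 := by
      have h : d * x * d⁻¹ * x⁻¹ ∈ sigmaCore M ⊓ sigmaCore J := Subgroup.mem_inf.2 ⟨hc1, hc2⟩
      rw [hbot] at h
      exact Subgroup.mem_bot.1 h
    have hcomm : x * d = d * x := by
      calc x * d = (d * x * d⁻¹ * x⁻¹)⁻¹ * (d * x) := by group
        _ = d * x := by rw [hc, inv_one, one_mul]
    have hd' : d ∈ sigmaCore M ⊓ centralizer ({x} : Set G) := by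
      refine Subgroup.mem_inf.2 ⟨hdM, Subgroup.mem_centralizer_iff.2 ?_⟩
      intro y hy
      rw [Set.mem_singleton_iff] at hy
      rw [hy]
      exact hcomm
    rw [c1 x (hXK hxX) hx1] at hd'
    exact hd'
  · exact le_inf inf_le_left (le_sup_right.trans hZJ)

end Cfsg.Agent.Lib.Helper68.BG1366
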