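import Mathlib
import Cfsg.Agent.Lib.Helper11.BG14DDefs

/-!
# K-1370-T (keystone 137004, S1370, architect helper11): `Ẑ = K K* - (K ∪ K*)` is a TI-subset with
normalizer `K K*`
-/

set_option autoImplicit false

namespace Cfsg.Agent.Lib.Helper68.BG14D

open Cfsg Subgroup Cfsg.Agent.Lib.Helper11.BG14D

/-- commuting factors of coprime exponents are determined by their product -/
theorem eq_of_mul_eq_mul_of_coprime' {G : Type*} [Group G] {a b a' b' : G} {m n : ℕ}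
    (hmn : m.Coprime n) (ha : a ^ m = 1) (ha' : a' ^ m = 1) (hb : b ^ n = 1) (hb' : b' ^ n = 1)
    (hab : a * b = b * a) (hab' : a' * b' = b' * a') (h : a * b = a' * b') :
    a = a' ∧ b = b' := by
  have h1 : a ^ n = a' ^ n := by
    have e1 : (a * b) ^ n = a ^ n := by
      rw [(show Commute a b from hab).mul_pow, hb, mul_one]
    have e2 : (a' * b') ^ n = a' ^ n := by
      rw [(show Commute a' b' from hab').mul_pow, hb', mul_one]
    rw [← e1, ← e2, h]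
  have hbez : (1 : ℤ) = (m : ℤ) * Nat.gcdA m n + (n : ℤ) * Nat.gcdB m n := by
    have h2 := Nat.gcd_eq_gcd_ab m n
    rw [Nat.Coprime.gcd_eq_one hmn] at h2
    exact_mod_cast h2
  have key : ∀ c : G, c ^ m = 1 → c = (c ^ n) ^ (Nat.gcdB m n) := by
    intro c hc
    calc c = c ^ (1 : ℤ) := (zpow_one c).symm
      _ = c ^ ((m : ℤ) * Nat.gcdA m n + (n : ℤ) * Nat.gcdB m n) := by rw [← hbez]
      _ = (c ^ (m : ℤ)) ^ (Nat.gcdA m n) * (c ^ (n : ℤ)) ^ (Nat.gcdB m n) := by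
        rw [zpow_add, zpow_mul, zpow_mul]
      _ = (c ^ n) ^ (Nat.gcdB m n) := by
        rw [zpow_natCast, zpow_natCast, hc, one_zpow, one_mul]
  have haa : a = a' := by
    calc a = (a ^ n) ^ (Nat.gcdB m n) := key a ha
      _ = (a' ^ n) ^ (Nat.gcdB m n) := by rw [h1]
      _ = a' := (key a' ha').symm
  refine ⟨haa, ?_⟩
  subst haa
  exact mul_left_cancel h

variable {G : Type*} [Group G]

/-- **abstract form**: `K`, `Y` commuting subgroups of coprime orders, `K` abelian; if every `g` that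
maps a non-identity element of `K` into `K` and a non-identity element of `Y` into `Y` lies in `K Y`,
then `K Y - (K ∪ Y)` is a TI-subset with normalizer `K Y`. -/
theorem ti_of_commuting [Finite G] {K Y : Subgroup G}
    (hc : ∀ k ∈ K, ∀ y ∈ Y, k * y = y * k) (hKab : ∀ k ∈ K, ∀ k' ∈ K, k * k' = k' * k)
    (hcop : (Nat.card K).Coprime (Nat.card Y)) (hinf : K ⊓ Y = ⊥) (hK1 : K ≠ ⊥) (hY1 : Y ≠ ⊥)
    (hmain : ∀ g : G, ∀ k ∈ K, k ≠ 1 → ∀ y ∈ Y, y ≠ 1 → g * k * g⁻¹ ∈ K → g * y * g⁻¹ ∈ Y →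
      g ∈ K ⊔ Y) :
    IsTISubset ((↑(K ⊔ Y) : Set G) \ ((K : Set G) ∪ ↑Y)) ∧
      normalizer ((↑(K ⊔ Y) : Set G) \ ((K : Set G) ∪ ↑Y)) = K ⊔ Y := by
  have hYcK : Y ≤ centralizer (K : Set G) := by
    intro y hy
    rw [Subgroup.mem_centralizer_iff]
    intro k hk
    exact hc k hk y hy
  have hKcY : K ≤ centralizer (Y : Set G) := by
    intro k hk
    rw [Subgroup.mem_centralizer_iff]
    intro y hy
    exact (hc k hk y hy).symm
  have hKcK : K ≤ centralizer (K : Set G) := by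
    intro k hk
    rw [Subgroup.mem_centralizer_iff]
    intro k' hk'
    exact hKab k' hk' k hk
  have hKNY : K ≤ normalizer (Y : Set G) := hKcY.trans (Subgroup.centralizer_le_normalizer _)
  have hNK : K ⊔ Y ≤ normalizer (K : Set G) :=
    sup_le Subgroup.le_normalizer (hYcK.trans (Subgroup.centralizer_le_normalizer _))
  have hNY : K ⊔ Y ≤ normalizer (Y : Set G) := sup_le hKNY Subgroup.le_normalizer
  have hsup : ∀ z ∈ K ⊔ Y, ∃ k ∈ K, ∃ y ∈ Y, z = k * y := by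
    intro z hz
    have hz' : z ∈ ((K ⊔ Y : Subgroup G) : Set G) := hz
    rw [Subgroup.coe_mul_of_left_le_normalizer_right K Y hKNY] at hz'
    obtain ⟨k, hk, y, hy, rfl⟩ := hz'
    exact ⟨k, hk, y, hy, rfl⟩
  -- membership in `Ẑ`
  have hZ : ∀ z, z ∈ ((↑(K ⊔ Y) : Set G) \ ((K : Set G) ∪ ↑Y)) ↔ z ∈ K ⊔ Y ∧ z ∉ K ∧ z ∉ Y := by
    intro z
    constructor
    · rintro ⟨h1, h2⟩
      exact ⟨h1, fun h => h2 (Or.inl h), fun h => h2 (Or.inr h)⟩
    · rintro ⟨h1, h2, h3⟩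
      exact ⟨h1, fun h => h.elim h2 h3⟩
  have hdec : ∀ z, z ∈ ((↑(K ⊔ Y) : Set G) \ ((K : Set G) ∪ ↑Y)) →
      ∃ k ∈ K, k ≠ 1 ∧ ∃ y ∈ Y, y ≠ 1 ∧ z = k * y := by
    intro z hz
    obtain ⟨h1, h2, h3⟩ := (hZ z).1 hz
    obtain ⟨k, hk, y, hy, rfl⟩ := hsup z h1
    refine ⟨k, hk, ?_, y, hy, ?_, rfl⟩
    · rintro rfl
      apply h3
      rw [one_mul]
      exact hy
    · rintro rfl
      apply h2
      rw [mul_one]
      exact hk
  -- the key claim
  have hclaim : ∀ g z, z ∈ ((↑(K ⊔ Y) : Set G) \ ((K : Set G) ∪ ↑Y)) →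
      g * z * g⁻¹ ∈ ((↑(K ⊔ Y) : Set G) \ ((K : Set G) ∪ ↑Y)) → g ∈ K ⊔ Y := by
    intro g z hz hgz
    obtain ⟨k, hk, hk1, y, hy, hy1, rfl⟩ := hdec z hz
    obtain ⟨k', hk', -, y', hy', -, hkk⟩ := hdec _ hgz
    have hpK : ∀ x ∈ K, x ^ Nat.card K = 1 := fun x hx =>
      orderOf_dvd_iff_pow_eq_one.mp (K.orderOf_dvd_natCard hx)
    have hpY : ∀ x ∈ Y, x ^ Nat.card Y = 1 := fun x hx =>
      orderOf_dvd_iff_pow_eq_one.mp (Y.orderOf_dvd_natCard hx)
    have e0 : (g * k * g⁻¹) * (g * y * g⁻¹) = k' * y' := by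
      rw [← hkk]
      group
    have ea : (g * k * g⁻¹) ^ Nat.card K = 1 := by
      rw [conj_pow, hpK k hk, mul_one, mul_inv_cancel]
    have eb : (g * y * g⁻¹) ^ Nat.card Y = 1 := by
      rw [conj_pow, hpY y hy, mul_one, mul_inv_cancel]
    have ec : (g * k * g⁻¹) * (g * y * g⁻¹) = (g * y * g⁻¹) * (g * k * g⁻¹) := by
      have h1 : (g * k * g⁻¹) * (g * y * g⁻¹) = g * (k * y) * g⁻¹ := by group
      have h2 : (g * y * g⁻¹) * (g * k * g⁻¹) = g * (y * k) * g⁻¹ := by group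
      rw [h1, h2, hc k hk y hy]
    obtain ⟨e1, e2⟩ := eq_of_mul_eq_mul_of_coprime' hcop ea (hpK k' hk') eb (hpY y' hy') ec
      (hc k' hk' y' hy') e0
    exact hmain g k hk hk1 y hy hy1 (e1 ▸ hk') (e2 ▸ hy')
  -- `K Y` normalizes `Ẑ`
  have hle : K ⊔ Y ≤ normalizer ((↑(K ⊔ Y) : Set G) \ ((K : Set G) ∪ ↑Y)) := by
    intro h hh
    rw [Subgroup.mem_set_normalizer_iff]
    intro z
    rw [hZ, hZ]
    have i1 : z ∈ K ⊔ Y ↔ h * z * h⁻¹ ∈ K ⊔ Y :=
      (Subgroup.mem_normalizer_iff.1 (Subgroup.le_normalizer hh)) z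
    have i2 : z ∈ K ↔ h * z * h⁻¹ ∈ K := (Subgroup.mem_normalizer_iff.1 (hNK hh)) z
    have i3 : z ∈ Y ↔ h * z * h⁻¹ ∈ Y := (Subgroup.mem_normalizer_iff.1 (hNY hh)) z
    rw [i1, i2, i3]
  -- `Ẑ` is not empty
  have hne : ∃ z, z ∈ ((↑(K ⊔ Y) : Set G) \ ((K : Set G) ∪ ↑Y)) := by
    obtain ⟨k, hk, hk1⟩ := (Subgroup.ne_bot_iff_exists_ne_one.1 hK1 |>.elim
      (fun k hk => ⟨(k : G), k.2, fun h => hk (Subtype.ext h)⟩) : ∃ k ∈ K, k ≠ (1 : G))
    obtain ⟨y, hy, hy1⟩ := (Subgroup.ne_bot_iff_exists_ne_one.1 hY1 |>.elim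
      (fun y hy => ⟨(y : G), y.2, fun h => hy (Subtype.ext h)⟩) : ∃ y ∈ Y, y ≠ (1 : G))
    refine ⟨k * y, (hZ _).2 ⟨?_, ?_, ?_⟩⟩
    · exact mul_mem (Subgroup.mem_sup_left hk) (Subgroup.mem_sup_right hy)
    · intro h
      apply hy1
      have h2 : y ∈ K := by
        have : y = k⁻¹ * (k * y) := by group
        rw [this]
        exact mul_mem (inv_mem hk) h
      have h3 : y ∈ K ⊓ Y := ⟨h2, hy⟩
      rw [hinf] at h3
      exact Subgroup.mem_bot.1 h3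
    · intro h
      apply hk1
      have h2 : k ∈ Y := by
        have : k = (k * y) * y⁻¹ := by group
        rw [this]
        exact mul_mem h (inv_mem hy)
      have h3 : k ∈ K ⊓ Y := ⟨hk, h2⟩
      rw [hinf] at h3
      exact Subgroup.mem_bot.1 h3
  refine ⟨?_, le_antisymm ?_ hle⟩
  · intro g hg x hx hgx
    exact absurd (hle (hclaim g x hx hgx)) hg
  · intro g hg
    obtain ⟨z, hz⟩ := hne
    exact hclaim g z hz ((Subgroup.mem_set_normalizer_iff.1 hg z).1 hz)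

variable [Finite G]

/-- **K-1370-T (137004).** S1370. -/
theorem s1370_of (hG : IsMinSimpleOddOrder G) (h31 : H1431 G) (M : Subgroup G) (hM : IsCoatom M)
    (K U : Subgroup G) (hKU : IsSigmaDecomposition M K U) (hK1 : K ≠ ⊥) (hF : KFacts M K) :
    P1370 M K := by
  obtain ⟨h31a, h31b, -, -⟩ := h31 M hM K hKU.hall hK1
  have hKM : K ≤ M := hKU.hall.1
  have hσM : sigmaCore M ≤ M := by
    unfold sigmaCore
    intro x hx
    obtain ⟨m, -, rfl⟩ := Subgroup.mem_map.1 hx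
    exact m.2
  apply ti_of_commuting (K := K) (Y := sigmaCore M ⊓ centralizer (K : Set G))
  · intro k hk y hy
    exact (Subgroup.mem_centralizer_iff.1 hy.2 k hk)
  · exact hF.comm
  · exact hF.coprime
  · exact hF.inf_bot
  · exact hK1
  · exact hF.Ks_ne
  · intro g k hk hk1 y hy hy1 hgk hgy
    have hgM : g ∈ M := by
      by_contra hgM
      have h1 := h31a g hgM
      have h2 : g * y * g⁻¹ ∈ (sigmaCore M ⊓ centralizer (K : Set G)) ⊓
          M.map (MulAut.conj g).toMonoidHom :=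
        ⟨hgy, Subgroup.mem_map.2 ⟨y, hσM hy.1, rfl⟩⟩
      rw [h1] at h2
      apply hy1
      have h3 : g * y * g⁻¹ = 1 := Subgroup.mem_bot.1 h2
      have h4 : y = g⁻¹ * (g * y * g⁻¹) * g := by group
      rw [h4, h3]
      group
    by_contra hgKY
    have h1 := h31b g hgM hgKY
    have h2 : g * k * g⁻¹ ∈ K ⊓ K.map (MulAut.conj g).toMonoidHom :=
      ⟨hgk, Subgroup.mem_map.2 ⟨k, hk, rfl⟩⟩
    rw [h1] at h2
    apply hk1
    have h3 : g * k * g⁻¹ = 1 := Subgroup.mem_bot.1 h2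
    have h4 : k = g⁻¹ * (g * k * g⁻¹) * g := by group
    rw [h4, h3]
    group

end Cfsg.Agent.Lib.Helper68.BG14D
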