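import Cfsg.Agent.Lib.Helper03.FrobSub

/-!
# BG 13.9, step 11 (helper68), context-free: the order of the Frobenius complement via Frobenius–Wielandt

`S ⋊ E` a Frobenius-like group (`E` acts on the nilpotent group `S` without fixed points) acting on a
solvable group `H` of coprime order; `P ≤ E` with `C_H(P) = C_H(E)` ("prime action").  If `S` does not
centralize `H` then `P = E`.
-/

set_option autoImplicit false

namespace Cfsg.Agent.Lib.Helper68.BG139

open Cfsg.Agent.Lib.Helper03.FrobSub

variable {X : Type*} [Group X]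

theorem centralizer_sup_eq (A B : Subgroup X) :
    Subgroup.centralizer ((A ⊔ B : Subgroup X) : Set X) =
      Subgroup.centralizer (A : Set X) ⊓ Subgroup.centralizer (B : Set X) := by
  apply le_antisymm
  · exact le_inf (Subgroup.centralizer_le (by exact_mod_cast (le_sup_left : A ≤ A ⊔ B)))
      (Subgroup.centralizer_le (by exact_mod_cast (le_sup_right : B ≤ A ⊔ B)))
  · intro x hx
    obtain ⟨hA, hB⟩ := Subgroup.mem_inf.mp hx
    rw [Subgroup.mem_centralizer_iff] at hA hB ⊢
    -- the centralizer of `x` contains `A` and `B`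
    have hle : A ⊔ B ≤ Subgroup.centralizer ({x} : Set X) := by
      apply sup_le
      · intro a ha
        rw [Subgroup.mem_centralizer_iff]
        intro y hy
        rw [Set.mem_singleton_iff] at hy
        subst hy
        exact (hA a ha).symm
      · intro b hb
        rw [Subgroup.mem_centralizer_iff]
        intro y hy
        rw [Set.mem_singleton_iff] at hy
        subst hy
        exact (hB b hb).symm
    intro y hy
    have := hle hy
    rw [Subgroup.mem_centralizer_iff] at this
    exact (this x rfl).symm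

/-- **BG 13.9, step 11**, context-free. -/
theorem eq_of_wielandt [Finite X] (S E P H : Subgroup X) (hPE : P ≤ E)
    (hSn : ∀ e ∈ E, ∀ u ∈ S, e * u * e⁻¹ ∈ S)
    (hfpf : ∀ e ∈ E, e ≠ 1 → ∀ u ∈ S, e * u = u * e → u = 1)
    (hnil : Group.IsNilpotent S)
    (hHn : ∀ x ∈ S ⊔ E, ∀ h ∈ H, x * h * x⁻¹ ∈ H)
    (hsolv : Group.IsSolvable H) (hcop : Nat.Coprime (Nat.card H) (Nat.card ↥(S ⊔ E)))
    (hprime : H ⊓ Subgroup.centralizer (P : Set X) = H ⊓ Subgroup.centralizer (E : Set X))
    (hnc : ¬ H ≤ Subgroup.centralizer (S : Set X)) : P = E := by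
  have hSP_le : S ⊔ P ≤ S ⊔ E := sup_le_sup_left hPE S
  have hcopP : Nat.Coprime (Nat.card H) (Nat.card ↥(S ⊔ P)) :=
    Nat.Coprime.coprime_dvd_right (Subgroup.card_dvd_of_le hSP_le) hcop
  have w1 := wielandt_sub S P H (fun e he => hSn e (hPE he)) (fun e he => hfpf e (hPE he)) hnil
    (fun x hx => hHn x (hSP_le hx)) hsolv hcopP
  have w2 := wielandt_sub S E H hSn hfpf hnil hHn hsolv hcop
  -- the two joint centralizers coincide
  have hjoint : H ⊓ Subgroup.centralizer ((S ⊔ P : Subgroup X) : Set X) =
      H ⊓ Subgroup.centralizer ((S ⊔ E : Subgroup X) : Set X) := by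
    rw [centralizer_sup_eq, centralizer_sup_eq, inf_left_comm, hprime, inf_left_comm]
  rw [hjoint, hprime] at w1
  set c := Nat.card ↥(H ⊓ Subgroup.centralizer ((S ⊔ E : Subgroup X) : Set X)) with hc
  set d := Nat.card ↥(H ⊓ Subgroup.centralizer (E : Set X)) with hd
  set s := Nat.card ↥(H ⊓ Subgroup.centralizer (S : Set X)) with hs
  have hc0 : 0 < c := Nat.card_pos
  have hs0 : 0 < s := Nat.card_pos
  -- `c ∣ d`
  have hcd : c ∣ d := by
    apply Subgroup.card_dvd_of_le
    rw [centralizer_sup_eq]
    exact inf_le_inf_left H inf_le_right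
  obtain ⟨k, hk⟩ := hcd
  -- `|H| = k ^ |P| * s = k ^ |E| * s`
  have e1 : Nat.card H = k ^ Nat.card P * s := by
    rw [hk, mul_pow, mul_assoc] at w1
    exact Nat.eq_of_mul_eq_mul_left (pow_pos hc0 _) w1
  have e2 : Nat.card H = k ^ Nat.card E * s := by
    rw [hk, mul_pow, mul_assoc] at w2
    exact Nat.eq_of_mul_eq_mul_left (pow_pos hc0 _) w2
  -- `s < |H|`
  have hlt : s < Nat.card H := by
    have hle : H ⊓ Subgroup.centralizer (S : Set X) ≤ H := inf_le_left
    have hne : H ⊓ Subgroup.centralizer (S : Set X) ≠ H := by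
      intro h
      exact hnc (inf_eq_left.mp h)
    have hdvd := Subgroup.card_dvd_of_le hle
    have hle' := Nat.le_of_dvd Nat.card_pos hdvd
    rcases Nat.lt_or_eq_of_le hle' with h | h
    · exact h
    · exact absurd (Subgroup.eq_of_le_of_card_ge hle (le_of_eq h.symm)) hne
  -- `k > 1`
  have hk1 : 1 < k := by
    by_contra hk1
    have hk01 : k = 0 ∨ k = 1 := by omega
    rcases hk01 with h0 | h1
    · rw [h0, zero_pow Nat.card_pos.ne', zero_mul] at e1
      exact absurd e1 Nat.card_pos.ne'
    · rw [h1, one_pow, one_mul] at e1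
      omega
  have hpow : k ^ Nat.card P = k ^ Nat.card E := by
    have := e1.symm.trans e2
    exact Nat.eq_of_mul_eq_mul_right hs0 this
  have hcard : Nat.card P = Nat.card E := Nat.pow_right_injective hk1 hpow
  exact Subgroup.eq_of_le_of_card_ge hPE (le_of_eq hcard.symm)

end Cfsg.Agent.Lib.Helper68.BG139
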