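import Mathlib
import Cfsg.Prelude.Def_GeometricClasses
import Cfsg.Agent.Lib.Helper61.AschDefs
import Cfsg.Agent.Lib.Helper61.AschUDefs
import Cfsg.Agent.Lib.Helper04.AschUB6eDefs
import Cfsg.Agent.Lib.Helper19.UnitaryDet

/-!
# K-B6e-4 (helper68): for the standard tensor form structure, `P (A ⊗ B) P⁻¹` is unitary when `A`, `B` are.
-/

set_option autoImplicit false

namespace Cfsg.Agent.Lib.Helper68.AschU

open Cfsg Cfsg.Geo Cfsg.Agent.Lib.Helper61.Asch Cfsg.Agent.Lib.Helper61.AschU Cfsg.Agent.Lib.Helper04.AschU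
open scoped Matrix Kronecker MatrixGroups

variable {F : Type*} [Field F]

/-- the sesquilinear dot form under a matrix, any index type -/
theorem dot_map_mulVec {κ : Type*} [Fintype κ] (φ : F →+* F) (M : Matrix κ κ F) (x y : κ → F) :
    (M *ᵥ x) ⬝ᵥ (φ ∘ (M *ᵥ y)) = x ⬝ᵥ ((Mᵀ * M.map φ) *ᵥ (φ ∘ y)) := by
  have h1 : φ ∘ (M *ᵥ y) = M.map φ *ᵥ (φ ∘ y) := by
    funext i
    rw [Function.comp_apply, RingHom.map_mulVec]
  rw [h1, ← Matrix.mulVec_mulVec]
  calc (M *ᵥ x) ⬝ᵥ (M.map φ *ᵥ (φ ∘ y))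
      = (x ᵥ* Mᵀ) ⬝ᵥ (M.map φ *ᵥ (φ ∘ y)) := by rw [Matrix.vecMul_transpose]
    _ = x ⬝ᵥ (Mᵀ *ᵥ (M.map φ *ᵥ (φ ∘ y))) := by rw [← Matrix.dotProduct_mulVec]

/-- the form with Gram matrix `1` -/
theorem formOfGram_one {κ : Type} [Fintype κ] [DecidableEq κ] (σ : F → F) (x y : κ → F) :
    formOfGram σ (1 : Matrix κ κ F) x y = x ⬝ᵥ (σ ∘ y) := by
  unfold formOfGram dotProduct
  apply Finset.sum_congr rfl
  intro i _
  rw [Finset.sum_eq_single i]
  · simp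
  · intro j _ hj
    simp [Matrix.one_apply_ne' hj]
  · intro h
    exact absurd (Finset.mem_univ i) h

variable [Fintype F] {a b n q : ℕ}

/-- the Gram matrix of the standard hermitian form is `1` -/
theorem gramMatrix_hermForm (hF : Fintype.card F = q ^ 2) (k : ℕ) :
    gramMatrix (hermForm k F q) = 1 := by
  ext i j
  unfold gramMatrix
  rw [Cfsg.Agent.Lib.Helper19.hermForm_single_single hF, Matrix.one_apply]

/-- **K-B6e-4.** -/
theorem tensPair_mem_GU (hF : Fintype.card F = q ^ 2) (e : Fin n ≃ Fin a × Fin b) (P : GL (Fin n) F)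
    (hT : IsTensorFormStructure (fun x : F => x ^ q) (hermForm n F q) (hermForm a F q) (hermForm b F q) e P)
    (A : GL (Fin a) F) (B : GL (Fin b) F) (hA : A ∈ GU a F q) (hB : B ∈ GU b F q) :
    tensPair e P (A, B) ∈ GU n F q := by
  classical
  obtain ⟨c, -, hT⟩ := hT
  set φ : F →+* F := Cfsg.Agent.Lib.Helper19.frobQ hF with hφdef
  have hσ : (fun x : F => x ^ q) = ⇑φ := by
    funext x
    exact (Cfsg.Agent.Lib.Helper19.frobQ_apply hF x).symm
  have hT' : ∀ x y : Fin a × Fin b → F,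
      hermForm n F q ((P : Matrix (Fin n) (Fin n) F) *ᵥ (x ∘ e)) ((P : Matrix (Fin n) (Fin n) F) *ᵥ (y ∘ e))
        = c * (x ⬝ᵥ (φ ∘ y)) := by
    intro x y
    rw [hT, gramMatrix_hermForm hF, gramMatrix_hermForm hF, Matrix.one_kronecker_one, formOfGram_one, hσ]
  set M : Matrix (Fin a × Fin b) (Fin a × Fin b) F :=
    (A : Matrix (Fin a) (Fin a) F) ⊗ₖ (B : Matrix (Fin b) (Fin b) F) with hMdef
  have hM : Mᵀ * M.map φ = 1 := by
    have hA' := Cfsg.Agent.Lib.Helper19.GU_transpose_mul_conj hF A hA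
    have hB' := Cfsg.Agent.Lib.Helper19.GU_transpose_mul_conj hF B hB
    rw [RingHom.mapMatrix_apply] at hA' hB'
    have e1 : Mᵀ = (A : Matrix (Fin a) (Fin a) F)ᵀ ⊗ₖ (B : Matrix (Fin b) (Fin b) F)ᵀ :=
      (Matrix.kroneckerMap_transpose _ _ _).symm
    have e2 : M.map φ = (A : Matrix (Fin a) (Fin a) F).map φ ⊗ₖ (B : Matrix (Fin b) (Fin b) F).map φ := by
      ext i j
      simp [hMdef, Matrix.kroneckerMap_apply]
    rw [e1, e2, ← Matrix.mul_kronecker_mul, hA', hB', Matrix.one_kronecker_one]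
  rw [Cfsg.Agent.Lib.Helper19.mem_GU_iff]
  have hrep : ∀ u : Fin n → F, ∃ x : Fin a × Fin b → F, u = (P : Matrix (Fin n) (Fin n) F) *ᵥ (x ∘ e) := by
    intro u
    refine ⟨(((P⁻¹ : GL (Fin n) F) : Matrix (Fin n) (Fin n) F) *ᵥ u) ∘ e.symm, ?_⟩
    have h1 : ((((P⁻¹ : GL (Fin n) F) : Matrix (Fin n) (Fin n) F) *ᵥ u) ∘ e.symm) ∘ e
        = ((P⁻¹ : GL (Fin n) F) : Matrix (Fin n) (Fin n) F) *ᵥ u := by
      funext i
      simp
    rw [h1, Matrix.mulVec_mulVec, ← Units.val_mul, mul_inv_cancel, Units.val_one, Matrix.one_mulVec]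
  have hact : ∀ x : Fin a × Fin b → F,
      ((tensPair e P (A, B) : GL (Fin n) F) : Matrix (Fin n) (Fin n) F) *ᵥ
          ((P : Matrix (Fin n) (Fin n) F) *ᵥ (x ∘ e))
        = (P : Matrix (Fin n) (Fin n) F) *ᵥ ((M *ᵥ x) ∘ e) := by
    intro x
    have hPi : ((P⁻¹ : GL (Fin n) F) : Matrix (Fin n) (Fin n) F) * (P : Matrix (Fin n) (Fin n) F) = 1 := by
      rw [← Units.val_mul, inv_mul_cancel, Units.val_one]
    rw [tensPair_val, Matrix.mulVec_mulVec, Matrix.mul_assoc, hPi, Matrix.mul_one, ← Matrix.mulVec_mulVec,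
      Matrix.submatrix_mulVec_equiv]
    have h2 : (x ∘ ⇑e) ∘ ⇑e.symm = x := by
      funext i
      simp
    rw [h2]
  intro u v
  obtain ⟨x, rfl⟩ := hrep u
  obtain ⟨y, rfl⟩ := hrep v
  rw [hact, hact, hT', hT', dot_map_mulVec, hM, Matrix.one_mulVec]

end Cfsg.Agent.Lib.Helper68.AschU
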