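import Mathlib

/-!
# Polynomial functions into a nilpotent group (towards the Hall–Petrescu formula)

For a group `G` we consider functions `f : ℕ → G` with the pointwise group structure, the
right difference operator `D f n = (f n)⁻¹ * f (n+1)`, and the sets
`P s = {f | ∀ i, (D^[i] f) 0 ∈ γ_{s+i}(G)}` (with `γ_0 = γ_1 = G`).  When `G` is nilpotent
these sets are subgroups with `⁅P s, P t⁆ ⊆ P (s+t)` (`Good 0`).
-/

set_option autoImplicit false

namespace Cfsg.Agent.Lib.Helper68.HP

open scoped commutatorElement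

section gam

variable (G : Type*) [Group G]

/-- `γ m` with the convention `γ 0 = γ 1 = G`. -/
def gam (m : ℕ) : Subgroup G := (⊤ : Subgroup G).lowerCentralSeries (m - 1)

instance gam_normal (m : ℕ) : (gam G m).Normal := by
  unfold gam; infer_instance

theorem gam_anti {m m' : ℕ} (h : m ≤ m') : gam G m' ≤ gam G m :=
  Subgroup.lowerCentralSeries_antitone _ (by omega)

theorem gam_zero : gam G 0 = ⊤ := rfl

theorem gam_one : gam G 1 = ⊤ := rfl

theorem gam_succ (m : ℕ) : gam G (m + 1) = (⊤ : Subgroup G).lowerCentralSeries m := rfl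

variable {G}

/-- three subgroups lemma modulo a normal subgroup -/
theorem three_subgroups_mod' (N : Subgroup G) [N.Normal] {H₁ H₂ H₃ : Subgroup G}
    (h1 : ⁅⁅H₂, H₃⁆, H₁⁆ ≤ N) (h2 : ⁅⁅H₃, H₁⁆, H₂⁆ ≤ N) : ⁅⁅H₁, H₂⁆, H₃⁆ ≤ N := by
  have hker : (⊥ : Subgroup (G ⧸ N)).comap (QuotientGroup.mk' N) = N := by
    have := QuotientGroup.ker_mk' N
    rw [MonoidHom.ker] at this
    exact this
  have key : ∀ X : Subgroup G, X ≤ N ↔ X.map (QuotientGroup.mk' N) = ⊥ := by
    intro X
    rw [← le_bot_iff, Subgroup.map_le_iff_le_comap, hker]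
  rw [key, Subgroup.map_commutator, Subgroup.map_commutator] at h1 h2 ⊢
  exact Subgroup.commutator_commutator_eq_bot_of_rotate h1 h2

variable (G)

theorem lcs_comm (j : ℕ) : ∀ i : ℕ, ⁅(⊤ : Subgroup G).lowerCentralSeries i,
    (⊤ : Subgroup G).lowerCentralSeries j⁆ ≤ (⊤ : Subgroup G).lowerCentralSeries (i + j + 1) := by
  induction j with
  | zero =>
    intro i
    exact le_of_eq rfl
  | succ j ih =>
    intro i
    rw [Subgroup.lowerCentralSeries_succ, Subgroup.commutator_comm]
    apply three_subgroups_mod'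
    · rw [Subgroup.commutator_comm ⊤, ← Subgroup.lowerCentralSeries_succ]
      have := ih (i + 1)
      rwa [show i + 1 + j + 1 = i + (j + 1) + 1 by omega] at this
    · calc ⁅⁅(⊤ : Subgroup G).lowerCentralSeries i, (⊤ : Subgroup G).lowerCentralSeries j⁆, ⊤⁆
          ≤ ⁅(⊤ : Subgroup G).lowerCentralSeries (i + j + 1), ⊤⁆ :=
            Subgroup.commutator_mono (ih i) le_rfl
        _ = (⊤ : Subgroup G).lowerCentralSeries (i + (j + 1) + 1) := rfl

theorem gam_comm (s t : ℕ) : ⁅gam G s, gam G t⁆ ≤ gam G (s + t) := by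
  cases s with
  | zero =>
    rw [Nat.zero_add]
    exact Subgroup.commutator_le_right _ _
  | succ s =>
    cases t with
    | zero =>
      rw [Nat.add_zero]
      exact Subgroup.commutator_le_left _ _
    | succ t =>
      have := lcs_comm G t s
      unfold gam
      rwa [show s + 1 + (t + 1) - 1 = s + t + 1 by omega, Nat.add_sub_cancel, Nat.add_sub_cancel]

variable {G}

theorem gam_comm_mem {s t : ℕ} {a b : G} (ha : a ∈ gam G s) (hb : b ∈ gam G t) :
    ⁅a, b⁆ ∈ gam G (s + t) :=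
  gam_comm G s t (Subgroup.commutator_mem_commutator ha hb)

end gam

section poly

variable {G : Type*} [Group G]

/-- right difference -/
def D (f : ℕ → G) : ℕ → G := fun n => (f n)⁻¹ * f (n + 1)

theorem D_apply (f : ℕ → G) (n : ℕ) : D f n = (f n)⁻¹ * f (n + 1) := rfl

theorem succ_eq (f : ℕ → G) (n : ℕ) : f (n + 1) = f n * D f n := by simp [D]

/-- polynomial functions of weight `s` -/
def P (s : ℕ) : Set (ℕ → G) := {f | ∀ i, (D^[i] f) 0 ∈ gam G (s + i)}

theorem mem_P_iff {s : ℕ} {f : ℕ → G} : f ∈ P s ↔ f 0 ∈ gam G s ∧ D f ∈ P (s + 1) := by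
  constructor
  · intro h
    refine ⟨by simpa using h 0, fun i => ?_⟩
    have := h (i + 1)
    rw [Function.iterate_succ_apply] at this
    rwa [show s + (i + 1) = s + 1 + i by omega] at this
  · rintro ⟨h0, h1⟩ i
    cases i with
    | zero => simpa using h0
    | succ i =>
      rw [Function.iterate_succ_apply, show s + (i + 1) = s + 1 + i by omega]
      exact h1 i

theorem P_mono {s s' : ℕ} (h : s ≤ s') : (P s' : Set (ℕ → G)) ⊆ P s :=
  fun _ hf i => gam_anti G (by omega) (hf i)

theorem D_one : D (1 : ℕ → G) = 1 := by funext n; simp [D]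

theorem one_mem_P (s : ℕ) : (1 : ℕ → G) ∈ P s := by
  intro i
  rw [Function.iterate_fixed D_one i]
  exact Subgroup.one_mem _

theorem apply_mem {s : ℕ} {f : ℕ → G} (hf : f ∈ P s) (n : ℕ) : f n ∈ gam G s := by
  induction n generalizing s f with
  | zero => exact (mem_P_iff.mp hf).1
  | succ n ih =>
    rw [succ_eq f n]
    exact Subgroup.mul_mem _ (ih hf) (gam_anti G (Nat.le_succ s) (ih (mem_P_iff.mp hf).2))

theorem eq_one_of_bot {s : ℕ} (hs : gam G s = ⊥) {f : ℕ → G} (hf : f ∈ P s) : f = 1 := by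
  funext n
  have := apply_mem hf n
  rw [hs] at this
  simpa using this

theorem const_mem_P {s : ℕ} {g : G} (hg : g ∈ gam G s) : (fun _ : ℕ => g) ∈ P s := by
  rw [mem_P_iff]
  refine ⟨hg, ?_⟩
  have : D (fun _ : ℕ => g) = 1 := by funext n; simp [D]
  rw [this]
  exact one_mem_P _

theorem D_inv (f : ℕ → G) : D f⁻¹ = f * (D f)⁻¹ * f⁻¹ := by
  funext n
  simp only [D, Pi.mul_apply, Pi.inv_apply]
  group

theorem D_mul (f g : ℕ → G) : D (f * g) = g⁻¹ * D f * g * D g := by
  funext n
  simp only [D, Pi.mul_apply, Pi.inv_apply]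
  group

theorem D_conj (f u : ℕ → G) :
    D (f * u * f⁻¹) = f * (⁅u⁻¹, D f⁆ * (D f * D u * (D f)⁻¹)) * f⁻¹ := by
  funext n
  simp only [D, Pi.mul_apply, Pi.inv_apply, commutatorElement_def]
  group

theorem D_comm (f g : ℕ → G) :
    D ⁅f, g⁆ = g * (f * (⁅g⁻¹, D f⁆ * ⁅D f, D g⁆) * f⁻¹ * ⁅f, D g⁆) * g⁻¹ := by
  funext n
  simp only [D, Pi.mul_apply, Pi.inv_apply, commutatorElement_def]
  group

variable (G) in
/-- closure properties at all levels `≥ m` -/
structure Good (m : ℕ) : Prop where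
  mul_mem : ∀ s, m ≤ s → ∀ f g : ℕ → G, f ∈ P s → g ∈ P s → f * g ∈ P s
  inv_mem : ∀ s, m ≤ s → ∀ f : ℕ → G, f ∈ P s → f⁻¹ ∈ P s
  comm_mem : ∀ s t, m ≤ s → m ≤ t → ∀ f g : ℕ → G, f ∈ P s → g ∈ P t → ⁅f, g⁆ ∈ P (s + t)

theorem good_base {c : ℕ} (hc : gam G (c + 1) = ⊥) {m : ℕ} (hm : c + 1 ≤ m) : Good G m := by
  have bot_of : ∀ r, c + 1 ≤ r → gam G r = ⊥ := fun r hr => le_bot_iff.mp (hc ▸ gam_anti G hr)
  refine ⟨?_, ?_, ?_⟩
  · intro s hs f g hf hg
    rw [eq_one_of_bot (bot_of s (by omega)) hf, eq_one_of_bot (bot_of s (by omega)) hg, mul_one]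
    exact one_mem_P s
  · intro s hs f hf
    rw [eq_one_of_bot (bot_of s (by omega)) hf, inv_one]
    exact one_mem_P s
  · intro s t hs ht f g hf hg
    rw [eq_one_of_bot (bot_of s (by omega)) hf, commutatorElement_one_left]
    exact one_mem_P _

theorem good_step {c : ℕ} (hc : gam G (c + 1) = ⊥) {m : ℕ} (H : Good G (m + 1)) : Good G m := by
  have bot_of : ∀ r, c + 1 ≤ r → gam G r = ⊥ := fun r hr => le_bot_iff.mp (hc ▸ gam_anti G hr)
  -- conjugation by elements of higher level
  have conjHigh : ∀ t M, m + 1 ≤ t → m + 1 ≤ M → ∀ g X : ℕ → G, g ∈ P t → X ∈ P M →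
      g * X * g⁻¹ ∈ P M := by
    intro t M ht hM g X hg hX
    have e : g * X * g⁻¹ = ⁅g, X⁆ * X := by simp [commutatorElement_def]
    rw [e]
    exact H.mul_mem M hM _ _ (P_mono (by omega) (H.comm_mem t M ht hM g X hg hX)) hX
  -- conjugation by level-`m` elements
  have N : ∀ d r, c + 1 ≤ r + d → m + 1 ≤ r → ∀ f u : ℕ → G, f ∈ P m → u ∈ P r →
      f * u * f⁻¹ ∈ P r := by
    intro d
    induction d with
    | zero =>
      intro r hr _ f u _ hu
      have := eq_one_of_bot (bot_of r (by omega)) hu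
      subst this
      simpa using one_mem_P r
    | succ d ih =>
      intro r hr hmr f u hf hu
      rw [mem_P_iff]
      refine ⟨?_, ?_⟩
      · show f 0 * u 0 * (f 0)⁻¹ ∈ gam G r
        exact (gam_normal G r).conj_mem _ (apply_mem hu 0) (f 0)
      · rw [D_conj]
        obtain ⟨_, hDf⟩ := mem_P_iff.mp hf
        obtain ⟨_, hDu⟩ := mem_P_iff.mp hu
        apply ih (r + 1) (by omega) (by omega) f _ hf
        apply H.mul_mem (r + 1) (by omega)
        · exact P_mono (by omega)
            (H.comm_mem r (m + 1) hmr le_rfl _ _ (H.inv_mem r hmr u hu) hDf)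
        · exact conjHigh (m + 1) (r + 1) le_rfl (by omega) _ _ hDf hDu
  have inv_m : ∀ f : ℕ → G, f ∈ P m → f⁻¹ ∈ P m := by
    intro f hf
    obtain ⟨h0, hDf⟩ := mem_P_iff.mp hf
    rw [mem_P_iff]
    refine ⟨(gam G m).inv_mem h0, ?_⟩
    rw [D_inv]
    exact N (c + 1) (m + 1) (by omega) le_rfl f _ hf (H.inv_mem (m + 1) le_rfl _ hDf)
  have mul_m : ∀ f g : ℕ → G, f ∈ P m → g ∈ P m → f * g ∈ P m := by
    intro f g hf hg
    obtain ⟨hf0, hDf⟩ := mem_P_iff.mp hf
    obtain ⟨hg0, hDg⟩ := mem_P_iff.mp hg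
    rw [mem_P_iff]
    refine ⟨(gam G m).mul_mem hf0 hg0, ?_⟩
    rw [D_mul]
    apply H.mul_mem (m + 1) le_rfl _ _ _ hDg
    have := N (c + 1) (m + 1) (by omega) le_rfl g⁻¹ (D f) (inv_m g hg) hDf
    simpa using this
  have mulAll : ∀ s, m ≤ s → ∀ f g : ℕ → G, f ∈ P s → g ∈ P s → f * g ∈ P s := by
    intro s hs f g hf hg
    rcases Nat.eq_or_lt_of_le hs with rfl | hlt
    · exact mul_m f g hf hg
    · exact H.mul_mem s hlt f g hf hg
  have invAll : ∀ s, m ≤ s → ∀ f : ℕ → G, f ∈ P s → f⁻¹ ∈ P s := by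
    intro s hs f hf
    rcases Nat.eq_or_lt_of_le hs with rfl | hlt
    · exact inv_m f hf
    · exact H.inv_mem s hlt f hf
  have conjAll : ∀ t M, m ≤ t → m + 1 ≤ M → ∀ g X : ℕ → G, g ∈ P t → X ∈ P M →
      g * X * g⁻¹ ∈ P M := by
    intro t M ht hM g X hg hX
    rcases Nat.eq_or_lt_of_le ht with rfl | hlt
    · exact N (c + 1) M (by omega) hM g X hg hX
    · exact conjHigh t M hlt hM g X hg hX
  have K : ∀ d t, c + 1 ≤ t + d → m ≤ t → ∀ f g : ℕ → G, f ∈ P m → g ∈ P t →
      ⁅f, g⁆ ∈ P (m + t) ∧ ⁅g, f⁆ ∈ P (m + t) := by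
    intro d
    induction d with
    | zero =>
      intro t ht _ f g _ hg
      have := eq_one_of_bot (bot_of t (by omega)) hg
      subst this
      simp [one_mem_P]
    | succ d ih =>
      intro t ht hmt f g hf hg
      have key : ⁅f, g⁆ ∈ P (m + t) := by
        obtain ⟨hf0, hDf⟩ := mem_P_iff.mp hf
        obtain ⟨hg0, hDg⟩ := mem_P_iff.mp hg
        rw [mem_P_iff]
        refine ⟨?_, ?_⟩
        · show ⁅f 0, g 0⁆ ∈ gam G (m + t)
          exact gam_comm_mem hf0 hg0
        rw [D_comm]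
        have hM : m + 1 ≤ m + t + 1 := by omega
        apply conjAll t (m + t + 1) hmt hM g _ hg
        apply H.mul_mem (m + t + 1) hM
        · apply conjAll m (m + t + 1) le_rfl hM f _ hf
          apply H.mul_mem (m + t + 1) hM
          · have hginv := invAll t hmt g hg
            rcases Nat.eq_or_lt_of_le hmt with heq | hlt
            · subst heq
              have := (ih (m + 1) (by omega) (by omega) g⁻¹ (D f) hginv hDf).1
              exact P_mono (by omega) this
            · exact P_mono (by omega) (H.comm_mem t (m + 1) hlt le_rfl _ _ hginv hDf)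
          · exact P_mono (by omega)
              (H.comm_mem (m + 1) (t + 1) le_rfl (by omega) _ _ hDf hDg)
        · exact P_mono (by omega) (ih (t + 1) (by omega) (by omega) f (D g) hf hDg).1
      refine ⟨key, ?_⟩
      rw [← commutatorElement_inv f g]
      exact invAll (m + t) (by omega) _ key
  refine ⟨mulAll, invAll, ?_⟩
  intro s t hs ht f g hf hg
  rcases Nat.eq_or_lt_of_le hs with heq | hs'
  · subst heq
    exact (K (c + 1) t (by omega) ht f g hf hg).1
  · rcases Nat.eq_or_lt_of_le ht with heq | ht'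
    · subst heq
      have := (K (c + 1) s (by omega) hs g f hg hf).2
      rwa [Nat.add_comm] at this
    · exact H.comm_mem s t hs' ht' f g hf hg

theorem good_all {c : ℕ} (hc : gam G (c + 1) = ⊥) : ∀ d m, c + 1 ≤ m + d → Good G m := by
  intro d
  induction d with
  | zero => intro m hm; exact good_base hc (by omega)
  | succ d ih => intro m hm; exact good_step hc (ih (m + 1) (by omega))

/-- In a nilpotent group the polynomial functions form subgroups with the commutator property. -/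
theorem good_zero {c : ℕ} (hc : (⊤ : Subgroup G).lowerCentralSeries c = ⊥) : Good G 0 :=
  good_all (c := c) hc (c + 1) 0 (by omega)

end poly

end Cfsg.Agent.Lib.Helper68.HP
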