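import Cfsg.Agent.Lib.Helper06.Hall4.Defs

/-!
# K-H4-P2 (keystone 422105, S4221, architect helper6; parallel hand): two involutions of `G` agreeing on four
points are conjugate by an element of the (odd order) stabilizer of the four points
-/

set_option autoImplicit false
open Equiv

namespace Cfsg.Agent.Lib.Helper68.Hall4
open Cfsg.Agent.Lib.Helper06.Hall4

variable {α : Type*} [Fintype α] [DecidableEq α]

/-- abstract form: `w = t' * t` of odd order `k`, `u = w ^ ((k+1)/2)` -/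
theorem conj_by_half_power {Γ : Type*} [Group Γ] {t t' : Γ} (t2 : t * t = 1) (t2' : t' * t' = 1)
    {k : ℕ} (hk : Odd k) (hw : (t' * t) ^ k = 1) :
    (t' * t) ^ ((k + 1) / 2) * t * ((t' * t) ^ ((k + 1) / 2))⁻¹ = t' := by
  obtain ⟨j, hj⟩ := hk
  have hm : (k + 1) / 2 = j + 1 := by omega
  rw [hm]
  have htinv : t⁻¹ = t := inv_eq_of_mul_eq_one_right t2
  have htinv' : t'⁻¹ = t' := inv_eq_of_mul_eq_one_right t2'
  -- `t` inverts `w`
  have hinv : t * (t' * t) * t⁻¹ = (t' * t)⁻¹ := by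
    rw [mul_inv_rev, htinv, htinv']
    calc t * (t' * t) * t = t * t' * (t * t) := by group
      _ = t * t' := by rw [t2, mul_one]
  have hinvp : t * (t' * t) ^ (j + 1) * t⁻¹ = ((t' * t) ^ (j + 1))⁻¹ := by
    rw [← conj_pow, hinv, inv_pow]
  have hinvp' : ((t' * t) ^ (j + 1))⁻¹ = t * (t' * t) ^ (j + 1) * t := by
    rw [← hinvp, htinv]
  -- `u * u = w`
  have huu : (t' * t) ^ (j + 1) * (t' * t) ^ (j + 1) = t' * t := by
    rw [← pow_add]
    have : j + 1 + (j + 1) = k + 1 := by omega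
    rw [this, pow_succ, hw, one_mul]
  rw [hinvp']
  calc (t' * t) ^ (j + 1) * t * (t * (t' * t) ^ (j + 1) * t)
      = (t' * t) ^ (j + 1) * (t * t) * (t' * t) ^ (j + 1) * t := by group
    _ = ((t' * t) ^ (j + 1) * (t' * t) ^ (j + 1)) * t := by rw [t2, mul_one]
    _ = t' * t * t := by rw [huu]
    _ = t' := by rw [mul_assoc, t2, mul_one]

/-- **LEAF P2 (422105).** -/
theorem conj_of_agree (G : Subgroup (Perm α)) (hodd : Odd4 G)
    {a b c d : α} (hab : a ≠ b) (hac : a ≠ c) (had : a ≠ d) (hbc : b ≠ c) (hbd : b ≠ d)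
    (hcd : c ≠ d) {t t' : Perm α} (ht : t ∈ G) (ht' : t' ∈ G) (t2 : t * t = 1) (t2' : t' * t' = 1)
    (ha : t' a = t a) (hb : t' b = t b) (hc : t' c = t c) (hd : t' d = t d) :
    ∃ u ∈ FS G {a, b, c, d}, u * t * u⁻¹ = t' ∧
      ∀ v : Perm α, v * t = t * v → v * t' = t' * v → v * u = u * v := by
  have hfix : ∀ z : α, t' z = t z → (t' * t) z = z := by
    intro z hz
    rw [Perm.mul_apply, ← hz]
    have h := congrArg (fun f : Perm α => f z) t2'
    simpa using h
  have hwH : t' * t ∈ FS G {a, b, c, d} := by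
    refine mem_FS.2 ⟨G.mul_mem ht' ht, ?_⟩
    intro s hs
    simp only [Set.mem_insert_iff, Set.mem_singleton_iff] at hs
    rcases hs with rfl | rfl | rfl | rfl
    · exact hfix _ ha
    · exact hfix _ hb
    · exact hfix _ hc
    · exact hfix _ hd
  have hcard := hodd a b c d hab hac had hbc hbd hcd
  have hk : Odd (orderOf (t' * t)) :=
    Odd.of_dvd_nat hcard ((FS G {a, b, c, d}).orderOf_dvd_natCard hwH)
  refine ⟨(t' * t) ^ ((orderOf (t' * t) + 1) / 2), Subgroup.pow_mem _ hwH _, ?_, ?_⟩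
  · exact conj_by_half_power t2 t2' hk (pow_orderOf_eq_one _)
  · intro v hv hv'
    have hc1 : Commute v (t' * t) := by
      show v * (t' * t) = (t' * t) * v
      rw [← mul_assoc, hv', mul_assoc, hv, mul_assoc]
    exact (hc1.pow_right _)

end Cfsg.Agent.Lib.Helper68.Hall4
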