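import Cfsg.Agent.Lib.Helper98.Oh0
import Cfsg.Agent.Lib.Helper98.Sy6
import Cfsg.Agent.Lib.Helper50.TypeCriteria
import Cfsg.Agent.Lib.Helper50.ElusiveCount

/-!
# K-Oh-C2 (helper68): the type of a minimal nondegenerate invariant piece (symmetric forms)
-/

set_option autoImplicit false
set_option linter.unusedSectionVars false
set_option linter.unusedVariables false

namespace Cfsg.Agent.Lib.Helper68.Oh

open Module Cfsg.Agent.Lib.Helper98.Elus Cfsg.Agent.Lib.Helper98.Sy Cfsg.Agent.Lib.Helper98.Oh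
open Cfsg.Agent.Lib.Helper98

universe u
variable {F : Type u} [Field F] {V : Type u} [AddCommGroup V] [Module F V]

/-- `i` odd: a minimal piece of dimension `2 i` is of plus type -/
theorem plus_of_odd [Fintype F] [FiniteDimensional F V]
    (B : LinearMap.BilinForm F V) (hS : ∀ a b, B a b = B b a)
    (p f : ℕ) [Fact p.Prime] (hF : Fintype.card F = p ^ f)
    (r : ℕ) [Fact r.Prime] (hpr : p ≠ r) (hrF : (r : F) ≠ 0) (y : V →ₗ[F] V)
    (hy : y ^ r = 1) (hiso : Iso B y)
    (hodd : ∀ M : Submodule F V, M ≤ V1 r y → Inv y M → NonDeg B M → Even (finrank F M))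
    (W : Submodule F V) (hWV1 : W ≤ V1 r y) (hW : Inv y W)
    (hWd : finrank F W = cOf (orderOf ((Fintype.card F : ℕ) : ZMod r)))
    (hi : Odd (orderOf ((Fintype.card F : ℕ) : ZMod r))) : Plus B W := by
  set i := orderOf ((Fintype.card F : ℕ) : ZMod r) with hi_def
  have hi1 : 1 ≤ i := orderOf_card_pos p f hF r hpr
  obtain ⟨fs, hmonic, hdeg, hprod⟩ := cyclo_factors (F := F) p f hF r hpr
  have hWd' : finrank F W = 2 * i := by
    rw [hWd, cOf, if_neg (Nat.not_even_iff_odd.mpr hi)]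
  obtain ⟨M, hMW, hM, hMd⟩ := greedy y W hW i hi1 fs hmonic (fun g hg => le_of_eq (hdeg g hg))
    (by
      intro v hv
      rw [hprod, aeval_cyclotomic_eq_gsum]
      exact (mem_V1 r y v).mp (hWV1 hv))
    (fun W' hW'W hW' => dvd_finrank_of_le_V1 r hrF y hy W' hW' (le_trans hW'W hWV1)) 1
    (by rw [hWd']; omega)
  rw [mul_one] at hMd
  have hr0 : 0 < r := (Fact.out : r.Prime).pos
  have hRinv : Inv y (M ⊓ B.orthogonal M) := fun v hv =>
    Submodule.mem_inf.mpr ⟨hM v (Submodule.mem_inf.mp hv).1,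
      inv_orth r hr0 y hy hiso M hM v (Submodule.mem_inf.mp hv).2⟩
  have hRd : i ∣ finrank F ↥(M ⊓ B.orthogonal M) :=
    dvd_finrank_of_le_V1 r hrF y hy _ hRinv (le_trans inf_le_left (le_trans hMW hWV1))
  have hRle : finrank F ↥(M ⊓ B.orthogonal M) ≤ i := by
    rw [← hMd]
    exact Submodule.finrank_mono inf_le_left
  obtain ⟨c, hc⟩ := hRd
  have hc01 : c = 0 ∨ c = 1 := by
    have : i * c ≤ i * 1 := by rw [mul_one, ← hc]; exact hRle
    have := Nat.le_of_mul_le_mul_left this (by omega)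
    omega
  rcases hc01 with rfl | rfl
  · exfalso
    have hRbot : M ⊓ B.orthogonal M = ⊥ := Submodule.finrank_eq_zero.mp (by rw [hc, mul_zero])
    have hMnd : NonDeg B M :=
      (Os.nonDeg_iff_disjoint (Os.isRefl_of_symm hS) M).mpr (disjoint_iff.mpr hRbot)
    have hev := hodd M (le_trans hMW hWV1) hM hMnd
    rw [hMd] at hev
    exact (Nat.not_even_iff_odd.mpr hi) hev
  · have hRM : M ⊓ B.orthogonal M = M :=
      Submodule.eq_of_le_of_finrank_eq inf_le_left (by rw [hc, mul_one, hMd])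
    refine ⟨M, hMW, ?_, by rw [hMd, hWd']⟩
    intro u hu
    have hu' : u ∈ B.orthogonal M := by
      rw [← hRM] at hu
      exact (Submodule.mem_inf.mp hu).2
    exact (LinearMap.BilinForm.mem_orthogonal_iff.mp hu') u hu

/-- powers of an element of `Function.End` are iterates -/
theorem end_pow_apply {α : Type*} (g : Function.End α) (n : ℕ) (a : α) : (g ^ n) a = g^[n] a := by
  induction n generalizing a with
  | zero => rfl
  | succ n ih =>
    have h1 : (g ^ (n + 1)) a = (g ^ n) (g a) := by rw [pow_succ]; rfl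
    rw [h1, ih]
    rfl

/-- `r ∣ q ^ j - 1` forces `ord_r(q) ∣ j` -/
theorem orderOf_dvd_of_dvd_pow_sub_one (q r j : ℕ) (hq : 0 < q) (h : r ∣ q ^ j - 1) :
    orderOf ((q : ℕ) : ZMod r) ∣ j := by
  apply orderOf_dvd_of_pow_eq_one
  have h1 : ((q ^ j - 1 : ℕ) : ZMod r) = 0 := (ZMod.natCast_eq_zero_iff _ _).mpr h
  rw [Nat.cast_sub (Nat.one_le_pow _ _ hq), Nat.cast_pow, Nat.cast_one, sub_eq_zero] at h1
  exact h1

/-- `r ∣ q ^ j + 1` forces `ord_r(q) ∣ 2 j` -/
theorem orderOf_dvd_of_dvd_pow_add_one (q r j : ℕ) (h : r ∣ q ^ j + 1) :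
    orderOf ((q : ℕ) : ZMod r) ∣ 2 * j := by
  apply orderOf_dvd_of_pow_eq_one
  have h1 : ((q ^ j + 1 : ℕ) : ZMod r) = 0 := (ZMod.natCast_eq_zero_iff _ _).mpr h
  rw [Nat.cast_add, Nat.cast_pow, Nat.cast_one] at h1
  have h2 : ((q : ℕ) : ZMod r) ^ j = -1 := eq_neg_of_add_eq_zero_left h1
  rw [mul_comm, pow_mul, h2]
  norm_num

/-- `i` even: a minimal piece of dimension `i` is not of plus type -/
theorem not_plus_of_even [Fintype F] (h2 : (2 : F) ≠ 0) [FiniteDimensional F V]
    (B : LinearMap.BilinForm F V) (hS : ∀ a b, B a b = B b a)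
    (p f : ℕ) [Fact p.Prime] (hF : Fintype.card F = p ^ f)
    (r : ℕ) [Fact r.Prime] (hpr : p ≠ r) (hr2 : r ≠ 2) (hrF : (r : F) ≠ 0) (y : V →ₗ[F] V)
    (hy : y ^ r = 1) (hiso : Iso B y)
    (W : Submodule F V) (hWV1 : W ≤ V1 r y) (hW : Inv y W) (hWnd : NonDeg B W)
    (hWd : finrank F W = cOf (orderOf ((Fintype.card F : ℕ) : ZMod r)))
    (hi : Even (orderOf ((Fintype.card F : ℕ) : ZMod r))) : ¬ Plus B W := by
  classical
  rintro ⟨U, hUW, hU0, hUd⟩
  set i := orderOf ((Fintype.card F : ℕ) : ZMod r) with hi_def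
  have hi1 : 1 ≤ i := orderOf_card_pos p f hF r hpr
  have hr : r.Prime := Fact.out
  have hWd' : finrank F W = i := by rw [hWd, cOf, if_pos hi]
  obtain ⟨k, hk⟩ := hi
  have hk2 : i = 2 * k := by omega
  have hk1 : 1 ≤ k := by omega
  -- the quadratic form `w ↦ B w w` on `W`
  let Q : QuadraticForm F W := LinearMap.BilinMap.toQuadraticMap (B.restrict W)
  have hQ : ∀ w : W, Q w = B (w : V) (w : V) := fun w => by
    show LinearMap.BilinMap.toQuadraticMap (B.restrict W) w = _
    rw [LinearMap.BilinMap.toQuadraticMap_apply, LinearMap.BilinForm.restrict_apply,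
      LinearMap.domRestrict_apply]
  have hQND : Cfsg.Agent.Lib.Helper50.QND Q := by
    intro v hv
    apply Subtype.ext
    apply hWnd (v : V) v.2
    intro w hw
    have h1 := hv ⟨w, hw⟩
    have h3 : QuadraticMap.polar Q v ⟨w, hw⟩ = B (v : V) w + B w (v : V) := by
      show QuadraticMap.polar (LinearMap.BilinMap.toQuadraticMap (B.restrict W)) v ⟨w, hw⟩ = _
      rw [LinearMap.BilinMap.polar_toQuadraticMap, LinearMap.BilinForm.restrict_apply,
        LinearMap.BilinForm.restrict_apply, LinearMap.domRestrict_apply,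
        LinearMap.domRestrict_apply]
    rw [h3, hS w (v : V), ← two_mul] at h1
    exact (mul_eq_zero.mp h1).resolve_left h2
  -- the totally singular subspace
  let X : Submodule F W := U.comap W.subtype
  have hXd : finrank F X = finrank F U :=
    LinearEquiv.finrank_eq (Submodule.comapSubtypeEquivOfLe hUW)
  have hplus : Cfsg.Agent.Lib.Helper50.IsPlusType Q k :=
    Cfsg.Agent.Lib.Helper50.plusType_of_totally_singular k Q hQND (by rw [hWd', hk2]) X
      (by rw [hXd]; omega) (fun x hx => by rw [hQ]; exact hU0 (x : V) hx)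
  obtain ⟨φ, hφ⟩ := hplus
  -- the number of singular vectors
  set q := Fintype.card F with hq_def
  have hq0 : 0 < q := Fintype.card_pos
  have hcount : Nat.card {w : W // B (w : V) (w : V) = 0} =
      q ^ k + (q ^ k - 1) * q ^ (k - 1) := by
    rw [← Cfsg.Agent.Lib.Helper50.card_zeros_plus (F := F) k]
    apply Nat.card_congr
    exact φ.toEquiv.subtypeEquiv (fun w => by
      show B (w : V) (w : V) = 0 ↔ Cfsg.quadFormPlus k F (φ w) = 0
      rw [hφ w, hQ])
  -- the action of `y`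
  have : Finite V := Module.finite_of_finite F
  have : Fintype {w : W // B (w : V) (w : V) = 0} := Fintype.ofFinite _
  let g : Function.End {w : W // B (w : V) (w : V) = 0} := fun w =>
    ⟨⟨y (w.1 : V), hW _ w.1.2⟩, by
      show B (y (w.1 : V)) (y (w.1 : V)) = 0
      rw [hiso]
      exact w.2⟩
  have hiter : ∀ (n : ℕ) (w : {w : W // B (w : V) (w : V) = 0}),
      (((g^[n] w).1 : W) : V) = (y ^ n) (w.1 : V) := by
    intro n
    induction n with
    | zero => intro w; rfl
    | succ n ih =>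
      intro w
      rw [Function.iterate_succ_apply', pow_succ', Module.End.mul_apply, ← ih w]
  have hg : g ^ r ^ 1 = 1 := by
    rw [pow_one]
    funext w
    apply Subtype.ext
    apply Subtype.ext
    rw [end_pow_apply, hiter, hy]
    rfl
  have hmod := Equiv.Perm.card_fixedPoints_modEq (p := r) (n := 1) hg
  have hfix : Fintype.card (Function.fixedPoints g) = 1 := by
    rw [Fintype.card_eq_one_iff]
    have h0 : B ((0 : W) : V) ((0 : W) : V) = 0 := by simp
    refine ⟨⟨⟨0, h0⟩, ?_⟩, ?_⟩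
    · show g ⟨0, h0⟩ = ⟨0, h0⟩
      apply Subtype.ext
      apply Subtype.ext
      show y ((0 : W) : V) = ((0 : W) : V)
      simp
    · rintro ⟨w, hw⟩
      apply Subtype.ext
      apply Subtype.ext
      apply Subtype.ext
      show ((w.1 : W) : V) = 0
      have hyw : y ((w.1 : W) : V) = ((w.1 : W) : V) := by
        have := congrArg (fun z : {w : W // B (w : V) (w : V) = 0} => ((z.1 : W) : V)) hw
        exact this
      have hmem : ((w.1 : W) : V) ∈ V0 y ⊓ V1 r y :=
        Submodule.mem_inf.mpr ⟨(mem_V0 y _).mpr hyw, hWV1 w.1.2⟩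
      rw [V0_inf_V1 r hrF y] at hmem
      exact (Submodule.mem_bot F).mp hmem
  rw [hfix, ← Nat.card_eq_fintype_card, hcount] at hmod
  -- arithmetic
  obtain ⟨A, hA⟩ : ∃ A, q ^ k = A + 1 := ⟨q ^ k - 1, by
    have := Nat.one_le_pow k q hq0
    omega⟩
  have hdvd : r ∣ A * (q ^ (k - 1) + 1) := by
    have h1 : 1 ≤ q ^ k + (q ^ k - 1) * q ^ (k - 1) := by
      have := Nat.one_le_pow k q hq0
      omega
    have h3 := (Nat.modEq_iff_dvd' h1).mp hmod.symm
    have h4 : q ^ k + (q ^ k - 1) * q ^ (k - 1) - 1 = A * (q ^ (k - 1) + 1) := by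
      rw [hA, Nat.add_sub_cancel]
      have : A + 1 + A * q ^ (k - 1) - 1 = A + A * q ^ (k - 1) := by omega
      rw [this]
      ring
    rw [h4] at h3
    exact h3
  rcases (Nat.Prime.dvd_mul hr).mp hdvd with hd | hd
  · have hA' : A = q ^ k - 1 := by omega
    rw [hA'] at hd
    have h5 := orderOf_dvd_of_dvd_pow_sub_one q r k hq0 hd
    have h6 := Nat.le_of_dvd (by omega) h5
    omega
  · have h5 := orderOf_dvd_of_dvd_pow_add_one q r (k - 1) hd
    by_cases hk1' : k = 1
    · rw [hk1'] at hd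
      simp only [Nat.sub_self, pow_zero] at hd
      have := Nat.le_of_dvd (by norm_num) hd
      have := hr.two_le
      omega
    · have h6 := Nat.le_of_dvd (by omega) h5
      omega

/-- **K-Oh-C2** -/
theorem plus_iff_of_min [Fintype F] (h2 : (2 : F) ≠ 0) [FiniteDimensional F V]
    (B : LinearMap.BilinForm F V) (hS : ∀ a b, B a b = B b a) (hV : NonDeg B ⊤)
    (p f : ℕ) [Fact p.Prime] (hF : Fintype.card F = p ^ f)
    (r : ℕ) [Fact r.Prime] (hpr : p ≠ r) (hr2 : r ≠ 2) (hrF : (r : F) ≠ 0) (y : V →ₗ[F] V)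
    (hy : y ^ r = 1) (hiso : Iso B y)
    (hodd : ∀ M : Submodule F V, M ≤ V1 r y → Inv y M → NonDeg B M → Even (finrank F M))
    (W : Submodule F V) (hWV1 : W ≤ V1 r y) (hW : Inv y W) (hWnd : NonDeg B W)
    (hWd : finrank F W = cOf (orderOf ((Fintype.card F : ℕ) : ZMod r))) :
    Plus B W ↔ Odd (orderOf ((Fintype.card F : ℕ) : ZMod r)) := by
  constructor
  · intro hP
    by_contra hne
    exact not_plus_of_even h2 B hS p f hF r hpr hr2 hrF y hy hiso W hWV1 hW hWnd hWd
      (Nat.not_odd_iff_even.mp hne) hP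
  · intro hi
    exact plus_of_odd B hS p f hF r hpr hrF y hy hiso hodd W hWV1 hW hWd hi

end Cfsg.Agent.Lib.Helper68.Oh
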