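import Mathlib
import Cfsg.Prelude.Def_Transfer

/-!
# K-BQ pack (S3911), leaf L6 `comap_facts` (keystone 391106)
-/

set_option autoImplicit false
open Cfsg

namespace Cfsg.Agent.Lib.Helper68.BQ

/-- LEAF L6. Bookkeeping for the preimage `H = A.comap (mk' M)`. -/
theorem comap_facts {G : Type*} [Group G] [Finite G] (M : Subgroup G) [M.Normal]
    (A : Subgroup (G ⧸ M)) (hA : IsMulCommutative ↥A) :
    M ≤ A.comap (QuotientGroup.mk' M) ∧
      M.relIndex (A.comap (QuotientGroup.mk' M)) = Nat.card ↥A ∧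
      (∀ x ∈ A.comap (QuotientGroup.mk' M), ∀ y ∈ A.comap (QuotientGroup.mk' M),
        x * y * x⁻¹ * y⁻¹ ∈ M) ∧
      ∀ A0 : Subgroup G, A0 ⊔ M = A.comap (QuotientGroup.mk' M) →
        A0.map (QuotientGroup.mk' M) = A := by
  have hsurj : Function.Surjective (QuotientGroup.mk' M) := QuotientGroup.mk'_surjective M
  have hmc : (A.comap (QuotientGroup.mk' M)).map (QuotientGroup.mk' M) = A :=
    Subgroup.map_comap_eq_self_of_surjective hsurj A
  refine ⟨?_, ?_, ?_, ?_⟩
  · intro x hx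
    rw [Subgroup.mem_comap]
    have h1 : (QuotientGroup.mk' M) x = 1 := (QuotientGroup.eq_one_iff x).mpr hx
    rw [h1]
    exact A.one_mem
  · have hM : M = (⊥ : Subgroup (G ⧸ M)).comap (QuotientGroup.mk' M) := by
      rw [MonoidHom.comap_bot, QuotientGroup.ker_mk']
    have key : ((⊥ : Subgroup (G ⧸ M)).comap (QuotientGroup.mk' M)).relIndex
        (A.comap (QuotientGroup.mk' M)) = Nat.card ↥A := by
      rw [Subgroup.relIndex_comap, hmc, Subgroup.relIndex_bot_left]
    rwa [← hM] at key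
  · intro x hx y hy
    rw [Subgroup.mem_comap] at hx hy
    have hc := hA.is_comm.comm (⟨_, hx⟩ : ↥A) ⟨_, hy⟩
    have hc' : (QuotientGroup.mk' M) x * (QuotientGroup.mk' M) y =
        (QuotientGroup.mk' M) y * (QuotientGroup.mk' M) x := congrArg Subtype.val hc
    rw [← QuotientGroup.eq_one_iff]
    have : ((x * y * x⁻¹ * y⁻¹ : G) : G ⧸ M) =
        (QuotientGroup.mk' M) x * (QuotientGroup.mk' M) y * ((QuotientGroup.mk' M) x)⁻¹ *
          ((QuotientGroup.mk' M) y)⁻¹ := by
      simp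
    rw [this, hc']
    group
  · intro A0 h
    rw [← hmc, ← h, Subgroup.map_sup, QuotientGroup.map_mk'_self, sup_bot_eq]

end Cfsg.Agent.Lib.Helper68.BQ
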