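import Cfsg.Agent.Lib.Helper99.OTsDefs
import Cfsg.Agent.Lib.Helper50.TypeCriteria
import Cfsg.Agent.Lib.Helper50.WittMain
import Cfsg.Agent.Lib.Helper50.GeoBridge
import Cfsg.Agent.Lib.Helper50.MinusLang
import Cfsg.Agent.Lib.Helper49.MinusUnique
import Cfsg.Agent.Lib.Helper08.POmegaIso
import Cfsg.Agent.Lib.Helper19.QuadMat
import Cfsg.Agent.Lib.Helper43.Dickson

/-!
# K-OTs-O12 (keystone 597312, rows S5973 + S5987, architect helper99): transport of an abstract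
quadratic space of minus type (ALL characteristics) with an isometry of odd order to `Ω⁻`.
Copy of `Cfsg.Agent.Lib.Helper32.Om.transport_minus`, for a quadratic form.
-/

set_option autoImplicit false
set_option linter.unusedSimpArgs false
set_option linter.unusedSectionVars false
set_option linter.unusedVariables false
set_option linter.style.haveILetI false

namespace Cfsg.Agent.Lib.Helper68.OTs

open Module Cfsg.Agent.Lib.Helper98.Elus Cfsg.Agent.Lib.Helper98.Sy Cfsg.Agent.Lib.Helper99.OTs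
open scoped Matrix MatrixGroups

universe u
variable {F : Type u} [Field F] {V : Type u} [AddCommGroup V] [Module F V]

/-- squares of isometries of the standard minus form lie in `Ω`, all characteristics -/
theorem sq_mem_Omega_minus [Fintype F] (m : ℕ) (hm : 2 ≤ m) (a b : F)
    (hab : ∀ x y : F, x ^ 2 + a * x * y + b * y ^ 2 = 0 → x = 0 ∧ y = 0)
    (g : ↥(Cfsg.isometryGroup F (⇑(Cfsg.Agent.Lib.Helper50.QMinus m F a b)))) :
    g * g ∈ Cfsg.Omega F (⇑(Cfsg.Agent.Lib.Helper50.QMinus m F a b)) := by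
  have hQnd := Cfsg.Agent.Lib.Helper50.QMinus_nondeg_of_anis m a b hab
  by_cases h2 : (2 : F) = 0
  · haveI : CharP F 2 := CharTwo.of_one_ne_zero_of_two_eq_zero one_ne_zero h2
    have hcard : Fintype.card ((Fin m ⊕ Fin m) ⊕ Fin 2) ≠ 4 := by
      rw [Cfsg.Agent.Lib.Helper50.card_minus_index]
      omega
    have hidx := Cfsg.Agent.Lib.Helper43.index_Omega_char_two
      (Cfsg.Agent.Lib.Helper50.QMinus m F a b) hQnd (Or.inr hcard)
    exact Subgroup.mul_self_mem_of_index_two hidx g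
  · exact Cfsg.Agent.Lib.Helper08.sq_mem_Omega h2 (Cfsg.Agent.Lib.Helper50.QMinus m F a b) hQnd g

/-- **O12 (597312).** -/
theorem transport_minus_q [Fintype F] (r : ℕ) (hr : Odd r) (d : ℕ) (hd3 : 3 ≤ d)
    (a b : F) (hab : ∀ x y : F, x ^ 2 + a * x * y + b * y ^ 2 = 0 → x = 0 ∧ y = 0)
    [FiniteDimensional F V] (Q : QuadraticForm F V) (hnd : NonDeg (QuadraticMap.polarBilin Q) ⊤)
    (hV : finrank F V = 2 * d) (hminus : ¬ PlusOn Q ⊤) (y : V →ₗ[F] V) (hiso : QIso Q y) (hy : y ^ r = 1)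
    (hns : ∀ z : F, y ≠ z • 1) :
    ∃ x : GL ((Fin (d - 1) ⊕ Fin (d - 1)) ⊕ Fin 2) F,
      x ∈ Cfsg.Geo.omegaGL (Cfsg.quadFormMinus (d - 1) F a b) ∧
      ((x ^ r : GL ((Fin (d - 1) ⊕ Fin (d - 1)) ⊕ Fin 2) F) :
        Matrix ((Fin (d - 1) ⊕ Fin (d - 1)) ⊕ Fin 2) ((Fin (d - 1) ⊕ Fin (d - 1)) ⊕ Fin 2) F) =
        (1 : F) • (1 : Matrix ((Fin (d - 1) ⊕ Fin (d - 1)) ⊕ Fin 2)
          ((Fin (d - 1) ⊕ Fin (d - 1)) ⊕ Fin 2) F) ∧
      (∀ z : F, (x : Matrix ((Fin (d - 1) ⊕ Fin (d - 1)) ⊕ Fin 2)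
          ((Fin (d - 1) ⊕ Fin (d - 1)) ⊕ Fin 2) F) ≠
        z • (1 : Matrix ((Fin (d - 1) ⊕ Fin (d - 1)) ⊕ Fin 2)
          ((Fin (d - 1) ⊕ Fin (d - 1)) ⊕ Fin 2) F)) ∧
      ∃ E : ((Fin (d - 1) ⊕ Fin (d - 1)) ⊕ Fin 2 → F) ≃ₗ[F] V,
        (∀ w, E (Matrix.toLin' (x : Matrix ((Fin (d - 1) ⊕ Fin (d - 1)) ⊕ Fin 2)
          ((Fin (d - 1) ⊕ Fin (d - 1)) ⊕ Fin 2) F) w) = y (E w)) ∧
        ∀ w, Q (E w) = Cfsg.quadFormMinus (d - 1) F a b w := by
  classical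
  have hQND : Cfsg.Agent.Lib.Helper50.QND Q := by
    intro v hv
    apply hnd v Submodule.mem_top
    intro w _
    exact hv w
  -- the type of `Q`
  obtain ⟨φ, hφ⟩ : ∃ φ : V ≃ₗ[F] ((Fin (d - 1) ⊕ Fin (d - 1)) ⊕ Fin 2 → F),
      ∀ v, Cfsg.quadFormMinus (d - 1) F a b (φ v) = Q v := by
    rcases Cfsg.Agent.Lib.Helper50.witt_type (2 * d) Q hV hQND with
      ⟨m, hm, hplus⟩ | ⟨m, ζ, hm, hζ, hmin⟩ | ⟨m, c, hm, -, -⟩
    · exfalso
      have hmd : m = d := by omega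
      subst hmd
      obtain ⟨X, hXd, hX⟩ :=
        Cfsg.Agent.Lib.Helper50.exists_totally_singular_of_plusType Q m hplus
      apply hminus
      refine ⟨X, le_top, hX, ?_⟩
      rw [finrank_top, hXd, hV]
    · have hmd : m = d - 1 := by omega
      subst hmd
      obtain ⟨φ₁, hφ₁⟩ := hmin
      obtain ⟨ψ, hψ⟩ := Cfsg.Agent.Lib.Helper49.exists_equiv_minus_all (d - 1) a b hab ζ hζ
      refine ⟨φ₁.trans ψ, fun v => ?_⟩
      rw [LinearEquiv.trans_apply, hψ, hφ₁]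
    · exfalso
      omega
  -- the basis attached to `φ`
  let b' : Basis ((Fin (d - 1) ⊕ Fin (d - 1)) ⊕ Fin 2) F V := Basis.ofEquivFun φ
  set M := LinearMap.toMatrix b' b' y with hM
  have hinter : ∀ w : (Fin (d - 1) ⊕ Fin (d - 1)) ⊕ Fin 2 → F,
      φ.symm (Matrix.toLin' M w) = y (φ.symm w) := by
    intro w
    apply φ.injective
    rw [LinearEquiv.apply_symm_apply, Matrix.toLin'_apply]
    have h1 := LinearMap.toMatrix_mulVec_repr b' b' y (φ.symm w)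
    have h3 : (b'.repr (φ.symm w) : (Fin (d - 1) ⊕ Fin (d - 1)) ⊕ Fin 2 → F) = w := by
      have := φ.apply_symm_apply w
      exact this
    rw [h3] at h1
    rw [← hM] at h1
    rw [h1]
    rfl
  have hform : ∀ w : (Fin (d - 1) ⊕ Fin (d - 1)) ⊕ Fin 2 → F,
      Q (φ.symm w) = Cfsg.quadFormMinus (d - 1) F a b w := by
    intro w
    rw [← hφ, LinearEquiv.apply_symm_apply]
  have hMQ : ∀ w : (Fin (d - 1) ⊕ Fin (d - 1)) ⊕ Fin 2 → F,
      Cfsg.quadFormMinus (d - 1) F a b (M *ᵥ w) = Cfsg.quadFormMinus (d - 1) F a b w := by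
    intro w
    have h1 : M *ᵥ w = φ (y (φ.symm w)) := by
      rw [← hinter, LinearEquiv.apply_symm_apply, Matrix.toLin'_apply]
    rw [h1, hφ, hiso, ← hφ, LinearEquiv.apply_symm_apply]
  have hMp : M ^ r = 1 := by
    rw [hM, LinearMap.toMatrix_pow, hy, LinearMap.toMatrix_one]
  have hp1 : 1 ≤ r := hr.pos
  have hMM : M * M ^ (r - 1) = 1 := by
    rw [← pow_succ', Nat.sub_add_cancel hp1, hMp]
  have hMM' : M ^ (r - 1) * M = 1 := by
    rw [← pow_succ, Nat.sub_add_cancel hp1, hMp]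
  let x₀ : GL ((Fin (d - 1) ⊕ Fin (d - 1)) ⊕ Fin 2) F := ⟨M, M ^ (r - 1), hMM, hMM'⟩
  have hcoe : (⇑(Cfsg.Agent.Lib.Helper50.QMinus (d - 1) F a b) :
      ((Fin (d - 1) ⊕ Fin (d - 1)) ⊕ Fin 2 → F) → F) = Cfsg.quadFormMinus (d - 1) F a b := rfl
  have hx₀iso : x₀ ∈ Cfsg.isometryGroup F (⇑(Cfsg.Agent.Lib.Helper50.QMinus (d - 1) F a b)) := by
    rw [hcoe, Cfsg.Agent.Lib.Helper19.mem_isometryGroup_iff]
    exact hMQ
  let g : ↥(Cfsg.isometryGroup F (⇑(Cfsg.Agent.Lib.Helper50.QMinus (d - 1) F a b))) :=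
    ⟨x₀, hx₀iso⟩
  have hx₀p : x₀ ^ r = 1 := by
    apply Units.ext
    rw [Units.val_pow_eq_pow_val]
    exact hMp
  have hgp : g ^ r = 1 := by
    apply Subtype.ext
    rw [SubmonoidClass.coe_pow]
    exact hx₀p
  obtain ⟨k, hk⟩ := hr
  have hgsq : g = g ^ (k + 1) * g ^ (k + 1) := by
    rw [← pow_add]
    have : k + 1 + (k + 1) = r + 1 := by omega
    rw [this, pow_succ, hgp, one_mul]
  have hgΩ : g ∈ Cfsg.Omega F (⇑(Cfsg.Agent.Lib.Helper50.QMinus (d - 1) F a b)) := by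
    rw [hgsq]
    exact sq_mem_Omega_minus (d - 1) (by omega) a b hab (g ^ (k + 1))
  have hmem : x₀ ∈ Cfsg.Geo.omegaGL (Cfsg.quadFormMinus (d - 1) F a b) := by
    have h1 := Cfsg.Agent.Lib.Helper50.coe_mem_omegaGL
      (⇑(Cfsg.Agent.Lib.Helper50.QMinus (d - 1) F a b)) g hgΩ
    exact h1
  refine ⟨x₀, hmem, ?_, ?_, φ.symm, hinter, hform⟩
  · rw [hx₀p, one_smul]
    rfl
  · intro z hz
    change M = z • 1 at hz
    apply hns z
    apply (LinearMap.toMatrix b' b').injective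
    rw [← hM, hz, map_smul, LinearMap.toMatrix_one]

end Cfsg.Agent.Lib.Helper68.OTs
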