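import Cfsg.Agent.Lib.Helper38.OhP.Defs
import Cfsg.Agent.Lib.Helper96.OhC0
import Cfsg.Agent.Lib.Helper98.Sy1

/-!
# K-OhP-C0 (keystone 597402, architect helper38): invariant nondegenerate subspaces of `V1` have even
dimension, for the polar form of a quadratic form in ANY characteristic
-/

set_option autoImplicit false

namespace Cfsg.Agent.Lib.Helper68.OhP

open Module Cfsg.Agent.Lib.Helper98.Elus Cfsg.Agent.Lib.Helper98.Sy Cfsg.Agent.Lib.Helper38.OhP

universe u
variable {F : Type u} [Field F] {V : Type u} [AddCommGroup V] [Module F V]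

/-- in characteristic two the polar form is alternating -/
theorem pB_isAlt_of_two_eq_zero (h2 : (2 : F) = 0) (Q : QuadraticForm F V) : (pB Q).IsAlt := by
  intro a
  rw [pB_self, h2, zero_mul]

/-- **LEAF C0 (597402).** -/
theorem even_finrank_q [FiniteDimensional F V] (Q : QuadraticForm F V)
    (r : ℕ) [Fact r.Prime] (hr2 : r ≠ 2) (hrF : (r : F) ≠ 0) (y : V →ₗ[F] V)
    (hy : y ^ r = 1) (hiso : QIso Q y) (M : Submodule F V) (hM1 : M ≤ V1 r y) (hM : Inv y M)
    (hMnd : NonDeg (pB Q) M) : Even (finrank F M) := by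
  by_cases h2 : (2 : F) = 0
  · exact Cfsg.Agent.Lib.Helper98.Sy.even_finrank (pB_isAlt_of_two_eq_zero h2 Q) _ M hMnd rfl
  · exact Cfsg.Agent.Lib.Helper96.Oh.even_finrank_of_le_V1 h2 (pB Q) (pB_symm Q) r hr2 hrF y hy
      hiso.iso M hM1 hM hMnd

end Cfsg.Agent.Lib.Helper68.OhP
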