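import Mathlib

set_option autoImplicit false

/-! K-3806 leaf H (S3806 pack): `B ≤ Z(A)`, `|A : B| = p` implies `A` abelian. -/

namespace Cfsg.Agent.Lib.Helper68.MC3806

open Subgroup

/-- LEAF H (`B ≤ Z(A)`, `|A : B| = p` ⟹ `A` abelian). -/
theorem comm_of_index_prime_central {G : Type*} [Group G] [Finite G] (p : ℕ) (hp : p.Prime)
    (A B : Subgroup G) (hBA : B ≤ A) (hcard : Nat.card A = p * Nat.card B)
    (hc : ∀ a ∈ A, ∀ b ∈ B, a * b = b * a) : ∀ a ∈ A, ∀ b ∈ A, a * b = b * a := by
  classical
  haveI : Fact p.Prime := ⟨hp⟩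
  let B' : Subgroup A := B.subgroupOf A
  have hcen : B' ≤ Subgroup.center A := by
    intro x hx
    rw [Subgroup.mem_center_iff]
    intro y
    have hxB : (x : G) ∈ B := hx
    have := hc (y : G) y.2 (x : G) hxB
    exact Subtype.ext this
  haveI hnorm : B'.Normal := by
    constructor
    intro n hn g
    have hnc := hcen hn
    rw [Subgroup.mem_center_iff] at hnc
    have : g * n * g⁻¹ = n := by
      rw [hnc g, mul_assoc, mul_inv_cancel, mul_one]
    rw [this]
    exact hn
  have hcardB' : Nat.card B' = Nat.card B :=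
    Nat.card_congr (Subgroup.subgroupOfEquivOfLe hBA).toEquiv
  have hidx : B'.index = p := by
    have h1 := Subgroup.card_mul_index B'
    rw [hcardB', hcard] at h1
    have hpos : 0 < Nat.card B := Nat.card_pos
    have h2 : Nat.card B * B'.index = Nat.card B * p := by rw [h1, mul_comm]
    exact Nat.eq_of_mul_eq_mul_left hpos h2
  have hq : Nat.card (A ⧸ B') = p := by
    rw [← Subgroup.index_eq_card]
    exact hidx
  haveI : IsCyclic (A ⧸ B') := isCyclic_of_prime_card hq
  intro a ha b hb
  have hker : (QuotientGroup.mk' B').ker ≤ Subgroup.center A := by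
    rw [QuotientGroup.ker_mk']
    exact hcen
  have := commutative_of_cyclic_center_quotient (QuotientGroup.mk' B') hker ⟨a, ha⟩ ⟨b, hb⟩
  exact congrArg Subtype.val this

end Cfsg.Agent.Lib.Helper68.MC3806
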