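import Mathlib
import Cfsg.Agent.S0001
import Cfsg.Agent.Lib.Helper68.SylowConj

set_option autoImplicit false

namespace Cfsg.Agent.Lib.Helper68

open scoped Pointwise

theorem card_eq_card_map_mul_card {X : Type*} [Group X] [Finite X] (N H : Subgroup X) [N.Normal]
    (h : N ≤ H) : Nat.card H = Nat.card (H.map (QuotientGroup.mk' N)) * Nat.card N := by
  have hsurj : Function.Surjective (QuotientGroup.mk' N) := QuotientGroup.mk'_surjective N
  have hcomap : (H.map (QuotientGroup.mk' N)).comap (QuotientGroup.mk' N) = H := by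
    rw [Subgroup.comap_map_eq, QuotientGroup.ker_mk', sup_eq_left.2 h]
  have hidx : (H.map (QuotientGroup.mk' N)).index = H.index := by
    have := Subgroup.index_comap_of_surjective (H.map (QuotientGroup.mk' N)) hsurj
    rw [hcomap] at this
    exact this.symm
  have h1 : Nat.card H * H.index = Nat.card X := Subgroup.card_mul_index H
  have h2 := Subgroup.card_mul_index (H.map (QuotientGroup.mk' N))
  have h3 := Subgroup.card_eq_card_quotient_mul_card_subgroup N
  rw [hidx] at h2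
  have hpos : 0 < H.index := Nat.pos_of_ne_zero Subgroup.index_ne_zero_of_finite
  apply Nat.eq_of_mul_eq_mul_right hpos
  rw [h1, h3, ← h2]
  ring

/-- Burnside hypothesis in the quotient by `Q ≤ P` -/
theorem normalizer_map_le_centralizer_map {X : Type*} [Group X] [Finite X] {p : ℕ} [Fact p.Prime]
    (P : Sylow p X) (Q : Subgroup X) [hQn : Q.Normal] (hQP : Q ≤ P)
    (hC : ∀ a ∈ P, ∀ b ∈ P, a * b * a⁻¹ * b⁻¹ ∈ Q)
    (hH : ∀ x ∈ Subgroup.normalizer ((P : Subgroup X) : Set X), ∃ u ∈ P,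
      ∃ k ∈ Subgroup.centralizer ((P : Subgroup X) : Set X), x = u * k) :
    Subgroup.normalizer (((P : Subgroup X).map (QuotientGroup.mk' Q) : Subgroup (X ⧸ Q)) : Set (X ⧸ Q)) ≤
      Subgroup.centralizer (((P : Subgroup X).map (QuotientGroup.mk' Q) : Subgroup (X ⧸ Q)) : Set (X ⧸ Q)) := by
  have hsurj : Function.Surjective (QuotientGroup.mk' Q) := QuotientGroup.mk'_surjective Q
  intro xb hxb
  obtain ⟨x, rfl⟩ := hsurj xb
  have hx : x ∈ (Subgroup.normalizer (((P : Subgroup X).map (QuotientGroup.mk' Q) : Subgroup (X ⧸ Q)) : Set (X ⧸ Q))).comap (QuotientGroup.mk' Q) := hxb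
  rw [Subgroup.comap_normalizer_eq_of_surjective _ hsurj, Subgroup.comap_map_eq,
    QuotientGroup.ker_mk', sup_eq_left.2 hQP] at hx
  obtain ⟨u, hu, k, hk, rfl⟩ := hH x hx
  rw [Subgroup.mem_centralizer_iff]
  rintro _ ⟨y, hy, rfl⟩
  have hy' : y ∈ (P : Subgroup X) := hy
  rw [← map_mul, ← map_mul]
  show ((y * (u * k) : X) : X ⧸ Q) = ((u * k * y : X) : X ⧸ Q)
  rw [QuotientGroup.eq]
  have hmem : u⁻¹ * y⁻¹ * u ∈ (P : Subgroup X) :=
    Subgroup.mul_mem _ (Subgroup.mul_mem _ (Subgroup.inv_mem _ hu) (Subgroup.inv_mem _ hy')) hu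
  have hk2 : (u⁻¹ * y⁻¹ * u) * k = k * (u⁻¹ * y⁻¹ * u) := Subgroup.mem_centralizer_iff.1 hk _ hmem
  have key : (y * (u * k))⁻¹ * (u * k * y) = u⁻¹ * y⁻¹ * u⁻¹⁻¹ * y⁻¹⁻¹ := by
    have e1 : (y * (u * k))⁻¹ * (u * k * y) = k⁻¹ * ((u⁻¹ * y⁻¹ * u) * k) * y := by group
    rw [e1, hk2]
    group
  rw [key]
  exact hC _ (Subgroup.inv_mem _ hu) _ (Subgroup.inv_mem _ hy')


/-- A special case of Tate's theorem: `Q ⊴ X`, `Q ≤ Φ(P)` (non-generator form), `P/Q` abelian,
`N_X(P) = P C_X(P)`; then `X` has a normal `p`-complement. -/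
theorem tate_special {X : Type*} [Group X] [Finite X] {p : ℕ} [Fact p.Prime]
    (P : Sylow p X) (Q : Subgroup X) [hQn : Q.Normal] (hQP : Q ≤ P)
    (hC : ∀ a ∈ P, ∀ b ∈ P, a * b * a⁻¹ * b⁻¹ ∈ Q)
    (hNG : ∀ H : Subgroup X, H ≤ P → (P : Subgroup X) ≤ Q ⊔ H → (P : Subgroup X) ≤ H)
    (hH : ∀ x ∈ Subgroup.normalizer ((P : Subgroup X) : Set X), ∃ u ∈ P,
      ∃ k ∈ Subgroup.centralizer ((P : Subgroup X) : Set X), x = u * k) :
    ∃ K : Subgroup X, K.Normal ∧ K.IsComplement' (P : Subgroup X) := by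
  classical
  have hp : p.Prime := Fact.out
  have hsurj : Function.Surjective (QuotientGroup.mk' Q) := QuotientGroup.mk'_surjective Q
  let Pb : Sylow p (X ⧸ Q) := P.mapSurjective hsurj
  have hPb : (Pb : Subgroup (X ⧸ Q)) = (P : Subgroup X).map (QuotientGroup.mk' Q) := rfl
  have hNC : Subgroup.normalizer ((Pb : Subgroup (X ⧸ Q)) : Set (X ⧸ Q)) ≤
      Subgroup.centralizer ((Pb : Subgroup (X ⧸ Q)) : Set (X ⧸ Q)) :=
    normalizer_map_le_centralizer_map P Q hQP hC hH
  have hcompl := MonoidHom.ker_transferSylow_isComplement' Pb hNC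
  set Yb : Subgroup (X ⧸ Q) := (MonoidHom.transferSylow Pb hNC).ker with hYb
  have hYbn : Yb.Normal := by rw [hYb]; infer_instance
  set Y : Subgroup X := Yb.comap (QuotientGroup.mk' Q) with hY
  have hYn : Y.Normal := hYbn.comap _
  have hQY : Q ≤ Y := by
    intro q hq
    show (QuotientGroup.mk' Q) q ∈ Yb
    have : (QuotientGroup.mk' Q) q = 1 := (QuotientGroup.eq_one_iff q).2 hq
    rw [this]; exact one_mem _
  have hYmap : Y.map (QuotientGroup.mk' Q) = Yb := Subgroup.map_comap_eq_self_of_surjective hsurj Yb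
  -- cardinalities
  have hcardY : Nat.card Y = Nat.card Yb * Nat.card Q := by
    rw [card_eq_card_map_mul_card Q Y hQY, hYmap]
  have hcardP : Nat.card (P : Subgroup X) = Nat.card (Pb : Subgroup (X ⧸ Q)) * Nat.card Q := by
    rw [card_eq_card_map_mul_card Q P hQP, hPb]
  have hcardX : Nat.card X = Nat.card (X ⧸ Q) * Nat.card Q :=
    Subgroup.card_eq_card_quotient_mul_card_subgroup Q
  have hcardYbPb : Nat.card Yb * Nat.card (Pb : Subgroup (X ⧸ Q)) = Nat.card (X ⧸ Q) :=
    hcompl.card_mul_card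
  have hYbcop : ¬ p ∣ Nat.card Yb := by
    rw [← hcompl.index_eq_card]
    exact Pb.not_dvd_index
  have hQp : IsPGroup p Q := P.2.to_le hQP
  obtain ⟨a, ha⟩ := hQp.exists_card_eq
  have hcopQ : (Nat.card Q).Coprime (Nat.card Yb) := by
    rw [ha]
    exact Nat.Coprime.pow_left a ((Nat.Prime.coprime_iff_not_dvd hp).2 hYbcop)
  -- Schur-Zassenhaus in Y
  have hQ'n : (Q.subgroupOf Y).Normal := inferInstance
  have hcardQ' : Nat.card (Q.subgroupOf Y) = Nat.card Q :=
    Nat.card_congr (Subgroup.subgroupOfEquivOfLe hQY).toEquiv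
  have hidxQ' : (Q.subgroupOf Y).index = Nat.card Yb := by
    have h1 : Nat.card (Q.subgroupOf Y) * (Q.subgroupOf Y).index = Nat.card Y :=
      Subgroup.card_mul_index _
    rw [hcardQ', hcardY, mul_comm] at h1
    exact Nat.eq_of_mul_eq_mul_right Nat.card_pos h1
  have hcop' : (Nat.card (Q.subgroupOf Y)).Coprime (Q.subgroupOf Y).index := by
    rw [hcardQ', hidxQ']; exact hcopQ
  obtain ⟨K', hK'⟩ := Subgroup.exists_right_complement'_of_coprime hcop'
  have hcardK' : Nat.card K' = Nat.card Yb := by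
    rw [← hidxQ']; exact (hK'.symm.index_eq_card).symm
  set K : Subgroup X := K'.map Y.subtype with hK
  have hKY : K ≤ Y := Subgroup.map_subtype_le K'
  have hcardK : Nat.card K = Nat.card Yb := by
    rw [← hcardK']
    exact Nat.card_congr (K'.equivMapOfInjective Y.subtype Y.subtype_injective).toEquiv.symm
  have hKsub : K.subgroupOf Y = K' := by
    ext y
    rw [Subgroup.mem_subgroupOf]
    constructor
    · rintro ⟨z, hz, hzy⟩
      have : z = y := Subtype.ext hzy
      rw [← this]; exact hz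
    · intro hy
      exact ⟨y, hy, rfl⟩
  have hsolv : Group.IsSolvable (Q.subgroupOf Y) := by
    have h1 : IsPGroup p (Q.subgroupOf Y) := hQp.comap_of_injective Y.subtype Y.subtype_injective
    have := h1.isNilpotent
    infer_instance
  -- Frattini argument: every x is q * r with q ∈ Q, r ∈ N(K)
  have hfrat : ∀ x : X, ∃ q ∈ Q, ∃ r ∈ Subgroup.normalizer (K : Set X), x = q * r := by
    intro x
    have hxKY : cj x K ≤ Y := by
      calc cj x K ≤ cj x Y := cj_mono x hKY
        _ = Y := by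
          rw [cj_eq_self_iff, Subgroup.normalizer_eq_top]; trivial
    have hcardxK : Nat.card ((cj x K).subgroupOf Y) = Nat.card Yb := by
      rw [Nat.card_congr (Subgroup.subgroupOfEquivOfLe hxKY).toEquiv, card_cj, hcardK]
    have hcomplx : Subgroup.IsComplement' (Q.subgroupOf Y) ((cj x K).subgroupOf Y) := by
      apply Subgroup.isComplement'_of_coprime
      · rw [hcardQ', hcardxK, hcardY, mul_comm]
      · rw [hcardQ', hcardxK]; exact hcopQ
    obtain ⟨y, hy⟩ := Cfsg.Agent.S0001.result (Q.subgroupOf Y) hcop' (Or.inl hsolv) K'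
      ((cj x K).subgroupOf Y) hK' hcomplx
    rw [smul_eq_cj] at hy
    have hy' := congrArg (Subgroup.map Y.subtype) hy
    rw [← hKsub, map_cj_subgroupOf Y K hKY, Subgroup.map_subgroupOf_eq_of_le hxKY] at hy'
    -- cj y K = cj x K
    have hn : (y : X)⁻¹ * x ∈ Subgroup.normalizer (K : Set X) := by
      rw [← cj_eq_self_iff, cj_mul, ← hy', cj_inv_cj]
    -- y = q * k
    have hyQK : (y : ↥Y) ∈ ((Q.subgroupOf Y : Subgroup ↥Y) : Set ↥Y) * ((K' : Subgroup ↥Y) : Set ↥Y) := by
      have := hK'.mul_eq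
      rw [this]; trivial
    obtain ⟨q, hq, k, hk, hqk⟩ := hyQK
    refine ⟨(q : X), Subgroup.mem_subgroupOf.1 hq, (k : X) * ((y : X)⁻¹ * x), ?_, ?_⟩
    · apply Subgroup.mul_mem _ _ hn
      apply Subgroup.le_normalizer
      exact ⟨k, hk, rfl⟩
    · have : (y : X) = (q : X) * (k : X) := by
        rw [← hqk]; rfl
      rw [← mul_assoc, ← this]; group
  -- P normalizes K
  have hPK : (P : Subgroup X) ≤ Subgroup.normalizer (K : Set X) := by
    have h1 : (P : Subgroup X) ≤ Q ⊔ ((P : Subgroup X) ⊓ Subgroup.normalizer (K : Set X)) := by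
      intro g hg
      obtain ⟨q, hq, r, hr, rfl⟩ := hfrat g
      apply Subgroup.mul_mem_sup hq
      refine ⟨?_, hr⟩
      have : r = q⁻¹ * (q * r) := by group
      rw [this]
      exact Subgroup.mul_mem _ (Subgroup.inv_mem _ (hQP hq)) hg
    exact (hNG _ inf_le_left h1).trans inf_le_right
  -- Y ⊔ P = ⊤
  have hYP : Y ⊔ (P : Subgroup X) = ⊤ := by
    have h1 : (Y ⊔ (P : Subgroup X)).map (QuotientGroup.mk' Q) = ⊤ := by
      rw [Subgroup.map_sup, hYmap, ← hPb]; exact hcompl.sup_eq_top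
    have h2 := congrArg (Subgroup.comap (QuotientGroup.mk' Q)) h1
    rw [Subgroup.comap_map_eq, QuotientGroup.ker_mk', Subgroup.comap_top,
      sup_eq_left.2 (hQY.trans le_sup_left)] at h2
    exact h2
  -- Q ⊔ K = Y
  have hQK : Q ⊔ K = Y := by
    have h1 : (Q.subgroupOf Y ⊔ K').map Y.subtype = Y := by
      rw [hK'.sup_eq_top, ← MonoidHom.range_eq_map, Subgroup.range_subtype]
    rw [Subgroup.map_sup, Subgroup.map_subgroupOf_eq_of_le hQY] at h1
    exact h1
  have hKn : K.Normal := by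
    rw [← Subgroup.normalizer_eq_top_iff, eq_top_iff, ← hYP, ← hQK]
    exact sup_le (sup_le (hQP.trans hPK) Subgroup.le_normalizer) hPK
  refine ⟨K, hKn, ?_⟩
  apply Subgroup.isComplement'_of_coprime
  · rw [hcardK, hcardP, hcardX, ← hcardYbPb]; ring
  · rw [hcardK]
    obtain ⟨b, hb⟩ := P.2.exists_card_eq
    rw [hb]
    exact Nat.Coprime.pow_right b ((Nat.Prime.coprime_iff_not_dvd hp).2 hYbcop).symm

end Cfsg.Agent.Lib.Helper68
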