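import Mathlib

/-!
# K-147C-C7 (keystone 147107, pack K-147C, architect helper15): `exists_compl_ge`.
Schur-Zassenhaus complement of a normal Hall subgroup `D` of `Z` containing a prescribed normal
subgroup `S` of order prime to `|D|`.  Pure Mathlib.
-/

set_option autoImplicit false

namespace Cfsg.Agent.Lib.Helper68.BG147

/-- `|HN : H|` divides `|N|` for `N` normal -/
theorem relIndex_sup_dvd_card {G : Type*} [Group G] [Finite G] (H N : Subgroup G) [N.Normal] :
    H.relIndex (H ⊔ N) ∣ Nat.card N := by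
  have h1 : Nat.card H * H.relIndex (H ⊔ N) = Nat.card ↥(H ⊔ N) := by
    rw [← Subgroup.relIndex_bot_left, ← Subgroup.relIndex_bot_left,
      Subgroup.relIndex_mul_relIndex _ _ _ bot_le le_sup_left]
  have h2 : Nat.card N * N.relIndex (H ⊔ N) = Nat.card ↥(H ⊔ N) := by
    rw [← Subgroup.relIndex_bot_left, ← Subgroup.relIndex_bot_left,
      Subgroup.relIndex_mul_relIndex _ _ _ bot_le le_sup_right]
  have h3 : N.relIndex (H ⊔ N) = N.relIndex H := Subgroup.relIndex_sup_right H N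
  have h4 : Nat.card ↥(N ⊓ H) * N.relIndex H = Nat.card H := by
    rw [← Subgroup.inf_relIndex_right, ← Subgroup.relIndex_bot_left, ← Subgroup.relIndex_bot_left,
      Subgroup.relIndex_mul_relIndex _ _ _ bot_le inf_le_right]
  have hpos : 0 < Nat.card H := Nat.card_pos
  have hne : 0 < N.relIndex H := by
    rcases Nat.eq_zero_or_pos (N.relIndex H) with h | h
    · rw [h, mul_zero] at h4
      omega
    · exact h
  refine ⟨Nat.card ↥(N ⊓ H), ?_⟩
  apply Nat.eq_of_mul_eq_mul_right hne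
  rw [h3] at h2
  calc Nat.card N * N.relIndex H = Nat.card ↥(H ⊔ N) := h2
    _ = Nat.card H * H.relIndex (H ⊔ N) := h1.symm
    _ = Nat.card ↥(N ⊓ H) * N.relIndex H * H.relIndex (H ⊔ N) := by rw [h4]
    _ = H.relIndex (H ⊔ N) * Nat.card ↥(N ⊓ H) * N.relIndex H := by ring

/-- **LEAF C7 (147107)**, pure group theory -/
theorem exists_compl_ge {G : Type*} [Group G] [Finite G] {Z D S : Subgroup G} (hDZ : D ≤ Z)
    (hDn : Z ≤ Subgroup.normalizer (D : Set G)) (hSZ : S ≤ Z)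
    (hSn : Z ≤ Subgroup.normalizer (S : Set G))
    (hcop : (Nat.card D).Coprime (D.relIndex Z)) (hcop2 : (Nat.card S).Coprime (Nat.card D)) :
    ∃ R0 : Subgroup G, R0 ≤ Z ∧ D ⊓ R0 = ⊥ ∧ D ⊔ R0 = Z ∧ S ≤ R0 ∧
      Nat.card R0 = D.relIndex Z := by
  have hDnor : (D.subgroupOf Z).Normal := (Subgroup.normal_subgroupOf_iff_le_normalizer hDZ).2 hDn
  have hSnor : (S.subgroupOf Z).Normal := (Subgroup.normal_subgroupOf_iff_le_normalizer hSZ).2 hSn
  have hDcard : Nat.card (D.subgroupOf Z) = Nat.card D :=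
    Nat.card_congr (Subgroup.subgroupOfEquivOfLe hDZ).toEquiv
  have hScard : Nat.card (S.subgroupOf Z) = Nat.card S :=
    Nat.card_congr (Subgroup.subgroupOfEquivOfLe hSZ).toEquiv
  have hcop' : Nat.Coprime (Nat.card (D.subgroupOf Z)) (D.subgroupOf Z).index := by
    rw [hDcard]
    exact hcop
  obtain ⟨H, hH⟩ := Subgroup.exists_right_complement'_of_coprime hcop'
  have hHidx : H.index = Nat.card D := by
    rw [← hDcard]
    exact hH.index_eq_card
  have hHcard : Nat.card H = D.relIndex Z := hH.symm.index_eq_card.symm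
  -- `S ≤ H`
  have hSH : S.subgroupOf Z ≤ H := by
    have h1 : H.relIndex (H ⊔ S.subgroupOf Z) ∣ Nat.card (S.subgroupOf Z) :=
      relIndex_sup_dvd_card H (S.subgroupOf Z)
    have h2 : H.relIndex (H ⊔ S.subgroupOf Z) ∣ H.index :=
      Subgroup.relIndex_dvd_index_of_le le_sup_left
    rw [hScard] at h1
    rw [hHidx] at h2
    have h3 : H.relIndex (H ⊔ S.subgroupOf Z) = 1 :=
      Nat.eq_one_of_dvd_coprimes hcop2 h1 h2
    exact le_sup_right.trans (Subgroup.relIndex_eq_one.1 h3)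
  refine ⟨H.map Z.subtype, Subgroup.map_subtype_le H, ?_, ?_, ?_, ?_⟩
  · -- `D ⊓ R0 = ⊥`
    rw [eq_bot_iff]
    intro x hx
    obtain ⟨hxD, hxR⟩ := Subgroup.mem_inf.1 hx
    obtain ⟨h, hh, rfl⟩ := Subgroup.mem_map.1 hxR
    have hmem : h ∈ D.subgroupOf Z ⊓ H := Subgroup.mem_inf.2 ⟨Subgroup.mem_subgroupOf.2 hxD, hh⟩
    rw [hH.disjoint.eq_bot] at hmem
    rw [Subgroup.mem_bot] at hmem ⊢
    rw [hmem]
    rfl
  · -- `D ⊔ R0 = Z`
    have h1 : (D.subgroupOf Z ⊔ H).map Z.subtype = Z := by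
      rw [hH.sup_eq_top, ← MonoidHom.range_eq_map, Subgroup.range_subtype]
    rw [Subgroup.map_sup, Subgroup.subgroupOf_map_subtype, inf_eq_left.2 hDZ] at h1
    exact h1
  · -- `S ≤ R0`
    intro s hs
    exact Subgroup.mem_map.2 ⟨⟨s, hSZ hs⟩, hSH (Subgroup.mem_subgroupOf.2 hs), rfl⟩
  · rw [← hHcard]
    exact Nat.card_congr (Subgroup.equivMapOfInjective H Z.subtype Z.subtype_injective).symm.toEquiv

end Cfsg.Agent.Lib.Helper68.BG147
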