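import Cfsg.Agent.Lib.Helper24.CellsF
import Cfsg.Agent.Lib.Helper38.SQ.Defs

/-!
# K-SQ pack (S4625, architect helper38): the generic lemma for the untwisted exceptional Chevalley groups
(leaves G2, F4, E6, E7, E8): in characteristic 2 the subgroup `U = ⟨x_r(t) : r > 0⟩` is generated by involutions and has
order `q ^ (number of positive roots)` (`Helper24.Facts.card_posUnipotent`), so it witnesses `SylSq` as soon as the
order of the group is `q ^ N * (odd)`.
-/

set_option autoImplicit false

namespace Cfsg.Agent.Lib.Helper68.SQ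

open Cfsg Cfsg.Lie Cfsg.Agent.Lib.Helper24 Cfsg.Agent.Lib.Helper38.SQ

variable {F : Type*} [Field F] [Fintype F] [CharP F 2] {D : ChevalleyDatum} {tab : List ℕ}
  {orb : List (ℕ × ℕ × ℕ)}

/-- the positive unipotent subgroup, generated by involutions, inside the Chevalley group -/
theorem unip2_of_env (E : Env D F tab orb) :
    Unip2 ↥(D.group F) (Fintype.card F ^ (D.nroots / 2)) := by
  have hle : D.posUnipotent F ≤ D.group F := E.hF.pos_le_group
  have hcard : Nat.card (D.posUnipotent F) = Fintype.card F ^ (D.nroots / 2) :=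
    E.hF.card_posUnipotent E.hC E.hU E.hNR E.hcomm
  obtain ⟨k, -, hk⟩ := FiniteField.card F 2
  have hp : IsPGroup 2 ↥(D.posUnipotent F) :=
    IsPGroup.of_card (n := (k : ℕ) * (D.nroots / 2)) (by rw [hcard, hk, pow_mul])
  have hU : Unip2 ↥(D.posUnipotent F) (Fintype.card F ^ (D.nroots / 2)) := by
    refine ⟨⊤, hp.to_subgroup ⊤, ?_, ?_⟩
    · rw [Subgroup.card_top, hcard]
    · intro x _
      have h1 := sq_mem_commutator_of_closure_top
        (U := ↥(D.posUnipotent F))
        (((↑) : ↥(D.posUnipotent F) → GL D.Idx F) ⁻¹'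
          {g | ∃ (r : ℕ) (t : F), D.IsPosRoot r ∧ (g : Matrix D.Idx D.Idx F) = D.x F r t})
        (by
          unfold ChevalleyDatum.posUnipotent
          exact Subgroup.closure_closure_coe_preimage)
        (by
          rintro s ⟨r, t, -, hs⟩
          have e : (s : GL D.Idx F) = E.hF.xGL r t := E.hF.eq_xGL _ r t hs
          have h2 : s ^ 2 = 1 := by
            apply Subtype.ext
            rw [Subgroup.coe_pow, e, pow_two, E.hF.xGL_mul, CharTwo.add_self_eq_zero,
              E.hF.xGL_zero]
            rfl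
          rw [h2]
          exact Subgroup.one_mem _) x
      exact h1
  exact Unip2.of_injective _ (Subgroup.inclusion hle) (Subgroup.inclusion_injective hle) hU

/-- the generic leaf: `|G| = q ^ N * m` with `m` odd gives `SylSq` -/
theorem sylSq_of_env (E : Env D F tab orb) (m : ℕ) (hm : ¬ 2 ∣ m)
    (hX : Nat.card ↥(D.group F) = Fintype.card F ^ (D.nroots / 2) * m) : SylSq ↥(D.group F) := by
  obtain ⟨k, -, hk⟩ := FiniteField.card F 2
  have e : Fintype.card F ^ (D.nroots / 2) = 2 ^ ((k : ℕ) * (D.nroots / 2)) := by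
    rw [hk, pow_mul]
  have hu := unip2_of_env E
  rw [e] at hu hX
  exact SylSq.of_unip_twoPart _ hu ⟨m, hm, hX⟩

end Cfsg.Agent.Lib.Helper68.SQ
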