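import Mathlib

/-!
# K-SQ (S4625), arithmetic half of the Chevalley leaves: for `q` even the cofactors
`∏ (q ^ d - 1)` of the order formulas are odd.  Mathlib only.
-/

set_option autoImplicit false

namespace Cfsg.Agent.Lib.Helper68.SQ

theorem two_dvd_card_of_charTwo (F : Type*) [Field F] [Fintype F] [CharP F 2] :
    2 ∣ Fintype.card F := by
  have h : ((Fintype.card F : ℕ) : F) = 0 := Nat.cast_card_eq_zero F
  exact (CharP.cast_eq_zero_iff F 2 (Fintype.card F)).1 h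

theorem not_two_dvd_pow_sub_one {q : ℕ} (hq : 2 ∣ q) (hq0 : 0 < q) {d : ℕ} (hd : d ≠ 0) :
    ¬ 2 ∣ q ^ d - 1 := by
  have h1 : 2 ∣ q ^ d := dvd_pow hq hd
  have h2 : 0 < q ^ d := pow_pos hq0 d
  omega

theorem not_two_dvd_mul {a b : ℕ} (ha : ¬ 2 ∣ a) (hb : ¬ 2 ∣ b) : ¬ 2 ∣ a * b := by
  intro h
  rcases (Nat.Prime.dvd_mul Nat.prime_two).1 h with h | h
  · exact ha h
  · exact hb h

/-- a product of numbers `q ^ d - 1` (`d ≠ 0`) is odd for `q` even -/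
theorem not_two_dvd_list_prod {q : ℕ} (hq : 2 ∣ q) (hq0 : 0 < q) (l : List ℕ) (hl : ∀ d ∈ l, d ≠ 0) :
    ¬ 2 ∣ (l.map fun d => q ^ d - 1).prod := by
  induction l with
  | nil => simp
  | cons d l ih =>
    rw [List.map_cons, List.prod_cons]
    exact not_two_dvd_mul (not_two_dvd_pow_sub_one hq hq0 (hl d (by simp)))
      (ih fun e he => hl e (by simp [he]))

/-- the cofactor of `|E₈(q)|` -/
theorem not_two_dvd_e8 {q : ℕ} (hq : 2 ∣ q) (hq0 : 0 < q) :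
    ¬ 2 ∣ (q ^ 2 - 1) * (q ^ 8 - 1) * (q ^ 12 - 1) * (q ^ 14 - 1) * (q ^ 18 - 1) * (q ^ 20 - 1) *
      (q ^ 24 - 1) * (q ^ 30 - 1) := by
  have h := fun d (hd : d ≠ 0) => not_two_dvd_pow_sub_one hq hq0 hd
  exact not_two_dvd_mul (not_two_dvd_mul (not_two_dvd_mul (not_two_dvd_mul (not_two_dvd_mul
    (not_two_dvd_mul (not_two_dvd_mul (h 2 (by norm_num)) (h 8 (by norm_num))) (h 12 (by norm_num)))
    (h 14 (by norm_num))) (h 18 (by norm_num))) (h 20 (by norm_num))) (h 24 (by norm_num)))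
    (h 30 (by norm_num))

/-- `|E₈(q)| = q ^ 120 * m` with `m` odd, from the order formula -/
theorem e8_card_eq {q c : ℕ}
    (h : c = q ^ 120 * (q ^ 2 - 1) * (q ^ 8 - 1) * (q ^ 12 - 1) * (q ^ 14 - 1) * (q ^ 18 - 1) *
      (q ^ 20 - 1) * (q ^ 24 - 1) * (q ^ 30 - 1)) :
    c = q ^ 120 * ((q ^ 2 - 1) * (q ^ 8 - 1) * (q ^ 12 - 1) * (q ^ 14 - 1) * (q ^ 18 - 1) *
      (q ^ 20 - 1) * (q ^ 24 - 1) * (q ^ 30 - 1)) := by
  rw [h]
  simp only [mul_assoc]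

end Cfsg.Agent.Lib.Helper68.SQ
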