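import Mathlib

/-!
# K-SQ (S4625), arithmetic for the Chevalley leaves with a gcd in the order formula (E6, E7).  Mathlib only.
-/

set_option autoImplicit false

namespace Cfsg.Agent.Lib.Helper68.SQ

/-- `g * n = c * P` with `g`, `P` odd and `c` a power of two: `n = c * m` with `m` odd. -/
theorem twoPart_of_mul_eq {g n c P e : ℕ} (hg : ¬ 2 ∣ g) (hP : ¬ 2 ∣ P) (hc : c = 2 ^ e)
    (h : g * n = c * P) : ∃ m, ¬ 2 ∣ m ∧ n = c * m := by
  have hcop : Nat.Coprime c g := by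
    rw [hc]
    apply Nat.Coprime.pow_left
    exact (Nat.Prime.coprime_iff_not_dvd Nat.prime_two).2 hg
  have hdvd : c ∣ n := by
    have h1 : c ∣ g * n := ⟨P, h⟩
    exact hcop.dvd_of_dvd_mul_left h1
  obtain ⟨m, rfl⟩ := hdvd
  refine ⟨m, ?_, rfl⟩
  intro h2
  apply hP
  have hcpos : 0 < c := by
    rw [hc]
    positivity
  have h3 : c * (g * m) = c * P := by
    rw [← h]
    ring
  have h4 : g * m = P := Nat.eq_of_mul_eq_mul_left hcpos h3
  rw [← h4]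
  exact dvd_mul_of_dvd_right h2 g

theorem card_eq_two_pow (F : Type*) [Field F] [Fintype F] [CharP F 2] (N : ℕ) :
    ∃ e : ℕ, Fintype.card F ^ N = 2 ^ e := by
  obtain ⟨k, -, hk⟩ := FiniteField.card F 2
  exact ⟨(k : ℕ) * N, by rw [hk, pow_mul]⟩

theorem not_two_dvd_gcd_three (x : ℕ) : ¬ 2 ∣ Nat.gcd 3 x := by
  intro h
  have h1 : 2 ∣ 3 := h.trans (Nat.gcd_dvd_left 3 x)
  omega

theorem not_two_dvd_gcd_two_pred {q : ℕ} (hq : 2 ∣ q) (hq0 : 0 < q) : ¬ 2 ∣ Nat.gcd 2 (q - 1) := by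
  intro h
  have h1 : 2 ∣ q - 1 := h.trans (Nat.gcd_dvd_right 2 (q - 1))
  omega

end Cfsg.Agent.Lib.Helper68.SQ
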