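import Cfsg.Agent.Lib.Helper68.SQChev
import Cfsg.Agent.Lib.Helper68.SQOdd
import Cfsg.Agent.Lib.Helper68.SQOdd2
import Cfsg.Agent.Lib.Helper24.Ord_E6

/-!
# K-SQ pack (S4625, architect helper38), LEAF E6 (keystone 462509), safety copy
-/

set_option autoImplicit false

namespace Cfsg.Agent.Lib.Helper68.SQ

open Cfsg Cfsg.Lie Cfsg.Agent.Lib.Helper24 Cfsg.Agent.Lib.Helper38.SQ

/-- **LEAF E6 (462509)** -/
theorem sylSq_e6 (F : Type) [Field F] [Fintype F] [CharP F 2] :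
    SylSq (Cfsg.Lie.chevE6.group F) := by
  obtain ⟨E⟩ := env_of_facts (F := F) chevE6 (by simp) nTabE6 orbTabE6 nfacts_E6 hnfacts_E6 cfacts_E6
  have hq2 : 2 ∣ Fintype.card F := two_dvd_card_of_charTwo F
  have hq0 : 0 < Fintype.card F := Fintype.card_pos
  have hX := ord_E6 (F := F) (q := Fintype.card F) rfl
  have e : chevE6.nroots / 2 = 36 := by decide
  have h := fun d (hd : d ≠ 0) => not_two_dvd_pow_sub_one hq2 hq0 hd
  have hP : ¬ 2 ∣ (Fintype.card F ^ 2 - 1) * ((Fintype.card F ^ 5 - 1) * ((Fintype.card F ^ 6 - 1) *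
      ((Fintype.card F ^ 8 - 1) * ((Fintype.card F ^ 9 - 1) * (Fintype.card F ^ 12 - 1))))) :=
    not_two_dvd_mul (h 2 (by norm_num)) (not_two_dvd_mul (h 5 (by norm_num))
      (not_two_dvd_mul (h 6 (by norm_num)) (not_two_dvd_mul (h 8 (by norm_num))
      (not_two_dvd_mul (h 9 (by norm_num)) (h 12 (by norm_num))))))
  obtain ⟨e2, he2⟩ := card_eq_two_pow F 36
  simp only [mul_assoc] at hX
  obtain ⟨m, hm, hXm⟩ := twoPart_of_mul_eq (not_two_dvd_gcd_three _) hP he2 hX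
  refine sylSq_of_env E m hm ?_
  rw [e]
  exact hXm

end Cfsg.Agent.Lib.Helper68.SQ
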