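import Cfsg.Agent.Lib.Helper68.SQChev
import Cfsg.Agent.Lib.Helper68.SQOdd
import Cfsg.Agent.Lib.Helper24.Ord_E8

/-!
# K-SQ pack (S4625, architect helper38), LEAF E8 (keystone 462511)
-/

set_option autoImplicit false

namespace Cfsg.Agent.Lib.Helper68.SQ

open Cfsg Cfsg.Lie Cfsg.Agent.Lib.Helper24 Cfsg.Agent.Lib.Helper38.SQ

/-- **LEAF E8 (462511)** -/
theorem sylSq_e8 (F : Type) [Field F] [Fintype F] [CharP F 2] :
    SylSq (Cfsg.Lie.chevE8.group F) := by
  obtain ⟨E⟩ := env_of_facts (F := F) chevE8 (by simp) nTabE8 orbTabE8 nfacts_E8 hnfacts_E8 cfacts_E8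
  have hq2 : 2 ∣ Fintype.card F := two_dvd_card_of_charTwo F
  have hq0 : 0 < Fintype.card F := Fintype.card_pos
  have hX := e8_card_eq (ord_E8 (F := F) (q := Fintype.card F) rfl)
  have e : chevE8.nroots / 2 = 120 := by decide
  refine sylSq_of_env E _ (not_two_dvd_e8 hq2 hq0) ?_
  rw [e]
  exact hX

end Cfsg.Agent.Lib.Helper68.SQ
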