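import Mathlib
import Cfsg.Prelude.Def_GeometricClasses
import Cfsg.Prelude.Def_ClassicalGeometry
import Cfsg.Agent.Lib.Helper38.SpF.Defs

/-!
# K-SpF-OI (keystone 597511, S5975, architect helper38)

Obstruction for involutions: `y ∈ Sp ∩ N(K)`, `y² = 1`, `dim ker (y + 1) = 2`, `K` of S-type
force `d = 2` and `k = 2`.
-/

set_option autoImplicit false

namespace Cfsg.Agent.Lib.Helper68.SpF

open Cfsg Cfsg.Geo Cfsg.Agent.Lib.Helper38.SpF
open scoped Matrix MatrixGroups

variable {F : Type*} [Field F]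

theorem sympForm_add_right' (d : ℕ) (u v w : Fin d ⊕ Fin d → F) :
    sympForm d F u (v + w) = sympForm d F u v + sympForm d F u w := by
  unfold sympForm
  rw [Matrix.mulVec_add, dotProduct_add]

theorem sympForm_smul_right' (d : ℕ) (c : F) (u v : Fin d ⊕ Fin d → F) :
    sympForm d F u (c • v) = c * sympForm d F u v := by
  unfold sympForm
  rw [Matrix.mulVec_smul, dotProduct_smul, smul_eq_mul]

theorem sympForm_neg_left' (d : ℕ) (u v : Fin d ⊕ Fin d → F) :
    sympForm d F (-u) v = - sympForm d F u v := by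
  unfold sympForm
  rw [neg_dotProduct]

theorem sympForm_nondeg' (d : ℕ) (u : Fin d ⊕ Fin d → F)
    (hu : ∀ w, sympForm d F u w = 0) : u = 0 := by
  funext i
  have h := hu (-(Matrix.J (Fin d) F *ᵥ Pi.single i 1))
  unfold sympForm at h
  rw [Matrix.mulVec_neg, Matrix.mulVec_mulVec, Matrix.J_squared, Matrix.neg_mulVec,
    Matrix.one_mulVec, neg_neg, dotProduct_single, mul_one] at h
  exact h

/-- K-SpF-OI (597511). -/
theorem invol_obstruction [Fintype F] (h2 : (2 : F) ≠ 0) (d k : ℕ) (hk : k.Prime)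
    (K : Subalgebra F (Matrix (Fin d ⊕ Fin d) (Fin d ⊕ Fin d) F)) (hS : IsSType d k K)
    (y : GL (Fin d ⊕ Fin d) F) (hy : y ∈ spGL d F) (hyN : y ∈ subalgebraNormalizer K)
    (hy2 : (y : Matrix (Fin d ⊕ Fin d) (Fin d ⊕ Fin d) F) * (y : Matrix (Fin d ⊕ Fin d) (Fin d ⊕ Fin d) F) = 1)
    (hker : Module.finrank F (LinearMap.ker (Matrix.toLin' ((y : Matrix (Fin d ⊕ Fin d) (Fin d ⊕ Fin d) F) + 1))) = 2)
    (hT1 : (∀ a ∈ K, (y : Matrix (Fin d ⊕ Fin d) (Fin d ⊕ Fin d) F) * a = a * (y : Matrix (Fin d ⊕ Fin d) (Fin d ⊕ Fin d) F)) ∨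
      (2 = k ∧ ∀ a ∈ K, (y : Matrix (Fin d ⊕ Fin d) (Fin d ⊕ Fin d) F) * a = a * (y : Matrix (Fin d ⊕ Fin d) (Fin d ⊕ Fin d) F) →
        ∃ c : F, a = c • (1 : Matrix (Fin d ⊕ Fin d) (Fin d ⊕ Fin d) F)))
    (hT3 : ∀ W : Submodule F (Fin d ⊕ Fin d → F), (∀ a ∈ K, ∀ w ∈ W, a *ᵥ w ∈ W) →
      (∀ u ∈ W, (∀ w ∈ W, sympForm d F u w = 0) → u = 0) → 2 * k ∣ Module.finrank F W) :
    d = 2 ∧ k = 2 := by
  classical
  set Y : Matrix (Fin d ⊕ Fin d) (Fin d ⊕ Fin d) F :=
    (y : Matrix (Fin d ⊕ Fin d) (Fin d ⊕ Fin d) F) with hY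
  have hYY : ∀ v, Y *ᵥ (Y *ᵥ v) = v := fun v => by
    rw [Matrix.mulVec_mulVec, hy2, Matrix.one_mulVec]
  have hiso : ∀ u v, sympForm d F (Y *ᵥ u) (Y *ᵥ v) = sympForm d F u v := fun u v => hy u v
  have memA : ∀ v, v ∈ LinearMap.ker (Matrix.toLin' (Y + 1)) ↔ Y *ᵥ v = -v := by
    intro v
    rw [LinearMap.mem_ker, Matrix.toLin'_apply, Matrix.add_mulVec, Matrix.one_mulVec]
    exact add_eq_zero_iff_eq_neg
  have memB : ∀ v, v ∈ LinearMap.ker (Matrix.toLin' (Y - 1)) ↔ Y *ᵥ v = v := by
    intro v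
    rw [LinearMap.mem_ker, Matrix.toLin'_apply, Matrix.sub_mulVec, Matrix.one_mulVec]
    exact sub_eq_zero
  rcases hT1 with hcomm | ⟨hk2, hsc⟩
  · -- (a) `y` centralises `K`: `ker (y + 1)` is `K`-invariant and nondegenerate
    exfalso
    have hdvd := hT3 (LinearMap.ker (Matrix.toLin' (Y + 1))) (by
      intro a ha w hw
      rw [memA] at hw ⊢
      rw [Matrix.mulVec_mulVec, hcomm a ha, ← Matrix.mulVec_mulVec, hw, Matrix.mulVec_neg]) (by
      intro u hu huW
      rw [memA] at hu
      apply sympForm_nondeg' d u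
      intro v
      -- `v = v₊ + v₋`
      have hvm : v - Y *ᵥ v ∈ LinearMap.ker (Matrix.toLin' (Y + 1)) := by
        rw [memA, Matrix.mulVec_sub, hYY]
        abel
      have h1 : sympForm d F u (v - Y *ᵥ v) = 0 := huW _ hvm
      have h3 : sympForm d F u (v + Y *ᵥ v) = 0 := by
        have e : sympForm d F (Y *ᵥ u) (Y *ᵥ (v + Y *ᵥ v)) = sympForm d F u (v + Y *ᵥ v) :=
          hiso _ _
        rw [hu, Matrix.mulVec_add, hYY, sympForm_neg_left', add_comm (Y *ᵥ v) v] at e
        have e2 : (2 : F) * sympForm d F u (v + Y *ᵥ v) = 0 := by linear_combination -e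
        rcases mul_eq_zero.1 e2 with h | h
        · exact absurd h h2
        · exact h
      have h4 : sympForm d F u ((2 : F) • v) = 0 := by
        have : (2 : F) • v = (v - Y *ᵥ v) + (v + Y *ᵥ v) := by
          rw [two_smul]; abel
        rw [this, sympForm_add_right', h1, h3, add_zero]
      rw [sympForm_smul_right'] at h4
      rcases mul_eq_zero.1 h4 with h | h
      · exact absurd h h2
      · exact h)
    rw [hker] at hdvd
    have := Nat.le_of_dvd (by norm_num) hdvd
    have := hk.two_le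
    omega
  · -- (b) `k = 2`, only scalars of `K` commute with `y`
    have hkk : k = 2 := hk2.symm
    refine ⟨?_, hkk⟩
    have hfr : Module.finrank F ↥K = 2 := by rw [hS.field.finrank_eq, hkk]
    -- a non-scalar element
    have hθ : ∃ θ ∈ K, ∀ c : F, θ ≠ c • (1 : Matrix (Fin d ⊕ Fin d) (Fin d ⊕ Fin d) F) := by
      by_contra hcon
      simp only [not_exists, not_and, not_forall, not_not] at hcon
      have hle : Module.finrank F ↥K ≤ 1 := by
        apply finrank_le_one (1 : ↥K)
        intro w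
        obtain ⟨c, hc⟩ := hcon (w : Matrix (Fin d ⊕ Fin d) (Fin d ⊕ Fin d) F) w.2
        refine ⟨c, ?_⟩
        apply Subtype.ext
        rw [hc]
        rfl
      omega
    obtain ⟨θ, hθK, hθns⟩ := hθ
    -- `y⁻¹ = y`
    have hyinv : y⁻¹ = y := by
      apply inv_eq_of_mul_eq_one_right
      apply Units.ext
      rw [Units.val_mul]
      exact hy2
    have hθ' : Y * θ * Y ∈ K := by
      have := (hyN θ).1 hθK
      rwa [hyinv] at this
    set ω : Matrix (Fin d ⊕ Fin d) (Fin d ⊕ Fin d) F := θ - Y * θ * Y with hω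
    have hωK : ω ∈ K := K.sub_mem hθK hθ'
    have hYω : Y * ω = - (ω * Y) := by
      rw [hω, Matrix.mul_sub, Matrix.sub_mul]
      have e1 : Y * (Y * θ * Y) = θ * Y := by
        rw [← Matrix.mul_assoc, ← Matrix.mul_assoc, hy2, Matrix.one_mul]
      have e2 : Y * θ * Y * Y = Y * θ := by
        rw [Matrix.mul_assoc, hy2, Matrix.mul_one]
      rw [e1, e2]
      abel
    have hω0 : ω ≠ 0 := by
      intro h0
      have hθeq : θ = Y * θ * Y := sub_eq_zero.1 (hω ▸ h0)
      have hc : Y * θ = θ * Y := by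
        calc Y * θ = Y * (Y * θ * Y) := by rw [← hθeq]
          _ = θ * Y := by rw [← Matrix.mul_assoc, ← Matrix.mul_assoc, hy2, Matrix.one_mul]
      obtain ⟨c, hc'⟩ := hsc θ hθK hc
      exact hθns c hc'
    obtain ⟨ω', hω'K, hωω'⟩ := hS.field.inv ω hωK hω0
    have hω'ω : ω' * ω = 1 := by rw [hS.field.comm ω' hω'K ω hωK]; exact hωω'
    have hinj : Function.Injective (Matrix.toLin' ω) := by
      intro v v' hvv'
      rw [Matrix.toLin'_apply, Matrix.toLin'_apply] at hvv'
      have := congrArg (fun z => ω' *ᵥ z) hvv'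
      simp only [Matrix.mulVec_mulVec, hω'ω, Matrix.one_mulVec] at this
      exact this
    -- `ω` swaps the eigenspaces
    have hAB : (LinearMap.ker (Matrix.toLin' (Y + 1))).map (Matrix.toLin' ω) ≤
        LinearMap.ker (Matrix.toLin' (Y - 1)) := by
      rintro _ ⟨v, hv, rfl⟩
      rw [SetLike.mem_coe, memA] at hv
      rw [memB, Matrix.toLin'_apply, Matrix.mulVec_mulVec, hYω, Matrix.neg_mulVec,
        ← Matrix.mulVec_mulVec, hv, Matrix.mulVec_neg, neg_neg]
    have hBA : (LinearMap.ker (Matrix.toLin' (Y - 1))).map (Matrix.toLin' ω) ≤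
        LinearMap.ker (Matrix.toLin' (Y + 1)) := by
      rintro _ ⟨v, hv, rfl⟩
      rw [SetLike.mem_coe, memB] at hv
      rw [memA, Matrix.toLin'_apply, Matrix.mulVec_mulVec, hYω, Matrix.neg_mulVec,
        ← Matrix.mulVec_mulVec, hv]
    have hfA : Module.finrank F ((LinearMap.ker (Matrix.toLin' (Y + 1))).map (Matrix.toLin' ω)) =
        Module.finrank F (LinearMap.ker (Matrix.toLin' (Y + 1))) :=
      (LinearEquiv.finrank_eq (Submodule.equivMapOfInjective _ hinj _)).symm
    have hfB : Module.finrank F ((LinearMap.ker (Matrix.toLin' (Y - 1))).map (Matrix.toLin' ω)) =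
        Module.finrank F (LinearMap.ker (Matrix.toLin' (Y - 1))) :=
      (LinearEquiv.finrank_eq (Submodule.equivMapOfInjective _ hinj _)).symm
    have hle1 := Submodule.finrank_mono hAB
    have hle2 := Submodule.finrank_mono hBA
    rw [hfA] at hle1
    rw [hfB] at hle2
    -- the eigenspaces are complementary
    have hcompl : IsCompl (LinearMap.ker (Matrix.toLin' (Y + 1)))
        (LinearMap.ker (Matrix.toLin' (Y - 1))) := by
      constructor
      · rw [Submodule.disjoint_def]
        intro v hvA hvB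
        rw [memA] at hvA
        rw [memB] at hvB
        have h : (2 : F) • v = 0 := by
          rw [two_smul]
          nth_rewrite 1 [← hvB]
          rw [hvA]
          exact neg_add_cancel v
        rcases smul_eq_zero.1 h with h | h
        · exact absurd h h2
        · exact h
      · rw [codisjoint_iff, eq_top_iff]
        intro v _
        have hvm : v - Y *ᵥ v ∈ LinearMap.ker (Matrix.toLin' (Y + 1)) := by
          rw [memA, Matrix.mulVec_sub, hYY]
          abel
        have hvp : v + Y *ᵥ v ∈ LinearMap.ker (Matrix.toLin' (Y - 1)) := by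
          rw [memB, Matrix.mulVec_add, hYY]
          abel
        have : v = (2 : F)⁻¹ • (v - Y *ᵥ v) + (2 : F)⁻¹ • (v + Y *ᵥ v) := by
          rw [← smul_add]
          have : (v - Y *ᵥ v) + (v + Y *ᵥ v) = (2 : F) • v := by rw [two_smul]; abel
          rw [this, smul_smul, inv_mul_cancel₀ h2, one_smul]
        rw [this]
        exact Submodule.add_mem_sup (Submodule.smul_mem _ _ hvm) (Submodule.smul_mem _ _ hvp)
    have hsum := Submodule.finrank_add_eq_of_isCompl hcompl
    rw [Module.finrank_pi, Fintype.card_sum, Fintype.card_fin] at hsum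
    omega

end Cfsg.Agent.Lib.Helper68.SpF
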