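import Mathlib
import Cfsg.Prelude.Def_GeometricClasses
import Cfsg.Agent.Lib.Helper50.GeoBridge

/-!
# K-OPlus10-X9b, part A (helper68): basic lemmas (hyperbolic planes, the field with three elements)
-/

set_option autoImplicit false
set_option linter.unusedSectionVars false

namespace Cfsg.Agent.Lib.Helper68.OPlus10

open Cfsg Cfsg.Geo Cfsg.Agent.Lib.Helper50
open scoped Matrix MatrixGroups
open QuadraticMap

variable {F : Type*} [Field F] {ι : Type} [Fintype ι] [DecidableEq ι]

/-- the polar form as a Mathlib bilinear form -/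
noncomputable def polB (Q : (ι → F) → F) (hQ : IsNondegenerateQuadraticForm Q) :
    LinearMap.BilinForm F (ι → F) := (geoForm Q hQ).polarBilin

theorem polB_apply (Q : (ι → F) → F) (hQ : IsNondegenerateQuadraticForm Q) (x y : ι → F) :
    polB Q hQ x y = polar Q x y := rfl

theorem polB_comm (Q : (ι → F) → F) (hQ : IsNondegenerateQuadraticForm Q) (x y : ι → F) :
    polB Q hQ x y = polB Q hQ y x := by
  rw [polB_apply, polB_apply, polar_comm]

theorem polB_self (Q : (ι → F) → F) (hQ : IsNondegenerateQuadraticForm Q) (x : ι → F) :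
    polB Q hQ x x = 2 * Q x := by
  rw [polB_apply]
  have := QuadraticMap.polar_self (geoForm Q hQ) x
  rw [geoForm_coe] at this
  rw [this, two_smul, two_mul]

theorem Q_add (Q : (ι → F) → F) (hQ : IsNondegenerateQuadraticForm Q) (x y : ι → F) :
    Q (x + y) = Q x + Q y + polB Q hQ x y := by
  rw [polB_apply]
  unfold polar
  ring

theorem Q_smul (Q : (ι → F) → F) (hQ : IsNondegenerateQuadraticForm Q) (a : F) (x : ι → F) :
    Q (a • x) = a ^ 2 * Q x := hQ.smul a x

/-- a non-degenerate subspace containing a non-zero singular vector contains orthogonal vectors of norms `1` and `-1` -/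
theorem exists_pm_pair (Q : (ι → F) → F) (hQ : IsNondegenerateQuadraticForm Q) (W : Submodule F (ι → F))
    (hW : IsNondegenerateOn (polar Q) W) (e : ι → F) (heW : e ∈ W) (he0 : e ≠ 0) (hQe : Q e = 0) :
    ∃ u ∈ W, ∃ v ∈ W, Q u = 1 ∧ Q v = -1 ∧ polB Q hQ u v = 0 := by
  obtain ⟨⟨x, hxW, hx⟩, -⟩ := hW e heW he0
  rw [← polB_apply Q hQ] at hx
  set c := polB Q hQ x e with hc
  set x₁ := c⁻¹ • x with hx₁
  have hx₁W : x₁ ∈ W := W.smul_mem _ hxW
  have h1 : polB Q hQ x₁ e = 1 := by
    rw [hx₁, map_smul, LinearMap.smul_apply, smul_eq_mul, ← hc, inv_mul_cancel₀ hx]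
  have hee : polB Q hQ e e = 0 := by rw [polB_self, hQe, mul_zero]
  have h1' : polB Q hQ e x₁ = 1 := by rw [polB_comm, h1]
  set s := Q x₁ with hs
  have hss : polB Q hQ x₁ x₁ = 2 * s := polB_self Q hQ x₁
  have key : ∀ a : F, Q (x₁ + a • e) = s + a := by
    intro a
    have hQae : Q (a • e) = 0 := by rw [Q_smul Q hQ, hQe, mul_zero]
    have hp : polB Q hQ x₁ (a • e) = a := by rw [map_smul, smul_eq_mul, h1, mul_one]
    rw [Q_add Q hQ, hQae, hp, add_zero]
  refine ⟨x₁ + (1 - s) • e, W.add_mem hx₁W (W.smul_mem _ heW), x₁ + (-1 - s) • e,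
    W.add_mem hx₁W (W.smul_mem _ heW), ?_, ?_, ?_⟩
  · rw [key]; ring
  · rw [key]; ring
  · simp only [map_add, map_smul, LinearMap.add_apply, LinearMap.smul_apply, smul_eq_mul, h1, h1', hee, hss]
    ring

section three

variable [Fintype F]

theorem three_eq_zero (hq : Fintype.card F = 3) : (3 : F) = 0 := by
  have := FiniteField.cast_card_eq_zero F
  rw [hq] at this
  exact_mod_cast this

theorem two_ne_zero_of_three (hq : Fintype.card F = 3) : (2 : F) ≠ 0 := by
  intro h2
  have h3 := three_eq_zero hq
  have : (1 : F) = 0 := by linear_combination h3 - h2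
  exact one_ne_zero this

theorem sq_eq_one_of_three (hq : Fintype.card F = 3) {a : F} (ha : a ≠ 0) : a ^ 2 = 1 := by
  have := FiniteField.pow_card_sub_one_eq_one a ha
  rwa [hq] at this

/-- in the field with three elements `a² - b² = 1` forces `b = 0` -/
theorem eq_zero_of_sq_sub_sq (hq : Fintype.card F = 3) {a b : F} (h : a ^ 2 - b ^ 2 = 1) : b = 0 := by
  by_contra hb
  have hb2 := sq_eq_one_of_three hq hb
  have h3 := three_eq_zero hq
  have h2 := two_ne_zero_of_three hq
  rw [hb2] at h
  by_cases ha : a = 0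
  · rw [ha, zero_pow two_ne_zero] at h
    apply h2
    linear_combination (-1 : F) * h
  · rw [sq_eq_one_of_three hq ha] at h
    apply one_ne_zero (α := F)
    linear_combination (-1 : F) * h

/-- `-1` is not a square in the field with three elements -/
theorem sq_ne_neg_one_of_three (hq : Fintype.card F = 3) (x : F) : x ^ 2 ≠ -1 := by
  intro h
  have h3 := three_eq_zero hq
  have h2 := two_ne_zero_of_three hq
  by_cases hx : x = 0
  · rw [hx, zero_pow two_ne_zero] at h
    apply one_ne_zero (α := F)
    linear_combination h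
  · rw [sq_eq_one_of_three hq hx] at h
    apply h2
    linear_combination h

end three

end Cfsg.Agent.Lib.Helper68.OPlus10
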