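import Mathlib
import Cfsg.Prelude.Def_GeometricClasses
import Cfsg.Agent.Lib.Helper50.GeoBridge
import Cfsg.Agent.Lib.Helper68.OPlus10X9bA

/-!
# K-OPlus10-X9b (helper68): an odd number of hyperbolic planes over the field with three elements
-/

set_option autoImplicit false
set_option linter.unusedSectionVars false
set_option linter.unusedVariables false

namespace Cfsg.Agent.Lib.Helper68.OPlus10

open Cfsg Cfsg.Geo Cfsg.Agent.Lib.Helper50
open scoped Matrix MatrixGroups
open QuadraticMap

variable {F : Type*} [Field F] [Fintype F] {n : ℕ}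

/-- every plane of plus type contains orthogonal vectors of norms `1` and `-1` -/
theorem exists_frame (Q : (Fin n → F) → F) (hQ : IsNondegenerateQuadraticForm Q) {t : ℕ}
    (D : Fin t → Submodule F (Fin n → F)) (hD : IsNondegenerateMDecomposition (polar Q) 2 D)
    (hplus : ∀ i, IsPlusTypeOn Q (D i)) :
    ∃ u v : Fin t → (Fin n → F), (∀ i, u i ∈ D i) ∧ (∀ i, v i ∈ D i) ∧ (∀ i, Q (u i) = 1) ∧
      (∀ i, Q (v i) = -1) ∧ (∀ i, polB Q hQ (u i) (v i) = 0) := by
  have h : ∀ i, ∃ u ∈ D i, ∃ v ∈ D i, Q u = 1 ∧ Q v = -1 ∧ polB Q hQ u v = 0 := by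
    intro i
    obtain ⟨U, hUD, hUs, hUr⟩ := hplus i
    rw [hD.decomp.finrank_eq i] at hUr
    have hU1 : Module.finrank F U = 1 := by omega
    have hUb : U ≠ ⊥ := by
      intro hb
      rw [hb, finrank_bot] at hU1
      exact zero_ne_one hU1
    obtain ⟨e, heU, he0⟩ := Submodule.exists_mem_ne_zero_of_ne_bot hUb
    exact exists_pm_pair Q hQ (D i) (hD.nondegenerate i) e (hUD heU) he0 (hUs e heU)
  choose u hu v hv h1 h2 h3 using h
  exact ⟨u, v, hu, hv, h1, h2, h3⟩

section frame

variable (Q : (Fin n → F) → F) (hQ : IsNondegenerateQuadraticForm Q) {t : ℕ}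
  (D : Fin t → Submodule F (Fin n → F)) (hD : IsNondegenerateMDecomposition (polar Q) 2 D)
  (u v : Fin t → (Fin n → F)) (hu : ∀ i, u i ∈ D i) (hv : ∀ i, v i ∈ D i) (hQu : ∀ i, Q (u i) = 1)
  (hQv : ∀ i, Q (v i) = -1) (huv : ∀ i, polB Q hQ (u i) (v i) = 0)

include hD hu hv huv in
theorem frame_ortho : ∀ k l : Fin t ⊕ Fin t, k ≠ l →
    polB Q hQ (Sum.elim u v k) (Sum.elim u v l) = 0 := by
  have ho : ∀ i j, i ≠ j → ∀ x ∈ D i, ∀ y ∈ D j, polB Q hQ x y = 0 := fun i j hij x hx y hy =>
    hD.orthogonal i j hij x hx y hy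
  rintro (i | i) (j | j) hkl
  · exact ho i j (fun h => hkl (by rw [h])) _ (hu i) _ (hu j)
  · by_cases hij : i = j
    · subst hij
      exact huv i
    · exact ho i j hij _ (hu i) _ (hv j)
  · by_cases hij : i = j
    · subst hij
      show polB Q hQ (v i) (u i) = 0
      rw [polB_comm]
      exact huv i
    · exact ho i j hij _ (hv i) _ (hu j)
  · exact ho i j (fun h => hkl (by rw [h])) _ (hv i) _ (hv j)

include hQu hQv in
theorem frame_self (h2 : (2 : F) ≠ 0) (k : Fin t ⊕ Fin t) :
    polB Q hQ (Sum.elim u v k) (Sum.elim u v k) ≠ 0 := by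
  rw [polB_self]
  rcases k with i | i
  · show 2 * Q (u i) ≠ 0
    rw [hQu, mul_one]
    exact h2
  · show 2 * Q (v i) ≠ 0
    rw [hQv, mul_neg, mul_one]
    exact neg_ne_zero.mpr h2

include hD hu hv huv hQu hQv in
theorem frame_li (h2 : (2 : F) ≠ 0) : LinearIndependent F (Sum.elim u v) := by
  apply LinearMap.BilinForm.linearIndependent_of_iIsOrtho (B := polB Q hQ)
  · rw [LinearMap.BilinForm.iIsOrtho_def]
    exact frame_ortho Q hQ D hD u v hu hv huv
  · intro k
    exact frame_self Q hQ u v hQu hQv h2 k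

include hu hv huv hQu hQv hD in
theorem D_eq_span (h2 : (2 : F) ≠ 0) (i : Fin t) : D i = Submodule.span F {u i, v i} := by
  have hli : LinearIndependent F ![u i, v i] := by
    rw [LinearIndependent.pair_iff]
    intro a b hab
    have h1 : polB Q hQ (u i) (a • u i + b • v i) = 0 := by rw [hab, map_zero]
    have h2' : polB Q hQ (v i) (a • u i + b • v i) = 0 := by rw [hab, map_zero]
    rw [map_add, map_smul, map_smul, smul_eq_mul, smul_eq_mul, huv i, polB_self, hQu] at h1
    rw [map_add, map_smul, map_smul, smul_eq_mul, smul_eq_mul, polB_comm Q hQ (v i) (u i), huv i,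
      polB_self, hQv] at h2'
    constructor
    · have : a * 2 = 0 := by linear_combination h1
      exact (mul_eq_zero.mp this).resolve_right h2
    · have : b * 2 = 0 := by linear_combination -h2'
      exact (mul_eq_zero.mp this).resolve_right h2
  have hfr : Module.finrank F (Submodule.span F (Set.range ![u i, v i])) = 2 := by
    rw [finrank_span_eq_card hli, Fintype.card_fin]
  have hrange : Set.range ![u i, v i] = {u i, v i} := by
    simp [Matrix.range_cons, Matrix.range_empty, Set.pair_comm]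
  symm
  apply Submodule.eq_of_le_of_finrank_eq
  · rw [Submodule.span_le]
    rintro x (rfl | rfl)
    · exact hu i
    · exact hv i
  · rw [← hrange, hfr, hD.decomp.finrank_eq]

include huv hQu hQv in
theorem Q_comb (i : Fin t) (a b : F) : Q (a • u i + b • v i) = a ^ 2 - b ^ 2 := by
  have hp : polB Q hQ (a • u i) (b • v i) = 0 := by
    rw [map_smul, map_smul, LinearMap.smul_apply, huv i, smul_zero, smul_zero]
  rw [Q_add Q hQ, Q_smul Q hQ, Q_smul Q hQ, hQu, hQv, hp]
  ring

/-- the span of the vectors of norm `c` lying in some member of the decomposition -/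
def Wc (c : F) : Submodule F (Fin n → F) := Submodule.span F {w | (∃ i, w ∈ D i) ∧ Q w = c}

include hu hv huv hQu hQv hD in
theorem Wc_one (hq : Fintype.card F = 3) : Wc Q D 1 = Submodule.span F (Set.range u) := by
  have h2 := two_ne_zero_of_three hq
  apply le_antisymm
  · rw [Wc, Submodule.span_le]
    rintro w ⟨⟨i, hwi⟩, hw1⟩
    rw [D_eq_span Q hQ D hD u v hu hv hQu hQv huv h2 i, Submodule.mem_span_pair] at hwi
    obtain ⟨a, b, rfl⟩ := hwi
    rw [Q_comb Q hQ u v hQu hQv huv] at hw1
    have hb := eq_zero_of_sq_sub_sq hq hw1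
    rw [hb, zero_smul, add_zero]
    exact Submodule.smul_mem _ _ (Submodule.subset_span ⟨i, rfl⟩)
  · rw [Submodule.span_le]
    rintro _ ⟨i, rfl⟩
    exact Submodule.subset_span ⟨⟨i, hu i⟩, hQu i⟩

include hu hv huv hQu hQv hD in
theorem Wc_neg_one (hq : Fintype.card F = 3) : Wc Q D (-1) = Submodule.span F (Set.range v) := by
  have h2 := two_ne_zero_of_three hq
  apply le_antisymm
  · rw [Wc, Submodule.span_le]
    rintro w ⟨⟨i, hwi⟩, hw1⟩
    rw [D_eq_span Q hQ D hD u v hu hv hQu hQv huv h2 i, Submodule.mem_span_pair] at hwi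
    obtain ⟨a, b, rfl⟩ := hwi
    rw [Q_comb Q hQ u v hQu hQv huv] at hw1
    have hw1' : b ^ 2 - a ^ 2 = 1 := by linear_combination -hw1
    have ha := eq_zero_of_sq_sub_sq hq hw1'
    rw [ha, zero_smul, zero_add]
    exact Submodule.smul_mem _ _ (Submodule.subset_span ⟨i, rfl⟩)
  · rw [Submodule.span_le]
    rintro _ ⟨i, rfl⟩
    exact Submodule.subset_span ⟨⟨i, hv i⟩, hQv i⟩

include hu hv huv hQu hQv hD in
theorem span_sup_eq_top (h2 : (2 : F) ≠ 0) :
    Submodule.span F (Set.range u) ⊔ Submodule.span F (Set.range v) = ⊤ := by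
  rw [eq_top_iff, ← hD.decomp.iSup_eq_top, iSup_le_iff]
  intro i
  rw [D_eq_span Q hQ D hD u v hu hv hQu hQv huv h2 i, Submodule.span_le]
  rintro x (rfl | rfl)
  · exact Submodule.mem_sup_left (Submodule.subset_span ⟨i, rfl⟩)
  · exact Submodule.mem_sup_right (Submodule.subset_span ⟨i, rfl⟩)

end frame

section ortho

variable (Q : (Fin n → F) → F) (hQ : IsNondegenerateQuadraticForm Q) {t : ℕ}
  (z : Fin t → (Fin n → F)) (d : F) (hz : ∀ i j, i ≠ j → polB Q hQ (z i) (z j) = 0)
  (hd : ∀ i, polB Q hQ (z i) (z i) = d)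

include hz hd in
theorem polB_single_sum (k : Fin t) (a : Fin t → F) :
    polB Q hQ (z k) (∑ i, a i • z i) = d * a k := by
  rw [map_sum, Finset.sum_eq_single k]
  · rw [map_smul, smul_eq_mul, hd, mul_comm]
  · intro j _ hjk
    rw [map_smul, hz k j (Ne.symm hjk), smul_zero]
  · intro h
    exact absurd (Finset.mem_univ k) h

include hz hd in
theorem polB_sum_sum (a b : Fin t → F) :
    polB Q hQ (∑ i, a i • z i) (∑ j, b j • z j) = d * ∑ i, a i * b i := by
  rw [map_sum (polB Q hQ), LinearMap.sum_apply, Finset.mul_sum]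
  apply Finset.sum_congr rfl
  intro i _
  rw [map_smul, LinearMap.smul_apply, polB_single_sum Q hQ z d hz hd i b, smul_eq_mul]
  ring

include hz hd in
theorem nondeg_span (hd0 : d ≠ 0) :
    IsNondegenerateOn (polar Q) (Submodule.span F (Set.range z)) := by
  intro w hw hw0
  obtain ⟨a, rfl⟩ := (Submodule.mem_span_range_iff_exists_fun F).mp hw
  have hex : ∃ k, a k ≠ 0 := by
    by_contra hne
    simp only [not_exists, not_not] at hne
    apply hw0
    apply Finset.sum_eq_zero
    intro i _
    rw [hne i, zero_smul]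
  obtain ⟨k, hk⟩ := hex
  have hkey := polB_single_sum Q hQ z d hz hd k a
  have hzk : z k ∈ Submodule.span F (Set.range z) := Submodule.subset_span ⟨k, rfl⟩
  refine ⟨⟨z k, hzk, ?_⟩, ⟨z k, hzk, ?_⟩⟩
  · rw [← polB_apply Q hQ, hkey]
    exact mul_ne_zero hd0 hk
  · rw [← polB_apply Q hQ, polB_comm, hkey]
    exact mul_ne_zero hd0 hk

theorem ortho_span {s s' : Set (Fin n → F)} (h : ∀ x ∈ s, ∀ y ∈ s', polB Q hQ x y = 0) :
    ∀ x ∈ Submodule.span F s, ∀ y ∈ Submodule.span F s', polB Q hQ x y = 0 := by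
  intro x hx y hy
  induction hx using Submodule.span_induction with
  | mem x hx =>
    induction hy using Submodule.span_induction with
    | mem y hy => exact h x hx y hy
    | zero => rw [map_zero]
    | add y z _ _ hy hz => rw [map_add, hy, hz, add_zero]
    | smul a y _ hy => rw [map_smul, hy, smul_zero]
  | zero => rw [map_zero, LinearMap.zero_apply]
  | add x z _ _ hx hz => rw [map_add, LinearMap.add_apply, hx, hz, add_zero]
  | smul a x _ hx => rw [map_smul, LinearMap.smul_apply, hx, smul_zero]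

end ortho

section frame2

variable (Q : (Fin n → F) → F) (hQ : IsNondegenerateQuadraticForm Q) {t : ℕ}
  (D : Fin t → Submodule F (Fin n → F)) (hD : IsNondegenerateMDecomposition (polar Q) 2 D)
  (u v : Fin t → (Fin n → F)) (hu : ∀ i, u i ∈ D i) (hv : ∀ i, v i ∈ D i) (hQu : ∀ i, Q (u i) = 1)
  (hQv : ∀ i, Q (v i) = -1) (huv : ∀ i, polB Q hQ (u i) (v i) = 0)

include hD hu hv huv in
theorem u_ortho (i j : Fin t) (hij : i ≠ j) : polB Q hQ (u i) (u j) = 0 :=
  frame_ortho Q hQ D hD u v hu hv huv (Sum.inl i) (Sum.inl j) (fun h => hij (Sum.inl.inj h))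

include hD hu hv huv in
theorem v_ortho (i j : Fin t) (hij : i ≠ j) : polB Q hQ (v i) (v j) = 0 :=
  frame_ortho Q hQ D hD u v hu hv huv (Sum.inr i) (Sum.inr j) (fun h => hij (Sum.inr.inj h))

include hD hu hv huv in
theorem uv_ortho (i j : Fin t) : polB Q hQ (u i) (v j) = 0 :=
  frame_ortho Q hQ D hD u v hu hv huv (Sum.inl i) (Sum.inr j) (fun h => Sum.inl_ne_inr h)

include hQu in
theorem u_self (i : Fin t) : polB Q hQ (u i) (u i) = 2 := by
  rw [polB_self, hQu, mul_one]

include hQv in
theorem v_self (i : Fin t) : polB Q hQ (v i) (v i) = -2 := by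
  rw [polB_self, hQv, mul_neg, mul_one]

include hD hu hv huv hQu hQv in
theorem pair_decomposition (ht : Odd t) (h2 : (2 : F) ≠ 0) :
    IsNondegenerateMDecomposition (polar Q) t
      ![Submodule.span F (Set.range u), Submodule.span F (Set.range v)] := by
  have hli := frame_li Q hQ D hD u v hu hv hQu hQv huv h2
  obtain ⟨hliu, hliv, hdisj⟩ := linearIndependent_sum.mp hli
  have hliu' : LinearIndependent F u := hliu
  have hliv' : LinearIndependent F v := hliv
  have hdisj' : Disjoint (Submodule.span F (Set.range u)) (Submodule.span F (Set.range v)) := hdisj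
  refine ⟨⟨le_refl 2, ht.pos, ?_, ?_, ?_⟩, ?_, ?_⟩
  · refine Fin.forall_fin_two.mpr ⟨?_, ?_⟩
    · show Module.finrank F (Submodule.span F (Set.range u)) = t
      rw [finrank_span_eq_card hliu', Fintype.card_fin]
    · show Module.finrank F (Submodule.span F (Set.range v)) = t
      rw [finrank_span_eq_card hliv', Fintype.card_fin]
  · exact (iSupIndep_pair (i := (0 : Fin 2)) (j := 1) (by decide) (by decide)).mpr hdisj'
  · rw [eq_top_iff, ← span_sup_eq_top Q hQ D hD u v hu hv hQu hQv huv h2]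
    exact sup_le (le_iSup ![Submodule.span F (Set.range u), Submodule.span F (Set.range v)] 0)
      (le_iSup ![Submodule.span F (Set.range u), Submodule.span F (Set.range v)] 1)
  · refine Fin.forall_fin_two.mpr ⟨?_, ?_⟩
    · exact nondeg_span Q hQ u 2 (u_ortho Q hQ D hD u v hu hv huv) (u_self Q hQ u hQu) h2
    · exact nondeg_span Q hQ v (-2) (v_ortho Q hQ D hD u v hu hv huv) (v_self Q hQ v hQv)
        (neg_ne_zero.mpr h2)
  · have h01 : ∀ x ∈ Submodule.span F (Set.range u), ∀ y ∈ Submodule.span F (Set.range v),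
        polB Q hQ x y = 0 := by
      apply ortho_span
      rintro _ ⟨i, rfl⟩ _ ⟨j, rfl⟩
      exact uv_ortho Q hQ D hD u v hu hv huv i j
    intro i j hij
    fin_cases i <;> fin_cases j
    · exact absurd rfl hij
    · exact fun x hx y hy => h01 x hx y hy
    · intro x hx y hy
      show polB Q hQ x y = 0
      rw [polB_comm]
      exact h01 y hy x hx
    · exact absurd rfl hij

include hD hu hv huv hQu hQv in
theorem not_isometric (hq : Fintype.card F = 3) (ht : Odd t) :
    ¬ AreIsometricFor Q (Submodule.span F (Set.range u)) (Submodule.span F (Set.range v)) := by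
  rintro ⟨e, he⟩
  have h2 := two_ne_zero_of_three hq
  have hpol : ∀ x y : Submodule.span F (Set.range u),
      polB Q hQ ((e x : Submodule.span F (Set.range v)) : Fin n → F) (e y) =
        polB Q hQ (x : Fin n → F) y := by
    intro x y
    rw [polB_apply, polB_apply]
    unfold polar
    have := he (x + y)
    rw [map_add, Submodule.coe_add, Submodule.coe_add] at this
    rw [this, he x, he y]
  have hc : ∀ j, ∃ c : Fin t → F, ∑ i, c i • v i =
      ((e ⟨u j, Submodule.subset_span ⟨j, rfl⟩⟩ : Submodule.span F (Set.range v)) : Fin n → F) :=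
    fun j => (Submodule.mem_span_range_iff_exists_fun F).mp (e _).2
  choose c hc using hc
  have hgram : ∀ j k, (-2 : F) * ∑ i, c j i * c k i = if j = k then 2 else 0 := by
    intro j k
    rw [← polB_sum_sum Q hQ v (-2) (v_ortho Q hQ D hD u v hu hv huv) (v_self Q hQ v hQv) (c j) (c k),
      hc j, hc k, hpol]
    show polB Q hQ (u j) (u k) = _
    split_ifs with hjk
    · subst hjk
      exact u_self Q hQ u hQu j
    · exact u_ortho Q hQ D hD u v hu hv huv j k hjk
  have hM : Matrix.of c * (Matrix.of c)ᵀ = -1 := by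
    ext j k
    rw [Matrix.mul_apply, Matrix.neg_apply, Matrix.one_apply]
    have := hgram j k
    simp only [Matrix.of_apply, Matrix.transpose_apply]
    split_ifs at this ⊢ with hjk
    · apply mul_left_cancel₀ h2
      linear_combination -this
    · apply mul_left_cancel₀ h2
      linear_combination -this
  have hdet := congrArg Matrix.det hM
  rw [Matrix.det_mul, Matrix.det_transpose, Matrix.det_neg, Matrix.det_one, Fintype.card_fin,
    ht.neg_one_pow, mul_one] at hdet
  exact sq_ne_neg_one_of_three hq (Matrix.det (Matrix.of c)) (by rw [pow_two]; exact hdet)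

end frame2

section invariance

variable (Q : (Fin n → F) → F) {t : ℕ} (D : Fin t → Submodule F (Fin n → F))

theorem map_Wc_le (c : F) (g : GL (Fin n) F)
    (hg : g ∈ decompositionStabilizer D ⊓ isometryGroup F Q) :
    (Wc Q D c).map (Matrix.toLin' (g : Matrix (Fin n) (Fin n) F)) ≤ Wc Q D c := by
  obtain ⟨⟨σ, hσ⟩, hgQ⟩ := hg
  rw [Wc, Submodule.map_span, Submodule.span_le]
  rintro _ ⟨w, ⟨⟨i, hwi⟩, hwc⟩, rfl⟩
  apply Submodule.subset_span
  refine ⟨⟨σ i, ?_⟩, ?_⟩
  · rw [← hσ i]
    exact Submodule.mem_map_of_mem hwi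
  · rw [Matrix.toLin'_apply, ← hwc]
    exact hgQ w w

theorem map_Wc_eq (c : F) (g : GL (Fin n) F)
    (hg : g ∈ decompositionStabilizer D ⊓ isometryGroup F Q) :
    (Wc Q D c).map (Matrix.toLin' (g : Matrix (Fin n) (Fin n) F)) = Wc Q D c := by
  apply le_antisymm (map_Wc_le Q D c g hg)
  have h := map_Wc_le Q D c g⁻¹ (inv_mem hg)
  calc Wc Q D c = ((Wc Q D c).map (Matrix.toLin' ((g⁻¹ : GL (Fin n) F) : Matrix (Fin n) (Fin n) F))).map
        (Matrix.toLin' (g : Matrix (Fin n) (Fin n) F)) := by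
        rw [← Submodule.map_comp, ← Matrix.toLin'_mul, ← Units.val_mul, mul_inv_cancel, Units.val_one,
          Matrix.toLin'_one, Submodule.map_id]
    _ ≤ (Wc Q D c).map (Matrix.toLin' (g : Matrix (Fin n) (Fin n) F)) := Submodule.map_mono h

end invariance

/-- **K-OPlus10-X9b** -/
theorem planes_three (hq : Fintype.card F = 3) (Q : (Fin n → F) → F) (hQ : IsNondegenerateQuadraticForm Q)
    {t : ℕ} (ht : Odd t) (D : Fin t → Submodule F (Fin n → F)) (hD : IsOrthogonalMDecomposition Q 2 D)
    (hplus : ∀ i, IsPlusTypeOn Q (D i)) :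
    ∃ D' : Fin 2 → Submodule F (Fin n → F), IsNondegenerateMDecomposition (QuadraticMap.polar Q) t D' ∧
      ¬ AreIsometricFor Q (D' 0) (D' 1) ∧
      decompositionStabilizer D ⊓ isometryGroup F Q ≤ decompositionStabilizer D' := by
  obtain ⟨u, v, hu, hv, hQu, hQv, huv⟩ := exists_frame Q hQ D hD.decomp hplus
  have h2 := two_ne_zero_of_three hq
  have hW1 := Wc_one Q hQ D hD.decomp u v hu hv hQu hQv huv hq
  have hW2 := Wc_neg_one Q hQ D hD.decomp u v hu hv hQu hQv huv hq
  refine ⟨![Wc Q D 1, Wc Q D (-1)], ?_, ?_, ?_⟩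
  · rw [hW1, hW2]
    exact pair_decomposition Q hQ D hD.decomp u v hu hv hQu hQv huv ht h2
  · show ¬ AreIsometricFor Q (Wc Q D 1) (Wc Q D (-1))
    rw [hW1, hW2]
    exact not_isometric Q hQ D hD.decomp u v hu hv hQu hQv huv hq ht
  · intro g hg
    refine ⟨1, Fin.forall_fin_two.mpr ⟨?_, ?_⟩⟩
    · exact map_Wc_eq Q D 1 g hg
    · exact map_Wc_eq Q D (-1) g hg

end Cfsg.Agent.Lib.Helper68.OPlus10
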