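import Cfsg.Agent.Lib.Helper43.UFDefs

set_option autoImplicit false
set_option linter.unusedSimpArgs false
set_option linter.unusedVariables false
set_option linter.unusedSectionVars false

/-! Root sets `RS Q hQ hn M a` of a singular vector `a` in a subgroup `M` of `Ω`: closure
properties (keystone K-UF-RS). -/

namespace Cfsg.Agent.Lib.Helper68.UF

open Module Matrix Cfsg.Agent.Lib.Helper19 Cfsg.Agent.Lib.Helper43 Cfsg.Agent.Lib.Helper43.UF

variable {F : Type*} [Field F] [Fintype F] {ι : Type} [Fintype ι] [DecidableEq ι]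
variable {Q : QuadraticForm F (ι → F)}
variable (hQ : (QuadraticMap.polarBilin Q).Nondegenerate) (hn : 7 ≤ Fintype.card ι)

local notation "ℬ" => QuadraticMap.polarBilin Q

theorem RS_add (M : Subgroup ↥(Cfsg.Omega F ⇑Q)) (a : ι → F) (ha : Q a = 0) {v w : ι → F}
    (hv : v ∈ RS Q hQ hn M a) (hw : w ∈ RS Q hQ hn M a) : v + w ∈ RS Q hQ hn M a := by
  refine ⟨by rw [map_add, hv.1, hw.1, add_zero], fun t => ?_⟩
  rw [smul_add, ← sOf_mul Q hQ hn a _ _ ha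
    (by rw [map_smul, hv.1, smul_zero]) (by rw [map_smul, hw.1, smul_zero])]
  exact M.mul_mem (hv.2 t) (hw.2 t)

theorem RS_smul (M : Subgroup ↥(Cfsg.Omega F ⇑Q)) (a : ι → F) {v : ι → F}
    (hv : v ∈ RS Q hQ hn M a) (c : F) : c • v ∈ RS Q hQ hn M a := by
  refine ⟨by rw [map_smul, hv.1, smul_zero], fun t => ?_⟩
  rw [smul_smul]
  exact hv.2 (t * c)

theorem RS_sub (M : Subgroup ↥(Cfsg.Omega F ⇑Q)) (a : ι → F) (ha : Q a = 0) {v w : ι → F}
    (hv : v ∈ RS Q hQ hn M a) (hw : w ∈ RS Q hQ hn M a) : v - w ∈ RS Q hQ hn M a := by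
  have h := RS_add hQ hn M a ha hv (RS_smul hQ hn M a hw (-1))
  rwa [neg_one_smul, ← sub_eq_add_neg] at h

/-- `siegelLin a (t a) = id` for singular `a`, so `sOf a (t a) = 1` -/
theorem RS_self (M : Subgroup ↥(Cfsg.Omega F ⇑Q)) (a : ι → F) (ha : Q a = 0) :
    a ∈ RS Q hQ hn M a := by
  have haa : ℬ a a = 0 := by rw [polar_self', ha, mul_zero]
  refine ⟨haa, fun t => ?_⟩
  have h1 : sOf Q hQ hn a (t • a) = 1 := by
    apply lo_injective Q
    apply LinearMap.ext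
    intro y
    rw [lo_sOf Q hQ hn a (t • a) ha (by rw [map_smul, haa, smul_zero]), siegelLin_apply,
      lo_one_apply, Q_smul, ha]
    simp only [map_smul, smul_eq_mul, mul_zero, zero_mul, sub_zero]
    module
  rw [h1]
  exact M.one_mem

/-- `k sOf(a, t v) k⁻¹ = sOf(k a, t k v)` (`sOf_conj`) -/
theorem RS_conj (M : Subgroup ↥(Cfsg.Omega F ⇑Q)) (k : ↥(Cfsg.Omega F ⇑Q)) (hk : k ∈ M) (a : ι → F)
    (ha : Q a = 0) {v : ι → F} (hv : v ∈ RS Q hQ hn M a) :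
    lo Q k v ∈ RS Q hQ hn M (lo Q k a) := by
  refine ⟨by rw [lo_polar]; exact hv.1, fun t => ?_⟩
  rw [← map_smul, ← sOf_conj Q hQ hn k a (t • v) ha (by rw [map_smul, hv.1, smul_zero])]
  exact M.mul_mem (M.mul_mem hk (hv.2 t)) (M.inv_mem hk)

theorem RS_fix (M : Subgroup ↥(Cfsg.Omega F ⇑Q)) (k : ↥(Cfsg.Omega F ⇑Q)) (hk : k ∈ M) (a : ι → F)
    (ha : Q a = 0) (hka : lo Q k a = a) {v : ι → F} (hv : v ∈ RS Q hQ hn M a) :
    lo Q k v ∈ RS Q hQ hn M a := by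
  have h := RS_conj hQ hn M k hk a ha hv
  rwa [hka] at h

/-- `sOf_swap` -/
theorem RS_swap (M : Subgroup ↥(Cfsg.Omega F ⇑Q)) (a b : ι → F) (ha : Q a = 0) (hb : Q b = 0)
    (h : b ∈ RS Q hQ hn M a) : a ∈ RS Q hQ hn M b := by
  refine ⟨by rw [polar_symm]; exact h.1, fun t => ?_⟩
  rw [sOf_swap Q hQ hn a b ha hb h.1 t]
  exact h.2 (-t)

theorem siegIn_of_RS (M : Subgroup ↥(Cfsg.Omega F ⇑Q)) (a : ι → F) (ha : Q a = 0)
    (h : ∀ v, ℬ a v = 0 → v ∈ RS Q hQ hn M a) : SiegIn Q hQ hn M a := by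
  rw [SiegIn_iff_sOf Q hQ hn M a ha]
  intro v hv
  have := (h v hv).2 1
  rwa [one_smul] at this

end Cfsg.Agent.Lib.Helper68.UF
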