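import Mathlib
import Cfsg.Prelude.Def_GeometricClasses
import Cfsg.Agent.Lib.Helper61.AschDefs
import Cfsg.Agent.Lib.Helper61.AschUDefs
import Cfsg.Agent.Lib.Helper40.GUConj
import Cfsg.Agent.Lib.Helper41.AschB2

/-!
# K-S5663-B2 (helper68): a normalized adjoint-closed simple subalgebra with centre bigger than `F`
gives the field-extension class of the unitary case, of odd prime degree.
-/

set_option autoImplicit false
set_option linter.style.haveILetI false

namespace Cfsg.Agent.Lib.Helper68.AschU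

open Cfsg Cfsg.Geo Cfsg.Agent.Lib.Helper61.Asch Cfsg.Agent.Lib.Helper40.GUConj
open scoped Matrix MatrixGroups
open Module

/-- An involutive ring endomorphism of a finite field `L ⊇ F`, `|F| = q²`, which acts as `x ↦ x ^ q` on `F`,
forces `[L : F]` to be odd. -/
theorem odd_finrank_of_involution {F L : Type*} [Field F] [Fintype F] [Field L] [Finite L] [Algebra F L]
    {q : ℕ} (hF : Fintype.card F = q ^ 2) (τ : L →+* L) (hτ2 : ∀ x, τ (τ x) = x)
    (hτF : ∀ c : F, τ (algebraMap F L c) = algebraMap F L (c ^ q)) : Odd (finrank F L) := by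
  classical
  haveI := Fintype.ofFinite L
  obtain ⟨φ, hφ, hφφ, θ₀, hθ₀⟩ := exists_frob hF
  obtain ⟨p, hchar⟩ := CharP.exists L
  haveI : Fact p.Prime := ⟨CharP.char_is_prime L p⟩
  letI : Algebra (ZMod p) L := ZMod.algebra L p
  have hcomm : ∀ x : ZMod p, τ (algebraMap (ZMod p) L x) = algebraMap (ZMod p) L x := fun x =>
    RingHom.congr_fun (Subsingleton.elim (τ.comp (algebraMap (ZMod p) L)) (algebraMap (ZMod p) L)) x
  let τa : L →ₐ[ZMod p] L := { τ with commutes' := hcomm }
  obtain ⟨⟨j, hjD⟩, hj⟩ := (FiniteField.bijective_frobeniusAlgHom_pow (ZMod p) L).2 τa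
  simp only at hj
  have hτx : ∀ x : L, τ x = x ^ (p ^ j) := by
    intro x
    have := DFunLike.congr_fun hj x
    rw [AlgHom.coe_pow, FiniteField.coe_frobeniusAlgHom, pow_iterate, ZMod.card] at this
    exact this.symm
  have hsq : FiniteField.frobeniusAlgHom (ZMod p) L ^ (2 * j) = 1 := by
    rw [two_mul, pow_add, hj]
    ext x
    exact hτ2 x
  have hdvd : finrank (ZMod p) L ∣ 2 * j := by
    rw [← FiniteField.orderOf_frobeniusAlgHom (ZMod p) L]
    exact orderOf_dvd_of_pow_eq_one hsq
  have hcardL1 : Fintype.card L = p ^ finrank (ZMod p) L := by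
    rw [Module.card_eq_pow_finrank (K := ZMod p) (V := L), ZMod.card]
  have hcardL2 : Fintype.card L = (q ^ 2) ^ finrank F L := by
    rw [Module.card_eq_pow_finrank (K := F) (V := L), hF]
  by_contra hodd
  rw [Nat.not_odd_iff_even] at hodd
  obtain ⟨e, he⟩ := hodd
  apply hθ₀
  rw [hφ]
  apply (algebraMap F L).injective
  rw [← hτF, hτx]
  rcases Nat.eq_zero_or_pos j with hj0 | hjpos
  · rw [hj0, pow_zero, pow_one]
  · have h2j : 2 * j = finrank (ZMod p) L := by
      obtain ⟨c, hc⟩ := hdvd
      have hc1 : c = 1 := by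
        rcases Nat.lt_or_ge c 2 with h | h
        · interval_cases c
          · omega
          · rfl
        · exfalso
          have : finrank (ZMod p) L * 2 ≤ finrank (ZMod p) L * c := Nat.mul_le_mul_left _ h
          omega
      rw [hc, hc1, mul_one]
    have hpq : p ^ j = q ^ finrank F L := by
      have h2 : (p ^ j) ^ 2 = (q ^ finrank F L) ^ 2 := by
        rw [← pow_mul, mul_comm j 2, h2j, ← hcardL1, hcardL2, ← pow_mul, ← pow_mul, mul_comm]
      exact Nat.pow_left_injective (by norm_num) h2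
    rw [hpq, ← map_pow]
    congr 1
    rw [he, ← two_mul, pow_mul, ← hF, FiniteField.pow_card_pow]

/-- The same for a commutative ring which is a field. -/
theorem odd_finrank_of_involution_of_isField {F L : Type*} [Field F] [Fintype F] [CommRing L]
    (hL : IsField L) [Finite L] [Algebra F L]
    {q : ℕ} (hF : Fintype.card F = q ^ 2) (τ : L →+* L) (hτ2 : ∀ x, τ (τ x) = x)
    (hτF : ∀ c : F, τ (algebraMap F L c) = algebraMap F L (c ^ q)) : Odd (finrank F L) := by
  letI := hL.toField
  exact odd_finrank_of_involution hF τ hτ2 hτF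

variable {F : Type*} [Field F] [Fintype F] {n q : ℕ}

local notation "Mat" => Matrix (Fin n) (Fin n) F
local notation "𝔥" => hermForm n F q

omit [Fintype F] in
/-- The `φ`-conjugate transpose is the adjoint for the standard hermitian form. -/
theorem hermForm_mulVec_left (φ : F →+* F) (hφ : ∀ x, φ x = x ^ q) (hφφ : ∀ x, φ (φ x) = x) (M : Mat)
    (u v : Fin n → F) : 𝔥 (M *ᵥ u) v = 𝔥 u (adj φ M *ᵥ v) := by
  rw [hermForm_eq_dot φ hφ, hermForm_eq_dot φ hφ]
  have h1 : φ ∘ (adj φ M *ᵥ v) = (adj φ M).map φ *ᵥ (φ ∘ v) := by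
    funext i
    rw [Function.comp_apply, RingHom.map_mulVec]
  have h2 : (adj φ M).map φ = Mᵀ := by
    ext i j
    simp [adj, RingHom.mapMatrix_apply, hφφ]
  rw [h1, h2, Matrix.dotProduct_mulVec, Matrix.vecMul_transpose]

omit [Fintype F] in
/-- Uniqueness of the adjoint. -/
theorem adj_unique (φ : F →+* F) (hφ : ∀ x, φ x = x ^ q) (hφφ : ∀ x, φ (φ x) = x) (k k' : Mat)
    (h : ∀ u v : Fin n → F, 𝔥 (k *ᵥ u) v = 𝔥 u (k' *ᵥ v)) : k' = adj φ k := by
  have h1 : ∀ u v : Fin n → F, 𝔥 u (k' *ᵥ v) = 𝔥 u (adj φ k *ᵥ v) := fun u v => by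
    rw [← h, hermForm_mulVec_left φ hφ hφφ]
  have hinj : Function.Injective φ := φ.injective
  have h2 : ∀ v : Fin n → F, k' *ᵥ v = adj φ k *ᵥ v := by
    intro v
    funext j
    have := h1 (Pi.single j 1) v
    rw [hermForm_eq_dot φ hφ, hermForm_eq_dot φ hφ, single_one_dotProduct, single_one_dotProduct] at this
    exact hinj this
  ext a b
  have := congrFun (h2 (Pi.single b 1)) a
  simpa [Matrix.mulVec_single_one] using this

/-- **K-S5663-B2.** -/
theorem uc3_of_center_ne_bot (hF : Fintype.card F = q ^ 2) (K : Subgroup (GL (Fin n) F)) (A : Subalgebra F Mat)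
    [IsSimpleRing A] (hKA : NormAlg K A) (hadj : IsAdjointClosedFor 𝔥 A) (hc : Subalgebra.center F A ≠ ⊥) :
    ∃ (r : ℕ) (E : Subalgebra F Mat), r.Prime ∧ Odd r ∧ IsFieldSubalgebra r E ∧ IsAdjointClosedFor 𝔥 E ∧
      K ≤ subalgebraNormalizer E := by
  classical
  obtain ⟨φ, hφ, hφφ, -⟩ := exists_frob hF
  -- the adjoint of an element of `A` is the conjugate transpose, and lies in `A`
  have hadjA : ∀ k : Mat, k ∈ A → adj φ k ∈ A := by
    intro k hk
    obtain ⟨k', hk', h⟩ := hadj k hk
    rwa [← adj_unique φ hφ hφφ k k' h]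
  -- the centre is a field
  have hL : IsField (Subalgebra.center F A) := by
    have h := IsSimpleRing.isField_center A
    refine ⟨⟨0, 1, zero_ne_one⟩, mul_comm, ?_⟩
    intro a ha
    have ha' : (⟨a.1, a.2⟩ : Subring.center A) ≠ 0 := by
      intro h0
      apply ha
      apply Subtype.ext
      exact congrArg Subtype.val h0
    obtain ⟨b, hb⟩ := h.mul_inv_cancel ha'
    refine ⟨⟨b.1, b.2⟩, ?_⟩
    apply Subtype.ext
    exact congrArg Subtype.val hb
  haveI : Finite (Subalgebra.center F A) :=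
    Finite.of_injective (fun x : Subalgebra.center F A => ((x : A) : Mat))
      (fun x y h => Subtype.ext (Subtype.ext h))
  -- its degree is at least two
  have hd1 : finrank F (Subalgebra.center F A) ≠ 1 := by
    intro h
    apply hc
    rw [eq_bot_iff]
    intro w hw
    have h1 := (finrank_eq_one_iff_of_nonzero' (1 : Subalgebra.center F A) one_ne_zero).1 h ⟨w, hw⟩
    obtain ⟨c, hc'⟩ := h1
    rw [Algebra.mem_bot]
    refine ⟨c, ?_⟩
    have h2 : ((c • (1 : Subalgebra.center F A) : Subalgebra.center F A) : A) = w :=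
      congrArg Subtype.val hc'
    rw [← h2, Algebra.algebraMap_eq_smul_one]
    rfl
  let ι : Subalgebra.center F A →ₐ[F] Mat := A.val.comp (Subalgebra.center F A).val
  have hι : Function.Injective ι := fun x y h => Subtype.ext (Subtype.ext h)
  -- description of the image of the centre
  have hrange : ∀ x : Mat, x ∈ ι.range ↔ x ∈ A ∧ ∀ a ∈ A, a * x = x * a := by
    intro x
    constructor
    · rintro ⟨c, rfl⟩
      refine ⟨(c : A).2, ?_⟩
      intro a ha
      have := Subalgebra.mem_center_iff.1 c.2 ⟨a, ha⟩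
      exact congrArg Subtype.val this
    · rintro ⟨hxA, hx⟩
      refine ⟨⟨⟨x, hxA⟩, ?_⟩, rfl⟩
      rw [Subalgebra.mem_center_iff]
      intro b
      apply Subtype.ext
      exact hx b.1 b.2
  -- the image of the centre is closed under the adjoint
  have hrange_adj : ∀ x : Mat, x ∈ ι.range → adj φ x ∈ ι.range := by
    intro x hx
    rw [hrange] at hx ⊢
    obtain ⟨hxA, hxc⟩ := hx
    refine ⟨hadjA x hxA, ?_⟩
    intro a ha
    have h1 := hxc (adj φ a) (hadjA a ha)
    have h2 := congrArg (adj φ) h1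
    rw [adj_mul, adj_mul, adj_adj φ hφφ] at h2
    exact h2.symm
  -- the adjoint as a ring endomorphism of the centre
  have hcen : ∀ x : Subalgebra.center F A, adj φ (ι x) ∈ ι.range := fun x => hrange_adj _ ⟨x, rfl⟩
  let τf : Subalgebra.center F A → Subalgebra.center F A := fun x => (hcen x).choose
  have hτf : ∀ x : Subalgebra.center F A, ι (τf x) = adj φ (ι x) := fun x => (hcen x).choose_spec
  let τ : Subalgebra.center F A →+* Subalgebra.center F A :=
    { toFun := τf
      map_one' := by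
        apply hι
        rw [hτf, map_one, adj_one]
      map_mul' := by
        intro x y
        apply hι
        have hxy : ι x * ι y = ι y * ι x := by rw [← map_mul, ← map_mul, mul_comm]
        rw [hτf, map_mul, map_mul, hτf, hτf, hxy, adj_mul]
      map_zero' := by
        apply hι
        rw [hτf, map_zero, adj_zero]
      map_add' := by
        intro x y
        apply hι
        rw [hτf, map_add, map_add, hτf, hτf, adj_add] }
  have hτ2 : ∀ x, τ (τ x) = x := by
    intro x
    apply hι
    show ι (τf (τf x)) = ι x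
    rw [hτf, hτf, adj_adj φ hφφ]
  have hτF : ∀ c : F, τ (algebraMap F (Subalgebra.center F A) c)
      = algebraMap F (Subalgebra.center F A) (c ^ q) := by
    intro c
    apply hι
    show ι (τf (algebraMap F (Subalgebra.center F A) c)) = ι (algebraMap F (Subalgebra.center F A) (c ^ q))
    rw [hτf, AlgHom.commutes, AlgHom.commutes, Algebra.algebraMap_eq_smul_one, Algebra.algebraMap_eq_smul_one,
      adj_smul, adj_one, hφ]
  have hodd : Odd (finrank F (Subalgebra.center F A)) :=
    odd_finrank_of_involution_of_isField (F := F) (L := Subalgebra.center F A) hL hF τ hτ2 hτF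
  obtain ⟨r, hrp, hrd⟩ := Nat.exists_prime_and_dvd hd1
  have hrodd : Odd r := hodd.of_dvd_nat hrd
  obtain ⟨E, hEr, hEcomm, hEinv, hEmem⟩ :=
    Cfsg.Agent.Lib.Helper41.Asch.exists_fieldSubalgebra_of_embedding (F := F) (B := Mat)
      (L := Subalgebra.center F A) hL ι hι r hrd hrp.pos
  refine ⟨r, E, hrp, hrodd, ⟨hEcomm, hEinv, hEr⟩, ?_, ?_⟩
  · -- adjoint-closed
    intro k hk
    refine ⟨adj φ k, ?_, fun u v => hermForm_mulVec_left φ hφ hφφ k u v⟩
    rw [hEmem] at hk ⊢
    refine ⟨hrange_adj k hk.1, ?_⟩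
    rw [← adj_pow, hk.2]
  -- forward invariance
  have hfwd : ∀ g ∈ K, ∀ x : Mat, x ∈ E →
      (g : Mat) * x * ((g⁻¹ : GL (Fin n) F) : Mat) ∈ E := by
    intro g hg x hx
    rw [hEmem] at hx ⊢
    obtain ⟨hx1, hx2⟩ := hx
    rw [hrange] at hx1 ⊢
    obtain ⟨hxA, hxc⟩ := hx1
    refine ⟨⟨hKA g hg x hxA, ?_⟩, ?_⟩
    · intro a ha
      have ha' : ((g⁻¹ : GL (Fin n) F) : Mat) * a * (g : Mat) ∈ A := by
        have := hKA g⁻¹ (K.inv_mem hg) a ha
        rwa [inv_inv] at this
      have h1 := hxc _ ha'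
      have hgi : ((g : GL (Fin n) F) : Mat) * ((g⁻¹ : GL (Fin n) F) : Mat) = 1 := by
        rw [← Units.val_mul, mul_inv_cancel, Units.val_one]
      have hig : ((g⁻¹ : GL (Fin n) F) : Mat) * ((g : GL (Fin n) F) : Mat) = 1 := by
        rw [← Units.val_mul, inv_mul_cancel, Units.val_one]
      calc a * ((g : Mat) * x * ((g⁻¹ : GL (Fin n) F) : Mat))
          = (g : Mat) * ((((g⁻¹ : GL (Fin n) F) : Mat) * a * (g : Mat)) * x)
              * ((g⁻¹ : GL (Fin n) F) : Mat) := by
            simp only [mul_assoc]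
            rw [← mul_assoc (g : Mat) ((g⁻¹ : GL (Fin n) F) : Mat), hgi, one_mul]
        _ = (g : Mat) * (x * (((g⁻¹ : GL (Fin n) F) : Mat) * a * (g : Mat)))
              * ((g⁻¹ : GL (Fin n) F) : Mat) := by rw [h1]
        _ = (g : Mat) * x * ((g⁻¹ : GL (Fin n) F) : Mat) * a := by
            simp only [mul_assoc]
            rw [hgi, mul_one]
    · rw [Units.conj_pow, hx2]
  intro g hg
  show ∀ k : Mat, k ∈ E ↔ (g : Mat) * k * ((g⁻¹ : GL (Fin n) F) : Mat) ∈ E
  intro k
  constructor
  · exact hfwd g hg k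
  · intro h
    have := hfwd g⁻¹ (K.inv_mem hg) _ h
    rw [inv_inv] at this
    have hig : ((g⁻¹ : GL (Fin n) F) : Mat) * ((g : GL (Fin n) F) : Mat) = 1 := by
      rw [← Units.val_mul, inv_mul_cancel, Units.val_one]
    have e : ((g⁻¹ : GL (Fin n) F) : Mat) * ((g : Mat) * k * ((g⁻¹ : GL (Fin n) F) : Mat)) * (g : Mat)
        = k := by
      simp only [mul_assoc]
      rw [hig, mul_one, ← mul_assoc, hig, one_mul]
    rwa [e] at this

end Cfsg.Agent.Lib.Helper68.AschU
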