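import Cfsg.Agent.Lib.Helper70.UFA

set_option autoImplicit false
set_option linter.unusedSimpArgs false
set_option linter.unusedVariables false
set_option linter.unusedSectionVars false

/-! S5665 keystone 566505 (K-SpU2-A1, architect helper44): a linear map which maps every singular vector
`u` into `F u + F J u` is of the form `γ + ε J` (steps 3-6 of helper70's `UFA.exists_bad_pair`, with `Jp`
abstract). -/

namespace Cfsg.Agent.Lib.Helper68.SpU

open Module Matrix Cfsg.Agent.Lib.Helper19 Cfsg.Agent.Lib.Helper43 Cfsg.Agent.Lib.Helper43.UF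
open Cfsg.Agent.Lib.Helper70.UF

variable {F : Type*} [Field F] [Fintype F]

/-- K-SpU2-A1 (566505). -/
theorem coeff_const {ι : Type} [Fintype ι] [DecidableEq ι] {Q : QuadraticForm F (ι → F)}
    (hQ : (QuadraticMap.polarBilin Q).Nondegenerate) (h14 : 14 ≤ Fintype.card ι)
    (U : UData Q) (Jp : Module.End F (ι → F))
    (h : ∀ u : ι → F, u ≠ 0 → Q u = 0 → ∃ γ ε : F, Jp u = γ • u + ε • U.J u) :
    ∃ γ ε : F, ∀ x, Jp x = γ • x + ε • U.J x := by
  classical
  have hn : 7 ≤ Fintype.card ι := by omega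
  have step1 := h
  -- Step 3: two orthogonal singular vectors on different lines have the same coefficients
  have step3 : ∀ u w : ι → F, u ≠ 0 → Q u = 0 → Q w = 0 → QuadraticMap.polarBilin Q u w = 0 →
      w ∉ KL U u →
      ∀ γ₁ ε₁ γ₂ ε₂ : F, Jp u = γ₁ • u + ε₁ • U.J u → Jp w = γ₂ • w + ε₂ • U.J w →
        γ₁ = γ₂ ∧ ε₁ = ε₂ := by
    intro u w hu0 hu hw huw hwK γ₁ ε₁ γ₂ ε₂ h1 h2
    have huw0 : u + w ≠ 0 := by
      intro h
      apply hwK
      rw [mem_KL_iff]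
      refine ⟨-1, 0, ?_⟩
      rw [zero_smul, add_zero, neg_smul, one_smul]
      exact (neg_eq_of_add_eq_zero_right h).symm
    have huwQ : Q (u + w) = 0 := by
      rw [Q_add, hu, hw, huw]; ring
    obtain ⟨γ₃, ε₃, h3⟩ := step1 (u + w) huw0 huwQ
    rw [map_add, map_add, h1, h2] at h3
    have h4 : (γ₁ - γ₃) • u + (ε₁ - ε₃) • U.J u + (γ₂ - γ₃) • w + (ε₂ - ε₃) • U.J w = 0 := by
      have : (γ₁ - γ₃) • u + (ε₁ - ε₃) • U.J u + (γ₂ - γ₃) • w + (ε₂ - ε₃) • U.J w =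
          (γ₁ • u + ε₁ • U.J u + (γ₂ • w + ε₂ • U.J w)) -
            (γ₃ • (u + w) + ε₃ • (U.J u + U.J w)) := by module
      rw [this, h3, sub_self]
    obtain ⟨e1, e2, e3, e4⟩ := indep_of_notMem_KL U u w hu0 hwK _ _ _ _ h4
    rw [sub_eq_zero] at e1 e2 e3 e4
    exact ⟨e1.trans e3.symm, e2.trans e4.symm⟩
  -- Step 4: any two singular vectors have the same coefficients
  have step4 : ∀ u w : ι → F, u ≠ 0 → Q u = 0 → w ≠ 0 → Q w = 0 →
      ∀ γ₁ ε₁ γ₂ ε₂ : F, Jp u = γ₁ • u + ε₁ • U.J u → Jp w = γ₂ • w + ε₂ • U.J w →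
        γ₁ = γ₂ ∧ ε₁ = ε₂ := by
    intro u w hu0 hu hw0 hw γ₁ ε₁ γ₂ ε₂ h1 h2
    have hfr : finrank F ↥(KL U u ⊔ KL U w) + ({u, w} : Finset (ι → F)).card + 3 ≤
        Fintype.card ι := by
      have h1 := Submodule.finrank_add_le_finrank_add_finrank (KL U u) (KL U w)
      have h2 := finrank_KL_le U u
      have h3 := finrank_KL_le U w
      have h4 : ({u, w} : Finset (ι → F)).card ≤ 2 := Finset.card_le_two
      omega
    obtain ⟨z, hzK, hz, hzS⟩ := AutOm.exists_singular_orth_finset Q hQ hn {u, w} _ hfr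
    have hzu : z ∉ KL U u := fun h => hzK (Submodule.mem_sup_left h)
    have hzw : z ∉ KL U w := fun h => hzK (Submodule.mem_sup_right h)
    have hz0 : z ≠ 0 := fun h => hzu (by rw [h]; exact Submodule.zero_mem _)
    have huz : QuadraticMap.polarBilin Q u z = 0 := hzS u (by simp)
    have hwz : QuadraticMap.polarBilin Q w z = 0 := hzS w (by simp)
    obtain ⟨γ₃, ε₃, h3⟩ := step1 z hz0 hz
    obtain ⟨a1, a2⟩ := step3 u z hu0 hu hz huz hzu γ₁ ε₁ γ₃ ε₃ h1 h3
    obtain ⟨b1, b2⟩ := step3 w z hw0 hw hz hwz hzw γ₂ ε₂ γ₃ ε₃ h2 h3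
    exact ⟨a1.trans b1.symm, a2.trans b2.symm⟩
  -- Step 5: a base singular vector
  obtain ⟨u₀, hu₀K, hu₀, -⟩ := AutOm.exists_singular_orth_finset Q hQ hn ∅ ⊥ (by
    rw [finrank_bot, Finset.card_empty]; omega)
  have hu₀0 : u₀ ≠ 0 := fun h => hu₀K (by rw [h]; exact Submodule.zero_mem _)
  obtain ⟨γ, ε, h₀⟩ := step1 u₀ hu₀0 hu₀
  have hsing : ∀ x : ι → F, Q x = 0 → Jp x = γ • x + ε • U.J x := by
    intro x hx
    by_cases hx0 : x = 0
    · rw [hx0, map_zero, map_zero, smul_zero, smul_zero, add_zero]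
    · obtain ⟨γ', ε', h'⟩ := step1 x hx0 hx
      obtain ⟨e1, e2⟩ := step4 u₀ x hu₀0 hu₀ hx0 hx γ ε γ' ε' h₀ h'
      rw [e1, e2]; exact h'
  -- Step 6: everywhere
  refine ⟨γ, ε, ?_⟩
  set D : Module.End F (ι → F) := Jp - γ • LinearMap.id - ε • U.J with hD
  have hDx : ∀ x, D x = Jp x - γ • x - ε • U.J x := fun x => rfl
  have h0 := ufa_eq_zero_of_singular hQ hn D (by
    intro x hx
    rw [hDx, hsing x hx]; abel)
  intro x
  have := h0 x
  rw [hDx] at this
  have h1 : Jp x = (Jp x - γ • x - ε • U.J x) + (γ • x + ε • U.J x) := by abel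
  rw [h1, this, zero_add]

end Cfsg.Agent.Lib.Helper68.SpU
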