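import Mathlib
import Cfsg.Agent.Lib.Helper49.SpInvDefs

/-!
# K-SpInv-3 (helper68): the arithmetic of the pointwise stabiliser of an isotropic subspace
-/

set_option autoImplicit false

namespace Cfsg.Agent.Lib.Helper68.SpInv

open Cfsg.Agent.Lib.Helper49.SpInv

/-- **K-SpInv-3.** -/
theorem arith_stab (q m s c : ℕ) (hq : 2 ≤ q) (hs : s ≤ m)
    (hc : c * ∏ i ∈ Finset.range s, (q ^ (2 * m - i) - q ^ i) = spOrd q m) :
    c = q ^ (2 * m * s - (3 * s ^ 2 - s) / 2) * spOrd q (m - s) := by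
  obtain ⟨d, rfl⟩ : ∃ d, m = d + s := ⟨m - s, by omega⟩
  have hd : d + s - s = d := by omega
  rw [hd]
  have hq0 : 0 < q := by omega
  set T := ∑ i ∈ Finset.range s, i with hTdef
  have hT2 : T * 2 = s * (s - 1) := Finset.sum_range_id_mul_two s
  have h1 : ∏ i ∈ Finset.range s, (q ^ (2 * (d + s) - i) - q ^ i)
      = q ^ T * ∏ i ∈ Finset.range s, (q ^ (2 * (d + s - i)) - 1) := by
    rw [hTdef, ← Finset.prod_pow_eq_pow_sum, ← Finset.prod_mul_distrib]
    apply Finset.prod_congr rfl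
    intro i hi
    have hi' : i < s := Finset.mem_range.1 hi
    have e : 2 * (d + s) - i = i + 2 * (d + s - i) := by omega
    rw [e, pow_add, Nat.mul_sub_one]
  have h3 : ∏ i ∈ Finset.range (d + s), (q ^ (2 * (i + 1)) - 1)
      = (∏ i ∈ Finset.range d, (q ^ (2 * (i + 1)) - 1)) *
        ∏ i ∈ Finset.range s, (q ^ (2 * (d + s - i)) - 1) := by
    rw [Finset.prod_range_add]
    congr 1
    have hr := Finset.prod_range_reflect (fun x => q ^ (2 * (d + x + 1)) - 1) s
    rw [← hr]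
    apply Finset.prod_congr rfl
    intro i hi
    have hi' : i < s := Finset.mem_range.1 hi
    have e : d + (s - 1 - i) + 1 = d + s - i := by omega
    rw [e]
  have hA : 0 < ∏ i ∈ Finset.range s, (q ^ (2 * (d + s - i)) - 1) := by
    apply Finset.prod_pos
    intro i hi
    have hi' : i < s := Finset.mem_range.1 hi
    have h2 : 1 < q ^ (2 * (d + s - i)) := Nat.one_lt_pow (by omega) (by omega)
    omega
  unfold spOrd at hc ⊢
  rw [h1, h3] at hc
  have hc2 : c * q ^ T = q ^ ((d + s) ^ 2) * ∏ i ∈ Finset.range d, (q ^ (2 * (i + 1)) - 1) := by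
    apply Nat.eq_of_mul_eq_mul_right hA
    rw [mul_assoc, hc, mul_assoc]
  have hE : (3 * s ^ 2 - s) / 2 = T + s ^ 2 := by
    have h : 3 * s ^ 2 - s = 2 * (T + s ^ 2) := by
      rcases Nat.eq_zero_or_pos s with h0 | hpos
      · subst h0
        simp [hTdef]
      · obtain ⟨k, rfl⟩ : ∃ k, s = k + 1 := ⟨s - 1, by omega⟩
        have hT2' : T * 2 = (k + 1) * k := by simpa using hT2
        have h3' : 3 * (k + 1) ^ 2 = 2 * (T + (k + 1) ^ 2) + (k + 1) := by nlinarith [hT2']
        omega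
    rw [h, Nat.mul_div_cancel_left _ (by norm_num : 0 < 2)]
  have hle : T + s ^ 2 ≤ 2 * (d + s) * s := by
    have : T * 2 ≤ s * s := by
      rw [hT2]
      exact Nat.mul_le_mul_left s (Nat.sub_le s 1)
    nlinarith
  have hexp : (d + s) ^ 2 = T + (2 * (d + s) * s - (T + s ^ 2)) + d ^ 2 := by
    have : T + (2 * (d + s) * s - (T + s ^ 2)) = 2 * (d + s) * s - s ^ 2 := by omega
    rw [this]
    have h5 : 2 * (d + s) * s = s ^ 2 + (2 * d * s + s ^ 2) := by ring
    rw [h5, Nat.add_sub_cancel_left]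
    ring
  rw [hE]
  apply Nat.eq_of_mul_eq_mul_right (pow_pos hq0 T)
  rw [hc2, hexp, pow_add, pow_add]
  ring

end Cfsg.Agent.Lib.Helper68.SpInv
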