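import Mathlib
import Cfsg.Agent.Lib.Helper49.RSU3Defs

set_option autoImplicit false
set_option linter.unusedSectionVars false
set_option linter.unusedVariables false

/-! K-RSU3 leaf L09 (S2283 pack): `(h z)^(q+1) = z`. -/

namespace Cfsg.Agent.Lib.Helper68.RSU3

open Matrix Cfsg.Agent.Lib.Helper49.StSU Cfsg.Agent.Lib.Helper49.RSU3

variable {F : Type*} [Field F] [Fintype F] {q : ℕ}

/-- `yM q 0 b` in plain form (`q ≠ 0`) -/
theorem l09_yM_zero (hq0 : q ≠ 0) (b : F) :
    yM q (0 : F) b = !![1, 0, 0; 0, 1, 0; b, 0, 1] := by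
  unfold yM
  rw [zero_pow hq0, neg_zero]

theorem l09_yM_mul (hq0 : q ≠ 0) (x y : F) :
    yM q (0 : F) x * yM q (0 : F) y = yM q (0 : F) (x + y) := by
  rw [l09_yM_zero hq0, l09_yM_zero hq0, l09_yM_zero hq0]
  ext i j
  fin_cases i <;> fin_cases j <;> simp [Matrix.mul_apply, Fin.sum_univ_three, add_comm]

theorem l09_yM_pow (hq0 : q ≠ 0) (b : F) (k : ℕ) :
    (yM q (0 : F) b) ^ k = yM q (0 : F) ((k : F) * b) := by
  induction k with
  | zero =>
    rw [pow_zero, Nat.cast_zero, zero_mul, l09_yM_zero hq0]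
    ext i j
    fin_cases i <;> fin_cases j <;> simp
  | succ k ih =>
    rw [pow_succ, ih, l09_yM_mul hq0]
    congr 1
    push_cast
    ring

theorem pow_hz (hq : 3 ≤ q) (hF : Fintype.card F = q ^ 2) (μ : F) (hμ : orderOf μ = q + 1) (b : F) :
    (hM q μ * yM q 0 b) ^ (q + 1) = yM q 0 b := by
  have hq0 : q ≠ 0 := by omega
  have hμ1 : μ ^ (q + 1) = 1 := by rw [← hμ]; exact pow_orderOf_eq_one μ
  have hμ0 : μ ≠ 0 := by
    rintro rfl
    rw [zero_pow (by omega)] at hμ1
    exact zero_ne_one hμ1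
  have hμq : μ ^ q * μ = 1 := by rw [← pow_succ]; exact hμ1
  have hqF : (q : F) = 0 := by
    have h0 : ((Fintype.card F : ℕ) : F) = 0 := Nat.cast_card_eq_zero F
    rw [hF, Nat.cast_pow] at h0
    exact pow_eq_zero_iff (two_ne_zero) |>.mp h0
  -- `h` is diagonal
  have hdiag : hM q μ = Matrix.diagonal ![μ, μ ^ q / μ, 1 / μ ^ q] := by
    unfold hM
    ext i j
    fin_cases i <;> fin_cases j <;> simp
  have hhpow : (hM q μ) ^ (q + 1) = 1 := by
    rw [hdiag, Matrix.diagonal_pow, ← Matrix.diagonal_one]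
    congr 1
    ext i
    fin_cases i
    · simpa using hμ1
    · simp only [Pi.pow_apply, Pi.one_apply]
      show (μ ^ q / μ) ^ (q + 1) = 1
      rw [div_pow, ← pow_mul, mul_comm q (q + 1), pow_mul, hμ1, one_pow, div_one]
    · simp only [Pi.pow_apply, Pi.one_apply]
      show (1 / μ ^ q) ^ (q + 1) = 1
      rw [div_pow, one_pow, ← pow_mul, mul_comm q (q + 1), pow_mul, hμ1, one_pow, div_one]
  have hcomm : Commute (hM q μ) (yM q 0 b) := by
    show hM q μ * yM q 0 b = yM q 0 b * hM q μ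
    rw [l09_yM_zero hq0]
    unfold hM
    have hinv : 1 / μ ^ q = μ := by
      rw [div_eq_iff (pow_ne_zero q hμ0)]
      rw [mul_comm]; exact hμq.symm
    ext i j
    fin_cases i <;> fin_cases j <;> simp [Matrix.mul_apply, Fin.sum_univ_three]
    · -- entry (2,0)
      have := hinv
      rw [one_div] at this
      rw [this, mul_comm]
  rw [hcomm.mul_pow, hhpow, one_mul, l09_yM_pow hq0]
  congr 1
  push_cast
  rw [hqF]
  ring

end Cfsg.Agent.Lib.Helper68.RSU3
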