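import Cfsg.Agent.Lib.Helper49.StSUDefs

/-!
# K-StSU leaf F2L (keystone 254608, pack K-StSU for S2546, architect helper49):
dichotomy for a monomial matrix, last simple root, both parities.
-/

set_option autoImplicit false
set_option linter.unusedSectionVars false
set_option linter.unusedVariables false

namespace Cfsg.Agent.Lib.Helper68.StSU

open Cfsg Cfsg.Agent.Lib.Helper49.StSU Matrix

variable {n : ℕ} {F : Type*} [Field F] {q : ℕ}

/-- the inverse of a monomial matrix is monomial for the inverse permutation -/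
theorem inv_entry_eq_zero (g : GJ n F q) (σ : Equiv.Perm (Fin n)) (hg : MonWith n F q g σ)
    (a c : Fin n) (h : c ≠ σ a) : mat g⁻¹ a c = 0 := by
  obtain ⟨b, rfl⟩ := σ.surjective c
  have hab : a ≠ b := fun e => h (by rw [e])
  have h1 : (mat g⁻¹ * mat g) a b = (1 : Matrix (Fin n) (Fin n) F) a b := by
    rw [mat_inv_mul]
  rw [Matrix.one_apply_ne hab, Matrix.mul_apply, Finset.sum_eq_single (σ b)] at h1
  · have hne : mat g (σ b) b ≠ 0 := (hg.1 _ _).2 rfl
    exact (mul_eq_zero.mp h1).resolve_right hne
  · intro d _ hd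
    have : mat g d b = 0 := by
      by_contra h0
      exact hd ((hg.1 _ _).1 h0)
    rw [this, mul_zero]
  · intro h; exact absurd (Finset.mem_univ _) h

/-- entries of a conjugate by a monomial matrix -/
theorem conj_entry (g : GJ n F q) (σ : Equiv.Perm (Fin n)) (hg : MonWith n F q g σ)
    (X : Matrix (Fin n) (Fin n) F) (a b : Fin n) :
    (mat g⁻¹ * X * mat g) a b = mat g⁻¹ a (σ a) * X (σ a) (σ b) * mat g (σ b) b := by
  rw [Matrix.mul_apply, Finset.sum_eq_single (σ b)]
  · rw [Matrix.mul_apply, Finset.sum_eq_single (σ a)]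
    · intro c _ hc
      rw [inv_entry_eq_zero g σ hg a c hc, zero_mul]
    · intro h; exact absurd (Finset.mem_univ _) h
  · intro d _ hd
    have : mat g d b = 0 := by
      by_contra h0
      exact hd ((hg.1 _ _).1 h0)
    rw [this, mul_zero]
  · intro h; exact absurd (Finset.mem_univ _) h

/-- **LEAF F2L (254608).** -/
theorem dich_long (ok : Ok n F q) (hn : 2 ≤ n) (g : GJ n F q)
    (σ : Equiv.Perm (Fin n)) (hg : MonWith n F q g σ) :
    (∀ x ∈ XL n F q, g⁻¹ * x * g ∈ Bsub n F q) ∨
      (∀ y ∈ YL n F q, g⁻¹ * y * g ∈ Bsub n F q) := by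
  have hk1 : 1 ≤ n / 2 := by omega
  have hc0lt : n / 2 - 1 < n := by omega
  obtain ⟨p, hσp⟩ : ∃ p : Fin n, σ p = ⟨n / 2 - 1, hc0lt⟩ := ⟨σ.symm _, σ.apply_symm_apply _⟩
  have hc0v : (σ p).val = n / 2 - 1 := by rw [hσp]
  have hrc0v : (σ (Fin.rev p)).val = n - n / 2 := by
    rw [hg.2, Fin.val_rev, hc0v]
    omega
  have key1 : ∀ a : Fin n, (σ a).val = n / 2 - 1 → a = p := by
    intro a h
    apply σ.injective
    apply Fin.ext
    rw [h, hc0v]
  have key2 : ∀ a : Fin n, (σ a).val = n - n / 2 → a = Fin.rev p := by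
    intro a h
    apply σ.injective
    apply Fin.ext
    rw [h, hrc0v]
  have key3 : n % 2 = 1 → ∀ a : Fin n, (σ a).val = n / 2 → a.val = n / 2 := by
    intro ho a h
    have h1 : (σ (Fin.rev a)).val = (σ a).val := by
      rw [hg.2, Fin.val_rev, h]
      omega
    have h2 : Fin.rev a = a := σ.injective (Fin.ext h1)
    have h3 := congrArg Fin.val h2
    rw [Fin.val_rev] at h3
    have := a.2
    omega
  have hpne : p.val ≠ n - (p.val + 1) := by
    intro h
    have h1 : Fin.rev p = p := by
      apply Fin.ext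
      rw [Fin.val_rev]
      exact h.symm
    have h2 : (σ (Fin.rev p)).val = (σ p).val := by rw [h1]
    rw [hrc0v, hc0v] at h2
    omega
  have hpv := p.2
  rcases lt_or_gt_of_ne hpne with hlt | hgt
  · left
    intro x hx
    have hx' : ∀ c d : Fin n, ¬ (n / 2 - 1 ≤ c.val ∧ c.val < d.val ∧ d.val ≤ n - n / 2) →
        mat x c d = (1 : Matrix (Fin n) (Fin n) F) c d := hx
    rw [mem_Bsub_iff]
    intro a b hab
    have hne : a ≠ b := ne_of_gt hab
    show (mat g⁻¹ * mat x * mat g) a b = 0
    rw [conj_entry g σ hg]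
    by_contra h0
    have hX : mat x (σ a) (σ b) ≠ 0 := by
      intro h1
      apply h0
      rw [h1, mul_zero, zero_mul]
    have hA : n / 2 - 1 ≤ (σ a).val ∧ (σ a).val < (σ b).val ∧ (σ b).val ≤ n - n / 2 := by
      by_contra hA
      apply hX
      rw [hx' (σ a) (σ b) hA, Matrix.one_apply_ne (σ.injective.ne hne)]
    obtain ⟨hA1, hA2, hA3⟩ := hA
    have hab' : b.val < a.val := hab
    by_cases h1 : (σ a).val = n / 2 - 1
    · have ha := key1 a h1
      by_cases h2 : (σ b).val = n - n / 2
      · have hb := key2 b h2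
        rw [ha, hb, Fin.val_rev] at hab'
        omega
      · have ho : n % 2 = 1 := by omega
        have hb := key3 ho b (by omega)
        rw [ha] at hab'
        omega
    · have ho : n % 2 = 1 := by omega
      have ha := key3 ho a (by omega)
      have hb := key2 b (by omega)
      rw [hb, Fin.val_rev] at hab'
      omega
  · right
    intro y hy
    have hy' : ∀ c d : Fin n, ¬ (n / 2 - 1 ≤ d.val ∧ d.val < c.val ∧ c.val ≤ n - n / 2) →
        mat y c d = (1 : Matrix (Fin n) (Fin n) F) c d := hy
    rw [mem_Bsub_iff]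
    intro a b hab
    have hne : a ≠ b := ne_of_gt hab
    show (mat g⁻¹ * mat y * mat g) a b = 0
    rw [conj_entry g σ hg]
    by_contra h0
    have hX : mat y (σ a) (σ b) ≠ 0 := by
      intro h1
      apply h0
      rw [h1, mul_zero, zero_mul]
    have hA : n / 2 - 1 ≤ (σ b).val ∧ (σ b).val < (σ a).val ∧ (σ a).val ≤ n - n / 2 := by
      by_contra hA
      apply hX
      rw [hy' (σ a) (σ b) hA, Matrix.one_apply_ne (σ.injective.ne hne)]
    obtain ⟨hA1, hA2, hA3⟩ := hA
    have hab' : b.val < a.val := hab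
    by_cases h1 : (σ b).val = n / 2 - 1
    · have hb := key1 b h1
      by_cases h2 : (σ a).val = n - n / 2
      · have ha := key2 a h2
        rw [ha, hb, Fin.val_rev] at hab'
        omega
      · have ho : n % 2 = 1 := by omega
        have ha := key3 ho a (by omega)
        rw [hb] at hab'
        omega
    · have ho : n % 2 = 1 := by omega
      have hb := key3 ho b (by omega)
      have ha := key2 a (by omega)
      rw [ha, Fin.val_rev] at hab'
      omega

end Cfsg.Agent.Lib.Helper68.StSU
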