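import Cfsg.Agent.Lib.Helper53.StOmDefs
import Cfsg.Agent.Lib.Helper90.StOmR0a

/-!
# K-StOm-C3b (keystone 254915, architect helper53, S2549): distinct simple reflections of
`O⁻_{2m+2}(F)` are distinct modulo `B` (port of `Lib/Helper88/StOC3b.lean`).
-/

set_option autoImplicit false
set_option linter.unusedSectionVars false
set_option linter.unusedVariables false

namespace Cfsg.Agent.Lib.Helper68.StOm

open Cfsg Matrix Cfsg.Agent.Lib.Helper53.StOm

variable {m : ℕ} {F : Type*} [Field F] {a b : F}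

theorem permMatrix_apply_aux (σ : Equiv.Perm (MI m)) (x y : MI m) :
    σ.permMatrix F x y = if σ x = y then 1 else 0 := by
  simp [Equiv.Perm.permMatrix, PEquiv.toMatrix_apply, Equiv.toPEquiv_apply, eq_comm]

theorem swapE_mul_self (i j : Fin m) : swapE m i j * swapE m i j = 1 := by
  ext x
  rcases x with (x | x) | x <;> simp [swapE]

theorem flipE_mul_self (k : Fin m) : flipE m k * flipE m k = 1 := by
  unfold flipE
  exact Equiv.swap_mul_self _ _

theorem sPerm_mul_self (i j : Fin m) : sPerm m F a b i j * sPerm m F a b i j = 1 := by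
  apply mat_injective
  rw [mat_mul, Cfsg.Agent.Lib.Helper90.StOm.mat_sPerm, mat_one]
  unfold sPermMat
  rw [← Matrix.permMatrix_mul, swapE_mul_self, Matrix.permMatrix_one]

theorem sPerm_inv (i j : Fin m) : (sPerm m F a b i j)⁻¹ = sPerm m F a b i j :=
  inv_eq_of_mul_eq_one_right (sPerm_mul_self i j)

/-- entries of `sPerm * sPerm` -/
theorem sPerm_mul_sPerm_apply (i i' j j' : Fin m) (x y : MI m) :
    mat (sPerm m F a b i i' * sPerm m F a b j j') x y =
      if swapE m j j' (swapE m i i' x) = y then 1 else 0 := by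
  rw [mat_mul, Cfsg.Agent.Lib.Helper90.StOm.mat_sPerm, Cfsg.Agent.Lib.Helper90.StOm.mat_sPerm]
  unfold sPermMat
  rw [← Matrix.permMatrix_mul, permMatrix_apply_aux]
  rfl

/-- entries of `sPerm * sFlip` -/
theorem sPerm_mul_sFlip_apply (i i' k : Fin m) (x y : MI m) :
    mat (sPerm m F a b i i' * sFlip m F a b k) x y =
      if flipE m k (swapE m i i' x) = y then 1 else 0 := by
  rw [mat_mul, Cfsg.Agent.Lib.Helper90.StOm.mat_sPerm, Cfsg.Agent.Lib.Helper90.StOm.mat_sFlip]
  unfold sPermMat sFlipMat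
  rw [← Matrix.permMatrix_mul, permMatrix_apply_aux]
  rfl

theorem swapE_eI (i j c : Fin m) : swapE m i j (eI c) = eI (Equiv.swap i j c) := rfl

theorem swapE_fI (i j c : Fin m) : swapE m i j (fI c) = fI (Equiv.swap i j c) := rfl

/-- a permutation reflection and the flip are different modulo `B` -/
theorem sPerm_sFlip_not_mem (i i' k : Fin m) :
    (sPerm m F a b i i')⁻¹ * sFlip m F a b k ∉ Bsub m F a b := by
  intro h
  rw [sPerm_inv, mem_Bsub_iff] at h
  have h1 := h (fI (Equiv.swap i i' k)) (eI k) (by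
    simp only [pos]
    have := k.2
    have := (Equiv.swap i i' k).2
    omega)
  rw [sPerm_mul_sFlip_apply, swapE_fI, Equiv.swap_apply_self, if_pos] at h1
  · exact one_ne_zero h1
  · unfold flipE
    exact Equiv.swap_apply_right _ _

/-- two different permutation simple reflections are different modulo `B` -/
theorem sPerm_sPerm_eq (i j : Fin m) (hi : i.val + 1 < m) (hj : j.val + 1 < m)
    (h : (sPerm m F a b i (nxt i hi))⁻¹ * sPerm m F a b j (nxt j hj) ∈ Bsub m F a b) : i = j := by
  by_contra hij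
  rw [sPerm_inv, mem_Bsub_iff] at h
  have hb : (Equiv.swap j (nxt j hj) i).val < i.val + 1 := by
    by_cases h1 : i = nxt j hj
    · have h2 : Equiv.swap j (nxt j hj) i = j := by rw [h1, Equiv.swap_apply_right]
      have h3 : i.val = j.val + 1 := by rw [h1]; rfl
      rw [h2]; omega
    · rw [Equiv.swap_apply_of_ne_of_ne hij h1]; omega
  have h1 := h (eI (nxt i hi)) (eI (Equiv.swap j (nxt j hj) i)) (by
    simp only [pos, nxt]; exact hb)
  rw [sPerm_mul_sPerm_apply, swapE_eI, Equiv.swap_apply_right, swapE_eI, if_pos rfl] at h1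
  exact one_ne_zero h1

/-- LEAF C3b (254915) -/
theorem S_inj (s : OG m F a b) (hs : s ∈ Sset m F a b) (s' : OG m F a b) (hs' : s' ∈ Sset m F a b)
    (h : s⁻¹ * s' ∈ Bsub m F a b) : s = s' := by
  rcases hs with ⟨i, hi, rfl⟩ | ⟨hm, rfl⟩
  · rcases hs' with ⟨j, hj, rfl⟩ | ⟨hm', rfl⟩
    · have := sPerm_sPerm_eq i j hi hj h
      subst this
      rfl
    · exact absurd h (sPerm_sFlip_not_mem _ _ _)
  · rcases hs' with ⟨j, hj, rfl⟩ | ⟨hm', rfl⟩
    · exfalso
      have h2 := inv_mem h
      rw [_root_.mul_inv_rev, inv_inv] at h2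
      exact sPerm_sFlip_not_mem _ _ _ h2
    · rfl

end Cfsg.Agent.Lib.Helper68.StOm
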