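import Mathlib
import Cfsg.Agent.Lib.Helper05.A10Defs

/-!
# K-A10-A1 (keystone 348901, pack K-A10 for S3489, architect helper5): `spec_subset_alt10` (parallel hand).
Thirteen explicit even permutations of `Fin 10` of orders `1,…,10,12,15,21`.
-/

set_option autoImplicit false

namespace Cfsg.Agent.Lib.Helper68.A10Iso

open Equiv Equiv.Perm Cfsg.Agent.Lib.Helper05.A10Iso

theorem mem_range_of (σ : Perm (Fin 10)) (n : ℕ) (hn : 0 < n) (hs : sign σ = 1) (h1 : σ ^ n = 1)
    (h2 : ∀ m < n, 0 < m → σ ^ m ≠ 1) :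
    n ∈ Set.range (orderOf : alternatingGroup (Fin 10) → ℕ) :=
  ⟨⟨σ, mem_alternatingGroup.2 hs⟩, by
    rw [Subgroup.orderOf_mk]
    exact (orderOf_eq_iff hn).2 ⟨h1, h2⟩⟩

/-- cycle on a list -/
abbrev cy (l : List (Fin 10)) : Perm (Fin 10) := List.formPerm l

set_option maxRecDepth 100000 in
theorem mem1 : 1 ∈ Set.range (orderOf : alternatingGroup (Fin 10) → ℕ) := ⟨1, orderOf_one⟩

set_option maxRecDepth 100000 in
theorem mem2 : 2 ∈ Set.range (orderOf : alternatingGroup (Fin 10) → ℕ) :=
  mem_range_of (cy [0, 1] * cy [2, 3]) 2 (by norm_num) (by decide) (by decide) (by decide)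

set_option maxRecDepth 100000 in
theorem mem3 : 3 ∈ Set.range (orderOf : alternatingGroup (Fin 10) → ℕ) :=
  mem_range_of (cy [0, 1, 2]) 3 (by norm_num) (by decide) (by decide) (by decide)

set_option maxRecDepth 100000 in
theorem mem4 : 4 ∈ Set.range (orderOf : alternatingGroup (Fin 10) → ℕ) :=
  mem_range_of (cy [0, 1, 2, 3] * cy [4, 5]) 4 (by norm_num) (by decide) (by decide) (by decide)

set_option maxRecDepth 100000 in
theorem mem5 : 5 ∈ Set.range (orderOf : alternatingGroup (Fin 10) → ℕ) :=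
  mem_range_of (cy [0, 1, 2, 3, 4]) 5 (by norm_num) (by decide) (by decide) (by decide)

set_option maxRecDepth 100000 in
theorem mem6 : 6 ∈ Set.range (orderOf : alternatingGroup (Fin 10) → ℕ) :=
  mem_range_of (cy [0, 1, 2] * cy [3, 4] * cy [5, 6]) 6 (by norm_num) (by decide) (by decide)
    (by decide)

set_option maxRecDepth 100000 in
theorem mem7 : 7 ∈ Set.range (orderOf : alternatingGroup (Fin 10) → ℕ) :=
  mem_range_of (cy [0, 1, 2, 3, 4, 5, 6]) 7 (by norm_num) (by decide) (by decide) (by decide)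

set_option maxRecDepth 100000 in
theorem mem8 : 8 ∈ Set.range (orderOf : alternatingGroup (Fin 10) → ℕ) :=
  mem_range_of (cy [0, 1, 2, 3, 4, 5, 6, 7] * cy [8, 9]) 8 (by norm_num) (by decide) (by decide)
    (by decide)

set_option maxRecDepth 100000 in
theorem mem9 : 9 ∈ Set.range (orderOf : alternatingGroup (Fin 10) → ℕ) :=
  mem_range_of (cy [0, 1, 2, 3, 4, 5, 6, 7, 8]) 9 (by norm_num) (by decide) (by decide) (by decide)

set_option maxRecDepth 100000 in
theorem mem10 : 10 ∈ Set.range (orderOf : alternatingGroup (Fin 10) → ℕ) :=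
  mem_range_of (cy [0, 1, 2, 3, 4] * cy [5, 6] * cy [7, 8]) 10 (by norm_num) (by decide) (by decide)
    (by decide)

set_option maxRecDepth 100000 in
theorem mem12 : 12 ∈ Set.range (orderOf : alternatingGroup (Fin 10) → ℕ) :=
  mem_range_of (cy [0, 1, 2, 3] * cy [4, 5, 6] * cy [7, 8]) 12 (by norm_num) (by decide) (by decide)
    (by decide)

set_option maxRecDepth 100000 in
theorem mem15 : 15 ∈ Set.range (orderOf : alternatingGroup (Fin 10) → ℕ) :=
  mem_range_of (cy [0, 1, 2, 3, 4] * cy [5, 6, 7]) 15 (by norm_num) (by decide) (by decide)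
    (by decide)

set_option maxRecDepth 100000 in
theorem mem21 : 21 ∈ Set.range (orderOf : alternatingGroup (Fin 10) → ℕ) :=
  mem_range_of (cy [0, 1, 2, 3, 4, 5, 6] * cy [7, 8, 9]) 21 (by norm_num) (by decide) (by decide)
    (by decide)

/-- **LEAF A1 (348901).** -/
theorem spec_subset_alt10 : spec ⊆ Set.range (orderOf : alternatingGroup (Fin 10) → ℕ) := by
  intro n hn
  simp only [spec, Set.mem_insert_iff, Set.mem_singleton_iff] at hn
  rcases hn with rfl | rfl | rfl | rfl | rfl | rfl | rfl | rfl | rfl | rfl | rfl | rfl | rfl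
  · exact mem1
  · exact mem2
  · exact mem3
  · exact mem4
  · exact mem5
  · exact mem6
  · exact mem7
  · exact mem8
  · exact mem9
  · exact mem10
  · exact mem12
  · exact mem15
  · exact mem21

end Cfsg.Agent.Lib.Helper68.A10Iso
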