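import Mathlib
import Cfsg.Agent.Lib.Helper05.A10Defs

/-!
# K-A10-A2 (keystone 348902, pack K-A10 for S3489, architect helper5): `alt10_subset_spec` (parallel hand).
Every element order of `A₁₀` lies in `{1,…,10,12,15,21}`.
-/

set_option autoImplicit false

namespace Cfsg.Agent.Lib.Helper68.A10Iso

open Cfsg.Agent.Lib.Helper05.A10Iso

/-- the spectrum as a finset (for `decide`) -/
def specF : Finset ℕ := {1, 2, 3, 4, 5, 6, 7, 8, 9, 10, 12, 15, 21}

theorem mem_spec_of_mem_specF {n : ℕ} (h : n ∈ specF) : n ∈ spec := by
  simp only [specF, Finset.mem_insert, Finset.mem_singleton] at h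
  simp only [spec, Set.mem_insert_iff, Set.mem_singleton_iff]
  exact h

set_option maxRecDepth 4000 in
/-- the combinatorial core: cycle types of even permutations of at most 10 points -/
theorem list_key : ∀ l : List ℕ, (∀ n ∈ l, 2 ≤ n) → l.sum ≤ 10 → (l.sum + l.length) % 2 = 0 →
    l.foldr Nat.lcm 1 ∈ specF := by
  intro l h2 hs hpar
  match l, h2, hs, hpar with
  | [], _, _, _ => decide
  | [a], h2, hs, hpar =>
    have ha : 2 ≤ a := h2 a (by simp)
    simp only [List.sum_cons, List.sum_nil, List.length_cons, List.length_nil] at hs hpar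
    have ha' : a ≤ 10 := by omega
    interval_cases a <;> first | omega | decide
  | [a, b], h2, hs, hpar =>
    have ha : 2 ≤ a := h2 a (by simp)
    have hb : 2 ≤ b := h2 b (by simp)
    simp only [List.sum_cons, List.sum_nil, List.length_cons, List.length_nil] at hs hpar
    have ha' : a ≤ 8 := by omega
    have hb' : b ≤ 8 := by omega
    interval_cases a <;> interval_cases b <;> first | omega | decide
  | [a, b, c], h2, hs, hpar =>
    have ha : 2 ≤ a := h2 a (by simp)
    have hb : 2 ≤ b := h2 b (by simp)
    have hc : 2 ≤ c := h2 c (by simp)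
    simp only [List.sum_cons, List.sum_nil, List.length_cons, List.length_nil] at hs hpar
    have ha' : a ≤ 6 := by omega
    have hb' : b ≤ 6 := by omega
    have hc' : c ≤ 6 := by omega
    interval_cases a <;> interval_cases b <;> interval_cases c <;> first | omega | decide
  | [a, b, c, d], h2, hs, hpar =>
    have ha : 2 ≤ a := h2 a (by simp)
    have hb : 2 ≤ b := h2 b (by simp)
    have hc : 2 ≤ c := h2 c (by simp)
    have hd : 2 ≤ d := h2 d (by simp)
    simp only [List.sum_cons, List.sum_nil, List.length_cons, List.length_nil] at hs hpar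
    have ha' : a ≤ 4 := by omega
    have hb' : b ≤ 4 := by omega
    have hc' : c ≤ 4 := by omega
    have hd' : d ≤ 4 := by omega
    interval_cases a <;> interval_cases b <;> interval_cases c <;> interval_cases d <;>
      first | omega | decide
  | [a, b, c, d, e], h2, hs, hpar =>
    have ha : 2 ≤ a := h2 a (by simp)
    have hb : 2 ≤ b := h2 b (by simp)
    have hc : 2 ≤ c := h2 c (by simp)
    have hd : 2 ≤ d := h2 d (by simp)
    have he : 2 ≤ e := h2 e (by simp)
    simp only [List.sum_cons, List.sum_nil, List.length_cons, List.length_nil] at hs hpar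
    have ha' : a = 2 := by omega
    have hb' : b = 2 := by omega
    have hc' : c = 2 := by omega
    have hd' : d = 2 := by omega
    have he' : e = 2 := by omega
    subst ha' hb' hc' hd' he'
    omega
  | a :: b :: c :: d :: e :: f :: t, h2, hs, _ =>
    have ha : 2 ≤ a := h2 a (by simp)
    have hb : 2 ≤ b := h2 b (by simp)
    have hc : 2 ≤ c := h2 c (by simp)
    have hd : 2 ≤ d := h2 d (by simp)
    have he : 2 ≤ e := h2 e (by simp)
    have hf : 2 ≤ f := h2 f (by simp)
    simp only [List.sum_cons] at hs
    omega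

theorem multiset_key (s : Multiset ℕ) (h2 : ∀ n ∈ s, 2 ≤ n) (hs : s.sum ≤ 10)
    (hpar : (s.sum + Multiset.card s) % 2 = 0) : s.lcm ∈ specF := by
  induction s using Quotient.inductionOn with
  | _ l =>
    have h := list_key l (fun n hn => h2 n (by simpa using hn)) (by simpa using hs) (by simpa using hpar)
    have e : Multiset.lcm (Quotient.mk _ l) = l.foldr Nat.lcm 1 := by
      show Multiset.fold GCDMonoid.lcm 1 (l : Multiset ℕ) = _
      rw [Multiset.coe_fold_r]
      rfl
    rw [e]
    exact h

/-- **LEAF A2 (348902).** -/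
theorem alt10_subset_spec : Set.range (orderOf : alternatingGroup (Fin 10) → ℕ) ⊆ spec := by
  rintro _ ⟨⟨σ, hσ⟩, rfl⟩
  rw [Subgroup.orderOf_mk σ hσ, ← Equiv.Perm.lcm_cycleType]
  apply mem_spec_of_mem_specF
  have hsign : Equiv.Perm.sign σ = 1 := Equiv.Perm.mem_alternatingGroup.1 hσ
  rw [Equiv.Perm.sign_of_cycleType] at hsign
  have hne : (-1 : ℤˣ) ≠ 1 := by decide
  have hev : Even (σ.cycleType.sum + Multiset.card σ.cycleType) :=
    (neg_one_pow_eq_one_iff_even hne).1 hsign
  apply multiset_key
  · intro n hn
    exact Equiv.Perm.two_le_of_mem_cycleType hn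
  · have := Equiv.Perm.sum_cycleType_le σ
    simpa using this
  · exact Nat.even_iff.1 hev

end Cfsg.Agent.Lib.Helper68.A10Iso
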