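import Mathlib
import Cfsg.Agent.Lib.Helper05.A10Defs

/-!
# K-A10-C4 (keystone 348911, pack K-A10 for S3489, architect helper5): `fpf_of_cyc`.
If `Φ_m(M) = 0` (`m > 1`) then `M` has no non-zero fixed vector: `Φ_m(1)` is a unit modulo 7.
-/

set_option autoImplicit false

namespace Cfsg.Agent.Lib.Helper68.A10Iso

open Matrix Cfsg.Agent.Lib.Helper05.A10Iso

theorem pow_mulVec_of_fixed (M : M4) (v : V) (hv : M.mulVec v = v) (k : ℕ) :
    (M ^ k).mulVec v = v := by
  induction k with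
  | zero => rw [pow_zero, Matrix.one_mulVec]
  | succ k ih => rw [pow_succ, ← Matrix.mulVec_mulVec, hv, ih]

theorem zmod7_two : ∀ a : ZMod 7, a + a = 0 → a = 0 := by decide
theorem zmod7_three : ∀ a : ZMod 7, a + a + a = 0 → a = 0 := by decide
theorem zmod7_five : ∀ a : ZMod 7, a + a + a + a + a = 0 → a = 0 := by decide

/-- **LEAF C4 (348911).** -/
theorem fpf_of_cyc (M : M4) (m : ℕ) (hm : m ∈ orders) (hm1 : m ≠ 1) (h : cyc m M = 0) (v : V)
    (hv : M.mulVec v = v) : v = 0 := by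
  have hp := pow_mulVec_of_fixed M v hv
  have h0 : (cyc m M).mulVec v = 0 := by rw [h, Matrix.zero_mulVec]
  have hm' : m = 1 ∨ m = 2 ∨ m = 3 ∨ m = 4 ∨ m = 5 ∨ m = 6 ∨ m = 8 ∨ m = 10 ∨ m = 12 := by
    simpa [orders] using hm
  rcases hm' with rfl | rfl | rfl | rfl | rfl | rfl | rfl | rfl | rfl
  · exact absurd rfl hm1
  · have e : cyc 2 M = M + 1 := by simp [cyc]
    rw [e, Matrix.add_mulVec, Matrix.one_mulVec, hv] at h0
    funext i
    exact zmod7_two (v i) (congrFun h0 i)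
  · have e : cyc 3 M = M ^ 2 + M + 1 := by simp [cyc]
    rw [e, Matrix.add_mulVec, Matrix.add_mulVec, Matrix.one_mulVec, hv, hp 2] at h0
    funext i
    exact zmod7_three (v i) (congrFun h0 i)
  · have e : cyc 4 M = M ^ 2 + 1 := by simp [cyc]
    rw [e, Matrix.add_mulVec, Matrix.one_mulVec, hp 2] at h0
    funext i
    exact zmod7_two (v i) (congrFun h0 i)
  · have e : cyc 5 M = M ^ 4 + M ^ 3 + M ^ 2 + M + 1 := by simp [cyc]
    rw [e, Matrix.add_mulVec, Matrix.add_mulVec, Matrix.add_mulVec, Matrix.add_mulVec,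
      Matrix.one_mulVec, hv, hp 2, hp 3, hp 4] at h0
    funext i
    exact zmod7_five (v i) (congrFun h0 i)
  · have e : cyc 6 M = M ^ 2 - M + 1 := by simp [cyc]
    rw [e, Matrix.add_mulVec, Matrix.sub_mulVec, Matrix.one_mulVec, hv, hp 2, sub_self,
      zero_add] at h0
    exact h0
  · have e : cyc 8 M = M ^ 4 + 1 := by simp [cyc]
    rw [e, Matrix.add_mulVec, Matrix.one_mulVec, hp 4] at h0
    funext i
    exact zmod7_two (v i) (congrFun h0 i)
  · have e : cyc 10 M = M ^ 4 - M ^ 3 + M ^ 2 - M + 1 := by simp [cyc]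
    rw [e, Matrix.add_mulVec, Matrix.sub_mulVec, Matrix.add_mulVec, Matrix.sub_mulVec,
      Matrix.one_mulVec, hv, hp 2, hp 3, hp 4, sub_self, zero_add, sub_self, zero_add] at h0
    exact h0
  · have e : cyc 12 M = M ^ 4 - M ^ 2 + 1 := by simp [cyc]
    rw [e, Matrix.add_mulVec, Matrix.sub_mulVec, Matrix.one_mulVec, hp 2, hp 4, sub_self,
      zero_add] at h0
    exact h0

end Cfsg.Agent.Lib.Helper68.A10Iso
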