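import Mathlib
import Cfsg.Agent.Lib.Helper15.BG139Defs
import Cfsg.Agent.Lib.Helper31.BG12a
import Cfsg.Agent.Lib.Helper13.BG12B
import Cfsg.Agent.Lib.Helper54.BG134A3a
import Cfsg.Agent.Lib.Helper54.Conj
import Cfsg.Agent.Lib.Helper71.BG10Sub
import Cfsg.Agent.Lib.Helper71.BG10Hall
import Cfsg.Agent.Lib.Helper71.BG11a
import Cfsg.Agent.Lib.Helper11.BG134AB
import Cfsg.Agent.Lib.Helper03.FrobSub
import Cfsg.Agent.Lib.Helper03.CoprimeAbelian
import Cfsg.Agent.S1350
import Cfsg.Agent.S1415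

/-!
# K-S1353-D1 (keystone 135306), steps (7)-(9): the tail of helper71's Lemma D1

Split with helper20 (who does steps (0)-(6)).  `d1_tail`: if `s ∈ τ₃(M) ∩ σ(H)`, `E ≤ H`,
`N_G(S₀) ≤ H`, all primes of `|E₁|` are in `τ₁(H)` and `E₁` acts regularly on `M_σ`, we get a
contradiction from prime action in `H`.
-/

set_option autoImplicit false

namespace Cfsg.Agent.Lib.Helper68.BG14

open Cfsg Cfsg.Agent.Lib.Helper55 Cfsg.Agent.Lib.Helper31.BG134 Cfsg.Agent.Lib.Helper15.BG139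

variable {G : Type*} [Group G] [Finite G]

/-! ### pure lemmas on cyclic subgroups -/

/-- in a finite cyclic group subgroups of the same order coincide -/
theorem eq_of_card_eq_of_isCyclic {A : Type*} [Group A] [Finite A] [IsCyclic A] (H K : Subgroup A)
    (h : Nat.card H = Nat.card K) : H = K := by
  let _ : CommGroup A := IsCyclic.commGroup
  have key : ∀ L : Subgroup A, L = (powMonoidHom (Nat.card L) : A →* A).ker := by
    intro L
    apply Subgroup.eq_of_le_of_card_ge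
    · intro x hx
      rw [MonoidHom.mem_ker, powMonoidHom_apply]
      have := pow_card_eq_one' (G := L) (x := ⟨x, hx⟩)
      exact congrArg Subtype.val this
    · rw [IsCyclic.card_powMonoidHom_ker]
      exact Nat.le_of_dvd Nat.card_pos (Nat.gcd_dvd_right _ _)
  rw [key H, key K, h]

/-- two subgroups of the same order of a cyclic subgroup coincide -/
theorem eq_of_card_eq_of_le_cyclic {C X Y : Subgroup G} (hC : IsCyclic C) (hXC : X ≤ C)
    (hYC : Y ≤ C) (h : Nat.card X = Nat.card Y) : X = Y := by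
  have := hC
  have h1 : X.subgroupOf C = Y.subgroupOf C := by
    apply eq_of_card_eq_of_isCyclic
    rw [Nat.card_congr (Subgroup.subgroupOfEquivOfLe hXC).toEquiv,
      Nat.card_congr (Subgroup.subgroupOfEquivOfLe hYC).toEquiv, h]
  have h2 := congrArg (Subgroup.map C.subtype) h1
  rwa [Subgroup.map_subgroupOf_eq_of_le hXC, Subgroup.map_subgroupOf_eq_of_le hYC] at h2

/-- the normalizer of a cyclic subgroup normalizes each of its subgroups -/
theorem normalizer_le_normalizer_of_isCyclic {C T : Subgroup G} (hC : IsCyclic C) (hTC : T ≤ C) :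
    Subgroup.normalizer (C : Set G) ≤ Subgroup.normalizer (T : Set G) := by
  intro e he
  have hmap : T.map (MulAut.conj e).toMonoidHom = T := by
    apply eq_of_card_eq_of_le_cyclic hC _ hTC
    · exact Subgroup.card_map_of_injective (MulAut.conj e).injective
    · rintro _ ⟨x, hx, rfl⟩
      have := (Subgroup.mem_normalizer_iff.1 he x).1 (hTC hx)
      simpa using this
  rw [Subgroup.mem_normalizer_iff]
  intro x
  constructor
  · intro hx
    rw [← hmap]
    exact ⟨x, hx, by simp⟩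
  · intro hx
    rw [← hmap] at hx
    obtain ⟨x', hx', hxx'⟩ := hx
    have : x' = x := by
      have h1 : e * x' * e⁻¹ = e * x * e⁻¹ := by simpa using hxx'
      have h2 := mul_right_cancel h1
      exact mul_left_cancel h2
    rw [← this]
    exact hx'

/-- in a subgroup of prime order every element is a power of a given non-identity element -/
theorem exists_zpow_eq_of_card_prime {P : Subgroup G} {p : ℕ} (hp : p.Prime)
    (hP : Nat.card P = p) {g : G} (hg : g ∈ P) (hg1 : g ≠ 1) {w : G} (hw : w ∈ P) :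
    ∃ j : ℤ, g ^ j = w := by
  have : Fact p.Prime := ⟨hp⟩
  have hg1' : (⟨g, hg⟩ : P) ≠ 1 := by
    intro h
    exact hg1 (congrArg Subtype.val h)
  have h := zpowers_eq_top_of_prime_card (G := ↥P) hP hg1'
  have hmem : (⟨w, hw⟩ : P) ∈ Subgroup.zpowers (⟨g, hg⟩ : P) := by
    rw [h]
    exact Subgroup.mem_top _
  obtain ⟨j, hj⟩ := Subgroup.mem_zpowers_iff.1 hmem
  refine ⟨j, ?_⟩
  have := congrArg Subtype.val hj
  simpa using this

/-- a nontrivial subgroup of a cyclic `s`-group contains its subgroup of order `s` -/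
theorem le_of_ne_bot_of_cyclic {C B S₀ : Subgroup G} (hC : IsCyclic C) {s : ℕ} [hs : Fact s.Prime]
    (hCs : IsPGroup s C) (hBC : B ≤ C) (hB : B ≠ ⊥) (hSC : S₀ ≤ C) (hSc : Nat.card S₀ = s) :
    S₀ ≤ B := by
  have hBs : IsPGroup s B := hCs.to_le hBC
  have hdvd : s ∣ Nat.card B := by
    rcases hBs.card_eq_or_dvd with h | h
    · exact absurd (Subgroup.card_eq_one.1 h) hB
    · exact h
  obtain ⟨z, hz⟩ := exists_prime_orderOf_dvd_card' (G := ↥B) s hdvd
  have hzs : orderOf (z : G) = s := by rw [Subgroup.orderOf_coe]; exact hz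
  have hXB : Subgroup.zpowers (z : G) ≤ B := by
    rw [Subgroup.zpowers_le]
    exact z.2
  have hXc : Nat.card (Subgroup.zpowers (z : G)) = s := by rw [Nat.card_zpowers, hzs]
  have hX : Subgroup.zpowers (z : G) = S₀ :=
    eq_of_card_eq_of_le_cyclic hC (hXB.trans hBC) hSC (hXc.trans hSc.symm)
  rw [← hX]
  exact hXB

/-- a group of order prime to `s` normalizing a cyclic `s`-group and centralizing its subgroup of
order `s` centralizes it -/
theorem le_centralizer_of_cyclic {C S₀ U : Subgroup G} (hC : IsCyclic C) {s : ℕ}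
    [hs : Fact s.Prime] (hCs : IsPGroup s C) (hSC : S₀ ≤ C) (hSc : Nat.card S₀ = s)
    (hUC : U ≤ Subgroup.normalizer (C : Set G)) (hU : ¬ s ∣ Nat.card U)
    (hUS : S₀ ≤ Subgroup.centralizer (U : Set G)) : C ≤ Subgroup.centralizer (U : Set G) := by
  by_contra hcon
  have hab : ∀ a ∈ C, ∀ b ∈ C, a * b = b * a := by
    intro a ha b hb
    have := hC
    let _ : CommGroup ↥C := IsCyclic.commGroup
    have h := mul_comm (⟨a, ha⟩ : C) ⟨b, hb⟩
    exact congrArg Subtype.val h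
  obtain ⟨h1, -, h3, h4⟩ :=
    Cfsg.Agent.Lib.Helper11.BG134.commutator_fix_eq_bot C U hCs hab hUC hU
  have hB : ⁅C, U⁆ ≠ ⊥ := h4 hcon
  have hS₀B : S₀ ≤ ⁅C, U⁆ := le_of_ne_bot_of_cyclic hC hCs h1 hB hSC hSc
  have hbot : S₀ ≤ ⊥ := by
    rw [← h3]
    exact le_inf hS₀B hUS
  have h1' : Nat.card S₀ = 1 := by
    rw [le_bot_iff.1 hbot]
    exact Subgroup.card_bot
  rw [hSc] at h1'
  exact hs.out.one_lt.ne' h1'

/-! ### the tail of D1 -/

/-- steps (7)-(9) of helper71's Lemma D1 (notes/S1353_plan_helper58.md). -/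
theorem d1_tail (hG : IsMinSimpleOddOrder G) {M E E₁ E₃ S₀ H : Subgroup G}
    (hM : IsCoatom M) (hE : IsComplIn E (sigmaCore M) M)
    (hE₁ : IsPiHallOf (tau1 M) E₁ E) (hE₃ : IsPiHallOf (tau3 M) E₃ E)
    (hτ2 : ∀ q : ℕ, q ∉ tau2 M) {s : ℕ} (hs : s ∈ tau3 M) (hS₀E : S₀ ≤ E)
    (hS₀c : Nat.card S₀ = s) (hH : IsCoatom H) (hEH : E ≤ H)
    (hNH : Subgroup.normalizer (S₀ : Set G) ≤ H) (hsH : s ∈ sigma H)
    (h5 : ∀ u : ℕ, u.Prime → u ∣ Nat.card E₁ → u ∈ tau1 H)
    (h4 : ∀ x ∈ E₁, x ≠ 1 → sigmaCore M ⊓ Subgroup.centralizer ({x} : Set G) = ⊥)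
    (hpaH : ∀ EH EH₁ : Subgroup G, IsComplIn EH (sigmaCore H) H →
      IsPiHallOf (tau1 H) EH₁ EH → PrimeAct H EH₁) : False := by
  classical
  have hsp : Fact s.Prime := ⟨hs.1⟩
  have hEM : E ≤ M := hE.1
  have hHallM := (Cfsg.Agent.S1350.result hG M hM).1
  have hHallH := (Cfsg.Agent.S1350.result hG H hH).1
  have hEσ := Cfsg.Agent.Lib.Helper13.BG12.complIn_prime_not_mem_sigma hHallM hE
  have h15 := Cfsg.Agent.S1415.result hG M hM E hE
  have hE₁c : IsCyclic E₁ := h15.2.1 E₁ hE₁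
  obtain ⟨hE₃c, hE₃d, hE₃n⟩ := h15.2.2 E₃ hE₃
  -- `E = E₃ E₁`
  have hfac : ∀ x ∈ E, ∃ a ∈ E₃, ∃ b ∈ E₁, x = a * b := by
    have hsup : E₃ ⊔ E₁ ≤ E := sup_le hE₃.1 hE₁.1
    have hrel : (E₃ ⊔ E₁).relIndex E = 1 := by
      by_contra hne
      obtain ⟨t, ht, htd⟩ := Nat.exists_prime_and_dvd hne
      have htE : t ∣ Nat.card E := htd.trans (Subgroup.relIndex_dvd_card _ _)
      have htM : t ∣ Nat.card M := htE.trans (Subgroup.card_dvd_of_le hEM)
      have hd1 : (E₃ ⊔ E₁).relIndex E ∣ E₁.relIndex E :=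
        Dvd.intro_left _ (Subgroup.relIndex_mul_relIndex E₁ (E₃ ⊔ E₁) E le_sup_right hsup)
      have hd3 : (E₃ ⊔ E₁).relIndex E ∣ E₃.relIndex E :=
        Dvd.intro_left _ (Subgroup.relIndex_mul_relIndex E₃ (E₃ ⊔ E₁) E le_sup_left hsup)
      rcases Cfsg.Agent.Lib.Helper54.BG134.tau_cases hG hM ht htM (hEσ t ht htE) with h | h | h
      · exact hE₁.2.2 t ht h (htd.trans hd1)
      · exact hτ2 t h
      · exact hE₃.2.2 t ht h (htd.trans hd3)
    have hle : E ≤ E₃ ⊔ E₁ := Subgroup.relIndex_eq_one.mp hrel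
    intro x hx
    exact Cfsg.Agent.Lib.Helper54.exists_mul_of_mem_sup_of_le_normalizer (hE₁.1.trans hE₃n)
      (hle hx)
  -- the Sylow `s`-subgroup `Sh` of `E`
  have hS₀s : IsPGroup s S₀ := IsPGroup.of_card (n := 1) (by rw [hS₀c, pow_one])
  obtain ⟨Sh, hSh, hS₀Sh⟩ := exists_isSylowIn_ge (p := s) hS₀E hS₀s
  have hShprime : ∀ q : ℕ, q.Prime → q ∣ Nat.card Sh → q = s := by
    intro q hq hqd
    obtain ⟨k, hk⟩ := (IsPGroup.iff_card.1 hSh.2.1)
    rw [hk] at hqd
    exact (Nat.prime_dvd_prime_iff_eq hq hs.1).1 (hq.dvd_of_dvd_pow hqd)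
  have hShE₃ : Sh ≤ E₃ :=
    Cfsg.Agent.Lib.Helper71.BG10.le_of_isPiHallOf_normal hE₃ hE₃n hSh.1
      (fun q hq hqd => by rw [hShprime q hq hqd]; exact hs)
  have hShc : IsCyclic Sh := by
    have := hE₃c
    exact Subgroup.isCyclic_of_le hShE₃
  have hE₃ab : ∀ a ∈ E₃, ∀ b ∈ E₃, a * b = b * a := by
    intro a ha b hb
    have := hE₃c
    let _ : CommGroup ↥E₃ := IsCyclic.commGroup
    have h := mul_comm (⟨a, ha⟩ : E₃) ⟨b, hb⟩
    exact congrArg Subtype.val h
  have hS₀ne : S₀ ≠ ⊥ := by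
    intro h
    rw [h, Subgroup.card_bot] at hS₀c
    exact hs.1.one_lt.ne hS₀c
  -- (7) `E₁` does not centralize `Sh`
  have hnc : ¬ E₁ ≤ Subgroup.centralizer (Sh : Set G) := by
    intro hc
    have hcomm : IsMulCommutative Sh := by
      refine ⟨⟨fun a b => ?_⟩⟩
      apply Subtype.ext
      exact hE₃ab a (hShE₃ a.2) b (hShE₃ b.2)
    have hcop : (Nat.card Sh).Coprime (Sh.relIndex E) := by
      obtain ⟨k, hk⟩ := (IsPGroup.iff_card.1 hSh.2.1)
      rw [hk]
      exact Nat.Coprime.pow_left k ((Nat.Prime.coprime_iff_not_dvd hs.1).2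
        (Cfsg.Agent.Lib.Helper71.BG10.sylow_not_dvd_relIndex hSh))
    have hbot := Cfsg.Agent.Lib.Helper03.commutator_inf_centralizer_inf_eq_bot_of_abelian_hall
      Sh E hSh.1 hcomm hcop
    have hShC : Sh ≤ Subgroup.centralizer (E : Set G) := by
      intro x hx
      rw [Subgroup.mem_centralizer_iff]
      intro e he
      obtain ⟨a, ha, b, hb, rfl⟩ := hfac e he
      have h1 : a * x = x * a := hE₃ab a ha x (hShE₃ hx)
      have h2 : b * x = x * b := by
        have := Subgroup.mem_centralizer_iff.1 (hc hb) x hx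
        exact this.symm
      rw [mul_assoc, h2, ← mul_assoc, h1, mul_assoc]
    have : Sh ≤ ⊥ := by
      rw [← hbot]
      exact le_inf (le_inf (hShE₃.trans hE₃d) hShC) le_rfl
    exact hS₀ne (le_bot_iff.1 (hS₀Sh.trans this))
  -- a subgroup `U` of prime order of `E₁`
  have hE₁ne : Nat.card E₁ ≠ 1 := by
    intro h
    apply hnc
    rw [Subgroup.card_eq_one.1 h]
    exact bot_le
  obtain ⟨u, hu, hud⟩ := Nat.exists_prime_and_dvd hE₁ne
  have hup : Fact u.Prime := ⟨hu⟩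
  obtain ⟨y, hy⟩ := exists_prime_orderOf_dvd_card' (G := ↥E₁) u hud
  have hyu : orderOf (y : G) = u := by rw [Subgroup.orderOf_coe]; exact hy
  have hyE₁ : (y : G) ∈ E₁ := y.2
  have hy1 : (y : G) ≠ 1 := by
    intro h
    rw [h, orderOf_one] at hyu
    exact hu.one_lt.ne hyu
  set U : Subgroup G := Subgroup.zpowers (y : G) with hU
  have hUc : Nat.card U = u := by rw [hU, Nat.card_zpowers, hyu]
  have hUE₁ : U ≤ E₁ := by
    rw [hU, Subgroup.zpowers_le]
    exact hyE₁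
  have hyU : (y : G) ∈ U := Subgroup.mem_zpowers _
  have hCU : Subgroup.centralizer (U : Set G) ≤ Subgroup.centralizer ({(y : G)} : Set G) :=
    Subgroup.centralizer_le (by
      intro z hz
      rw [Set.mem_singleton_iff] at hz
      rw [hz]
      exact hyU)
  have hMσU : sigmaCore M ⊓ Subgroup.centralizer (U : Set G) = ⊥ := by
    rw [eq_bot_iff, ← h4 (y : G) hyE₁ hy1]
    exact inf_le_inf_left _ hCU
  have huH : u ∈ tau1 H := h5 u hu hud
  have huM : u ∈ tau1 M := hE₁.2.1 u hu hud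
  have hus : u ≠ s := by
    intro h
    rw [h] at huM
    exact Cfsg.Agent.Lib.Helper54.BG134.not_tau1_and_tau3 huM hs
  have hsu : ¬ s ∣ Nat.card U := by
    rw [hUc]
    intro h
    exact hus ((Nat.prime_dvd_prime_iff_eq hs.1 hu).1 h).symm
  -- `E` normalizes `S₀` and `Sh`
  have hES₀ : E ≤ Subgroup.normalizer (S₀ : Set G) :=
    hE₃n.trans (normalizer_le_normalizer_of_isCyclic hE₃c (hS₀Sh.trans hShE₃))
  have hESh : E ≤ Subgroup.normalizer (Sh : Set G) :=
    hE₃n.trans (normalizer_le_normalizer_of_isCyclic hE₃c hShE₃)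
  have hUE : U ≤ E := hUE₁.trans hE₁.1
  -- (8a) `U` centralizes `S₀`
  have hS₀U : S₀ ≤ Subgroup.centralizer (U : Set G) := by
    by_contra hcon
    have hUn : ∀ e ∈ U, ∀ x ∈ S₀, e * x * e⁻¹ ∈ S₀ := by
      intro e he x hx
      exact (Subgroup.mem_normalizer_iff.1 (hES₀ (hUE he)) x).1 hx
    have hfpf : ∀ e ∈ U, e ≠ 1 → ∀ x ∈ S₀, e * x = x * e → x = 1 := by
      intro e he he1 x hx hex
      by_contra hx1
      apply hcon
      intro z hz
      rw [Subgroup.mem_centralizer_iff]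
      intro w hw
      obtain ⟨i, rfl⟩ := exists_zpow_eq_of_card_prime hs.1 hS₀c hx hx1 hz
      obtain ⟨j, rfl⟩ := exists_zpow_eq_of_card_prime hu hUc he he1 hw
      have hc : Commute e x := hex
      exact (hc.zpow_zpow j i).eq
    have hnil : Group.IsNilpotent S₀ := hS₀s.isNilpotent
    have hsupE : S₀ ⊔ U ≤ E := sup_le hS₀E hUE
    have hHn : ∀ x ∈ S₀ ⊔ U, ∀ h ∈ sigmaCore M, x * h * x⁻¹ ∈ sigmaCore M := by
      intro x hx h hh
      have hxN := Cfsg.Agent.Lib.Helper71.BG11.le_normalizer_sigmaCore M (hEM (hsupE hx))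
      exact (Subgroup.mem_normalizer_iff.1 hxN h).1 hh
    have hMσle : sigmaCore M ≤ M := Cfsg.Agent.Lib.Helper71.BG11.sigmaCore_le M
    have hMσtop : sigmaCore M ≠ ⊤ := fun h => hM.1 (top_le_iff.mp (h ▸ hMσle))
    have hsolv : Group.IsSolvable ↥(sigmaCore M) := ms_solvable hG hMσtop
    have hcopE : (Nat.card (sigmaCore M)).Coprime (Nat.card E) :=
      (Cfsg.Agent.Lib.Helper13.BG12.coprime_of_primes_disjoint hEσ hHallM.2.1).symm
    have hcop : (Nat.card (sigmaCore M)).Coprime (Nat.card ↥(S₀ ⊔ U)) :=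
      Nat.Coprime.coprime_dvd_right (Subgroup.card_dvd_of_le hsupE) hcopE
    have hW := Cfsg.Agent.Lib.Helper03.FrobSub.wielandt_sub S₀ U (sigmaCore M) hUn hfpf hnil hHn
      hsolv hcop
    have hbot2 : sigmaCore M ⊓ Subgroup.centralizer ((S₀ ⊔ U : Subgroup G) : Set G) = ⊥ := by
      rw [eq_bot_iff, ← hMσU]
      exact inf_le_inf_left _ (Subgroup.centralizer_le (by
        intro z hz
        exact (le_sup_right : U ≤ S₀ ⊔ U) hz))
    rw [hbot2, hMσU, Subgroup.card_bot, one_pow, one_mul, one_mul] at hW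
    have hMσS₀ : sigmaCore M ⊓ Subgroup.centralizer (S₀ : Set G) = sigmaCore M :=
      Subgroup.eq_of_le_of_card_ge inf_le_left hW.le
    have hMσH : sigmaCore M ≤ H := by
      intro x hx
      have hx' : x ∈ sigmaCore M ⊓ Subgroup.centralizer (S₀ : Set G) := by rw [hMσS₀]; exact hx
      exact hNH (Subgroup.centralizer_le_normalizer _ hx'.2)
    have hMH : M ≤ H := by
      intro m hm
      obtain ⟨e, he, a, ha, rfl⟩ := hE.2.2.2 m hm
      exact H.mul_mem (hEH he) (hMσH ha)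
    have hMeq : M = H := by
      by_contra hne
      exact hH.1 (hM.2 H (lt_of_le_of_ne hMH hne))
    rw [← hMeq] at hsH
    exact hs.2.1 hsH
  -- (8b) `U` centralizes `Sh`
  have hShU : Sh ≤ Subgroup.centralizer (U : Set G) :=
    le_centralizer_of_cyclic hShc hSh.2.1 hS₀Sh hS₀c (hUE.trans hESh) hsu hS₀U
  -- (9) prime action in `H`
  have hShHσ : Sh ≤ sigmaCore H :=
    Cfsg.Agent.Lib.Helper71.BG10.le_of_isPiHallOf_normal hHallH
      (Cfsg.Agent.Lib.Helper71.BG11.le_normalizer_sigmaCore H) (hSh.1.trans hEH)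
      (fun q hq hqd => by rw [hShprime q hq hqd]; exact hsH)
  obtain ⟨EH, hEHc, hE₁EH⟩ := Cfsg.Agent.Lib.Helper13.BG12.exists_complIn_ge hG hH hHallH
    (hE₁.1.trans hEH) (fun q hq hqd => (h5 q hq hqd).2.1)
  have hEHtop : EH ≠ ⊤ := fun h => hH.1 (top_le_iff.mp (h ▸ hEHc.1))
  have hEHsolv : Group.IsSolvable ↥EH := ms_solvable hG hEHtop
  obtain ⟨EH₁, hEH₁, hE₁EH₁⟩ := Cfsg.Agent.Lib.Helper54.BG134.exists_isPiHallOf_ge hEHsolv
    (tau1 H) hE₁EH (fun q hq hqd => h5 q hq hqd)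
  have hpa := hpaH EH EH₁ hEHc hEH₁ (y : G) (hE₁EH₁ hyE₁) hy1
  apply hnc
  rw [Subgroup.le_centralizer_iff]
  intro x hx
  have hx1 : x ∈ sigmaCore H ⊓ Subgroup.centralizer ({(y : G)} : Set G) :=
    ⟨hShHσ hx, hCU (hShU hx)⟩
  exact Subgroup.centralizer_le (by exact_mod_cast hE₁EH₁) (hpa hx1)

end Cfsg.Agent.Lib.Helper68.BG14
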