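import Mathlib

set_option autoImplicit false

namespace Cfsg.Agent.Lib.Helper68

theorem orderOf_conj' {G : Type*} [Group G] (c x : G) : orderOf (c * x * c⁻¹) = orderOf x := by
  have := orderOf_injective (MulAut.conj c).toMonoidHom (MulAut.conj c).injective x
  simpa [MulAut.conj_apply] using this

theorem inv_eq_pow_orderOf_sub_one {G : Type*} [Group G] [Finite G] (x : G) :
    x⁻¹ = x ^ (orderOf x - 1) := by
  rw [inv_eq_iff_mul_eq_one, ← pow_succ']
  have hpos : 0 < orderOf x := orderOf_pos x
  rw [Nat.sub_add_cancel hpos, pow_orderOf_eq_one]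

end Cfsg.Agent.Lib.Helper68
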