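import Mathlib

set_option autoImplicit false

namespace Cfsg.Agent.Lib.Helper68

/-- A fixed-point-free involutory endomorphism of a finite group inverts every element. -/
theorem fpf_involution_inverts {Q : Type*} [Group Q] [Finite Q] (φ : Q →* Q)
    (hfpf : ∀ q, φ q = q → q = 1) (hinv : ∀ q, φ (φ q) = q) : ∀ q, φ q = q⁻¹ := by
  have hinj : Function.Injective (fun q : Q => q⁻¹ * φ q) := by
    intro a b hab
    simp only at hab
    have h1 : φ (b * a⁻¹) = b * a⁻¹ := by
      rw [map_mul, map_inv]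
      have h2 : φ b = b * (a⁻¹ * φ a) := by rw [hab]; group
      rw [h2]; group
    have h3 := hfpf _ h1
    have : b = a := by
      have := mul_inv_eq_one.1 h3
      exact this
    exact this.symm
  have hsurj : Function.Surjective (fun q : Q => q⁻¹ * φ q) := Finite.surjective_of_injective hinj
  intro q
  obtain ⟨x, hx⟩ := hsurj q
  simp only at hx
  rw [← hx, map_mul, map_inv, hinv, mul_inv_rev, inv_inv]

theorem fpf_involution_comm {Q : Type*} [Group Q] [Finite Q] (φ : Q →* Q)
    (hfpf : ∀ q, φ q = q → q = 1) (hinv : ∀ q, φ (φ q) = q) : ∀ a b : Q, a * b = b * a := by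
  have h := fpf_involution_inverts φ hfpf hinv
  intro a b
  have h1 : φ (a * b) = φ a * φ b := map_mul φ a b
  rw [h, h, h] at h1
  have h2 : (a * b)⁻¹⁻¹ = (a⁻¹ * b⁻¹)⁻¹ := by rw [h1]
  rw [inv_inv, mul_inv_rev, inv_inv, inv_inv] at h2
  exact h2

theorem fpf_involution_odd {Q : Type*} [Group Q] [Finite Q] (φ : Q →* Q)
    (hfpf : ∀ q, φ q = q → q = 1) (hinv : ∀ q, φ (φ q) = q) : ¬ 2 ∣ Nat.card Q := by
  have h := fpf_involution_inverts φ hfpf hinv
  intro hdvd
  have : Fact (Nat.Prime 2) := ⟨Nat.prime_two⟩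
  obtain ⟨q, hq⟩ := exists_prime_orderOf_dvd_card' 2 hdvd
  have hq2 : q ^ 2 = 1 := by rw [← hq]; exact pow_orderOf_eq_one q
  have hqinv : q⁻¹ = q := by
    rw [inv_eq_iff_mul_eq_one, ← sq]; exact hq2
  have : q = 1 := hfpf q (by rw [h, hqinv])
  rw [this, orderOf_one] at hq
  exact absurd hq (by norm_num)

end Cfsg.Agent.Lib.Helper68
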