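import Cfsg.Agent.Lib.Helper88.FusionRD13
import Cfsg.Agent.S5082
import Cfsg.Agent.Lib.Helper03.PResidual
import Cfsg.Agent.Lib.Helper27.FusGenAlp
import Cfsg.Agent.Lib.Helper89.FusionConj
import Cfsg.Agent.Lib.Helper87.FusionAut
import Cfsg.Agent.Lib.Helper87.FusionNormalizer
import Cfsg.Agent.Lib.Helper87.FusionSaturated

/-!
# K-S5293-C: Alperin criterion for `E ≤ C_F(Y)`
-/

set_option autoImplicit false

namespace Cfsg.Agent.Lib.Helper68

open Cfsg Cfsg.FusionSystem

variable {Ω : Type*} [Group Ω]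

/-- The common maps of a fusion system over `T` and a fusion system over `U ≥ T`. -/
def infSystem {T U : Subgroup Ω} (hTU : T ≤ U) (E : FusionSystem T) (C : FusionSystem U) :
    FusionSystem T where
  Hom P := {φ | φ ∈ E.Hom P ∧ φ ∈ C.Hom P}
  le_of_mem h := E.le_of_mem h.1
  injective_of_mem h := E.injective_of_mem h.1
  conj_mem hP hg := ⟨E.conj_mem hP hg, C.conj_mem (hP.trans hTU) (hTU hg)⟩
  comp_mem hφ hψ h := ⟨E.comp_mem hφ.1 hψ.1 h, C.comp_mem hφ.2 hψ.2 h⟩
  inv_mem := by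
    intro P φ hφ
    obtain ⟨ψ, hψ, hψx⟩ := E.inv_mem hφ.1
    obtain ⟨ψ', hψ', hψx'⟩ := C.inv_mem hφ.2
    have hEq : ψ = ψ' := by
      ext ⟨y, x, rfl⟩
      rw [hψx, hψx']
    exact ⟨ψ, ⟨hψ, hEq ▸ hψ'⟩, hψx⟩

/-- K-S5293-C. -/
theorem hom_subset_centralizerHom_of_aut {S : Subgroup Ω} [Finite S] (p : ℕ) [Fact p.Prime]
    (hS : IsPGroup p S)
    (F : FusionSystem S) {T : Subgroup Ω} (hTS : T ≤ S) (E : FusionSystem T)
    (hEsat : E.IsSaturated p)
    (hEF : E.IsSubsystemOf F) {Y : Subgroup Ω} (hY : Y ≤ centralizerIn S T)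
    (h : ∀ Q : Subgroup Ω, E.IsCentric Q → E.IsFullyNormalized Q → ∀ α : MulAut Q,
      α ∈ E.autGroup Q →
      ∀ m : ℕ, α ^ m = 1 → m.Coprime p →
        ∃ ψ ∈ F.Hom (Q ⊔ Y), (∀ x : Q, ψ (Subgroup.inclusion le_sup_left x) = ((α x : Q) : Ω)) ∧
          ∀ y : Y, ψ (Subgroup.inclusion le_sup_right y) = y) :
    ∀ P : Subgroup Ω, E.Hom P ⊆ F.centralizerHom Y P := by
  have hYS : Y ≤ S := fun y hy => (hY hy).1
  have hTC : T ≤ centralizerIn S Y := by
    intro t ht
    refine ⟨hTS ht, ?_⟩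
    show t ∈ Subgroup.centralizer (Y : Set Ω)
    rw [Subgroup.mem_centralizer_iff]
    intro y hy
    have h1 : y ∈ Subgroup.centralizer (T : Set Ω) := (hY hy).2
    rw [Subgroup.mem_centralizer_iff] at h1
    exact (h1 t ht).symm
  have : Finite T := Finite.of_injective (Subgroup.inclusion hTS) (Subgroup.inclusion_injective hTS)
  have hT : IsPGroup p T := hS.to_le hTS
  let C := Cfsg.Agent.Lib.Helper87.centralizerSystem F Y hYS
  have hC : ∀ P, C.Hom P = F.centralizerHom Y P :=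
    Cfsg.Agent.Lib.Helper87.centralizerSystem_isCentralizerSystem F Y hYS
  let EY := infSystem hTC E C
  have key : E ≤ EY := by
    refine Cfsg.Agent.S5082.result p hT E hEsat EY ?_
    intro Q hQ
    have hcen : E.IsCentric Q ∧ E.IsFullyNormalized Q := by
      rcases hQ with rfl | hess
      · exact ⟨Cfsg.Agent.Lib.Helper27.FusGen.isCentric_self E,
          Cfsg.Agent.Lib.Helper89.isFullyNormalized_self E⟩
      · exact ⟨hess.1, hess.2.1⟩
    have hQT : Q ≤ T := hcen.1.1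
    have haut : E.IsFullyAutomized p Q :=
      (Cfsg.Agent.Lib.Helper87.fullyNormalized_props p hT E hEsat Q hcen.2).2
    obtain ⟨_, R, hR⟩ := haut
    have : Finite Q := Finite.of_injective (Subgroup.inclusion hQT) (Subgroup.inclusion_injective hQT)
    have htop := Cfsg.Agent.Lib.Helper03.sylow_sup_pResidual_eq_top R
    have hK1 : (R : Subgroup (E.autGroup Q)) ≤ (EY.autGroup Q).subgroupOf (E.autGroup Q) := by
      rw [hR]
      intro β hβ
      rw [Subgroup.mem_subgroupOf] at hβ ⊢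
      refine (Subgroup.closure_le _).2 ?_ hβ
      rintro γ ⟨g, hg, hγ⟩
      apply Subgroup.subset_closure
      show Q.subtype.comp γ.toMonoidHom ∈ EY.Hom Q
      have hEq : Q.subtype.comp γ.toMonoidHom = conjHom Q g := by
        ext x
        simp [conjHom, hγ x]
      rw [hEq]
      exact EY.conj_mem hQT hg
    have hK2 : pResidual p (E.autGroup Q) ≤ (EY.autGroup Q).subgroupOf (E.autGroup Q) := by
      unfold pResidual
      rw [Subgroup.closure_le]
      intro β hβ
      rw [SetLike.mem_coe, Subgroup.mem_subgroupOf]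
      have hpow : (β : MulAut Q) ^ orderOf β = 1 := by
        rw [← Subgroup.coe_pow, pow_orderOf_eq_one]
        rfl
      obtain ⟨ψ, hψ, hψ1, hψ2⟩ := h Q hcen.1 hcen.2 β.1 β.2 (orderOf β) hpow hβ
      apply Subgroup.subset_closure
      show Q.subtype.comp (β.1).toMonoidHom ∈ EY.Hom Q
      have hE1 : Q.subtype.comp (β.1).toMonoidHom ∈ E.Hom Q :=
        (Cfsg.Agent.Lib.Helper87.mem_autGroup_iff E hQT).1 β.2
      refine ⟨hE1, ?_⟩
      rw [hC Q]
      refine ⟨hEF Q hE1, hQT.trans hTC, fun x => hTC (hQT (β.1 x).2), ψ, hψ, ?_, hψ2⟩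
      intro x
      rw [hψ1 x]
      rfl
    intro α hα
    have hmem : (⟨α, hα⟩ : E.autGroup Q) ∈
        (R : Subgroup (E.autGroup Q)) ⊔ pResidual p (E.autGroup Q) := by
      rw [htop]
      trivial
    have := (sup_le hK1 hK2) hmem
    exact Subgroup.mem_subgroupOf.1 this
  intro P φ hφ
  have h2 := (key P hφ).2
  rw [hC P] at h2
  exact h2

end Cfsg.Agent.Lib.Helper68
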