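import Mathlib

/-!
# K-GS pack (S4840), leaf K3 `card_eq_sq_of_quaternion_action` (keystone 484009), parallel hand helper68
-/

set_option autoImplicit false

namespace Cfsg.Agent.Lib.Helper68.GS

universe u

/-- K3: the eigenspace trick. -/
theorem card_eq_sq_of_quaternion_action {V : Type u} [CommGroup V] [Finite V]
    (hV3 : ∀ v : V, v ^ 3 = 1) (i j : MulAut V)
    (hi : ∀ v : V, i (i v) = v⁻¹) (hj : ∀ v : V, j (j v) = v⁻¹)
    (hij : ∀ v : V, i (j v) = (j (i v))⁻¹)
    (U : Subgroup V) (hU : ∀ v : V, v ∈ U ↔ i v * j v = v) :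
    Nat.card V = Nat.card U * Nat.card U := by
  -- basic facts
  have hinv2 : ∀ v : V, v⁻¹ * v⁻¹ = v := by
    intro v
    have h := hV3 v
    rw [pow_succ, pow_two] at h
    have : v = (v * v)⁻¹ := by
      rw [eq_inv_iff_mul_eq_one, mul_comm]; exact h
    rw [← mul_inv]; exact this.symm
  have hsq1 : ∀ c : V, c = c⁻¹ → c = 1 := by
    intro c hc
    have h := hinv2 c
    rw [← hc] at h
    -- c * c = c
    exact mul_left_cancel (a := c) (by rw [h, mul_one])
  set s : V → V := fun v => i v * j v with hs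
  have hs_mul : ∀ a b, s (a * b) = s a * s b := by
    intro a b
    simp only [hs, map_mul]
    exact mul_mul_mul_comm _ _ _ _
  have hs_inv : ∀ a, s a⁻¹ = (s a)⁻¹ := by
    intro a
    simp only [hs, map_inv, mul_inv]
  have hss : ∀ v, s (s v) = v := by
    intro v
    simp only [hs, map_mul, hi, hj, hij]
    rw [mul_assoc, inv_mul_cancel_left]
    exact hinv2 v
  -- the quaternion product k = i ∘ j
  have hjij : ∀ v, j (i (j v)) = i v := by
    intro v
    rw [hij v, map_inv, hj, inv_inv]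
  have hiji : ∀ v, i (j (i v)) = j v := by
    intro v
    rw [hij (i v), hi, map_inv, inv_inv]
  have hsk : ∀ v, s (i (j v)) = (j v)⁻¹ * i v := by
    intro v
    simp only [hs]
    rw [hi, hjij]
  have hks : ∀ v, i (j (s v)) = j v * (i v)⁻¹ := by
    intro v
    simp only [hs, map_mul]
    rw [hiji, hj, map_inv]
  have hsk' : ∀ v, s (i (j v)) = (i (j (s v)))⁻¹ := by
    intro v
    rw [hsk, hks, mul_inv, inv_inv, mul_comm]
  -- the second eigenspace
  let U' := {v : V // s v = v⁻¹}
  have hUmem : ∀ v, v ∈ U ↔ s v = v := hU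
  -- V ≃ U × U'
  have hcard1 : Nat.card V = Nat.card U * Nat.card U' := by
    rw [← Nat.card_prod]
    symm
    apply Nat.card_congr
    refine Equiv.ofBijective (fun x : U × U' => (x.1 : V) * (x.2 : V)) ⟨?_, ?_⟩
    · rintro ⟨⟨a, ha⟩, ⟨b, hb⟩⟩ ⟨⟨a', ha'⟩, ⟨b', hb'⟩⟩ h
      simp only at h
      have hsa := (hUmem a).mp ha
      have hsa' := (hUmem a').mp ha'
      -- c = a'⁻¹ * a = b' * b⁻¹
      have hc : a'⁻¹ * a = b' * b⁻¹ := by
        rw [inv_mul_eq_iff_eq_mul, ← mul_assoc, eq_mul_inv_iff_mul_eq]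
        exact h
      have hcU : s (a'⁻¹ * a) = a'⁻¹ * a := by rw [hs_mul, hs_inv, hsa, hsa']
      have hcU' : s (b' * b⁻¹) = (b' * b⁻¹)⁻¹ := by
        rw [hs_mul, hs_inv, hb, hb', mul_inv]
      rw [← hc, hcU] at hcU'
      have h1 := hsq1 _ hcU'
      have hab : a = a' := by
        rw [inv_mul_eq_one] at h1; exact h1.symm
      have hbb : b = b' := by
        rw [hc, mul_inv_eq_one] at h1; exact h1.symm
      subst hab; subst hbb; rfl
    · intro v
      have ha0 : s (v * s v) = v * s v := by rw [hs_mul, hss, mul_comm]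
      have hb0 : s (v * (s v)⁻¹) = (v * (s v)⁻¹)⁻¹ := by
        rw [hs_mul, hs_inv, hss, mul_inv, inv_inv, mul_comm]
      refine ⟨(⟨(v * s v)⁻¹, U.inv_mem ((hUmem _).mpr ha0)⟩,
        ⟨(v * (s v)⁻¹)⁻¹, by rw [hs_inv, hb0]⟩), ?_⟩
      simp only
      rw [← mul_inv, mul_mul_mul_comm, mul_inv_cancel, mul_one, mul_inv]
      rw [hinv2]
  -- |U| = |U'|
  have hkinj : Function.Injective (fun v : V => i (j v)) := fun a b h => j.injective (i.injective h)
  have h1 : Nat.card U ≤ Nat.card U' := by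
    apply Nat.card_le_card_of_injective (fun u : U => (⟨i (j (u : V)), by
      have hu := (hUmem u).mp u.2
      rw [hsk', hu]⟩ : U'))
    intro a b h
    have := congrArg Subtype.val h
    exact Subtype.ext (hkinj this)
  have h2 : Nat.card U' ≤ Nat.card U := by
    apply Nat.card_le_card_of_injective (fun u : U' => (⟨i (j (u : V)), by
      rw [hUmem, hsk', u.2, map_inv, map_inv, inv_inv]⟩ : U))
    intro a b h
    have := congrArg Subtype.val h
    exact Subtype.ext (hkinj this)
  rw [hcard1, le_antisymm h2 h1]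

end Cfsg.Agent.Lib.Helper68.GS
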