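import Cfsg.Agent.Lib.Helper68.H4A1Core
import Cfsg.Agent.Lib.Helper68.H4P2

/-!
# K-H4-A1 (keystone 422110, S4221, architect helper6): `Cent G t` is transitive on the pairs `(p, q)` of
moved points with `q ∉ {p, t p}`; exact spec signature
-/

set_option autoImplicit false
open Equiv

namespace Cfsg.Agent.Lib.Helper68.Hall4
open Cfsg.Agent.Lib.Helper06.Hall4

variable {α : Type*} [Fintype α] [DecidableEq α]

/-- **LEAF A1 (422110).** -/
theorem cent_trans_pairs (G : Subgroup (Perm α)) (hG : Trans4 G) (hodd : Odd4 G)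
    {t : Perm α} (ht : t ∈ G) (t2 : t * t = 1) {a b p q : α}
    (ha : t a ≠ a) (hb : t b ≠ b) (hba : b ≠ a) (hbta : b ≠ t a)
    (hp : t p ≠ p) (hq : t q ≠ q) (hqp : q ≠ p) (hqtp : q ≠ t p) :
    ∃ g ∈ Cent G t, g a = p ∧ g b = q := by
  apply cent_trans_pairs_of G hG ?_ ht t2 ha hb hba hbta hp hq hqp hqtp
  intro a b c d hab hac had hbc hbd hcd t t' ht ht' t2 t2' h1 h2 h3 h4
  obtain ⟨u, hu, hconj, -⟩ := conj_of_agree G hodd hab hac had hbc hbd hcd ht ht' t2 t2' h1 h2 h3 h4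
  exact ⟨u, hu, hconj⟩

end Cfsg.Agent.Lib.Helper68.Hall4
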