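import Cfsg.Agent.Lib.Helper06.Hall4.Defs

/-!
# K-H4-A1 core (keystone 422110, S4221, architect helper6): `Cent G t` is transitive on the pairs
`(p, q)` of moved points with `q ∉ {p, t p}`.  LEAF P2 (`conj_of_agree`, first clause) is a hypothesis here.
-/

set_option autoImplicit false
open Equiv

namespace Cfsg.Agent.Lib.Helper68.Hall4
open Cfsg.Agent.Lib.Helper06.Hall4

variable {α : Type*} [Fintype α] [DecidableEq α]

theorem invol_apply_apply {t : Perm α} (t2 : t * t = 1) (z : α) : t (t z) = z := by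
  have h := congrArg (fun f : Perm α => f z) t2
  simpa using h

/-- the four points `p, t p, q, t q` are distinct -/
theorem four_distinct {t : Perm α} (t2 : t * t = 1) {p q : α} (hp : t p ≠ p) (hq : t q ≠ q)
    (hqp : q ≠ p) (hqtp : q ≠ t p) :
    p ≠ t p ∧ p ≠ q ∧ p ≠ t q ∧ t p ≠ q ∧ t p ≠ t q ∧ q ≠ t q := by
  refine ⟨hp.symm, hqp.symm, ?_, hqtp.symm, ?_, hq.symm⟩
  · intro h
    apply hqtp
    rw [h, invol_apply_apply t2]
  · intro h
    exact hqp (t.injective h).symm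

/-- **core of LEAF A1.** -/
theorem cent_trans_pairs_of (G : Subgroup (Perm α)) (hG : Trans4 G)
    (hP2 : ∀ {a b c d : α}, a ≠ b → a ≠ c → a ≠ d → b ≠ c → b ≠ d → c ≠ d →
      ∀ {t t' : Perm α}, t ∈ G → t' ∈ G → t * t = 1 → t' * t' = 1 →
        t' a = t a → t' b = t b → t' c = t c → t' d = t d →
        ∃ u ∈ FS G {a, b, c, d}, u * t * u⁻¹ = t')
    {t : Perm α} (ht : t ∈ G) (t2 : t * t = 1) {a b p q : α}
    (ha : t a ≠ a) (hb : t b ≠ b) (hba : b ≠ a) (hbta : b ≠ t a)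
    (hp : t p ≠ p) (hq : t q ≠ q) (hqp : q ≠ p) (hqtp : q ≠ t p) :
    ∃ g ∈ Cent G t, g a = p ∧ g b = q := by
  have htt := invol_apply_apply t2
  obtain ⟨a1, a2, a3, a4, a5, a6⟩ := four_distinct t2 ha hb hba hbta
  obtain ⟨p1, p2, p3, p4, p5, p6⟩ := four_distinct t2 hp hq hqp hqtp
  obtain ⟨g₀, hg₀, e1, e2, e3, e4⟩ :=
    hG a (t a) b (t b) p (t p) q (t q) a1 a2 a3 a4 a5 a6 p1 p2 p3 p4 p5 p6
  -- inverse images
  have i1 : g₀⁻¹ p = a := by rw [Perm.inv_eq_iff_eq]; exact e1.symm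
  have i2 : g₀⁻¹ (t p) = t a := by rw [Perm.inv_eq_iff_eq]; exact e2.symm
  have i3 : g₀⁻¹ q = b := by rw [Perm.inv_eq_iff_eq]; exact e3.symm
  have i4 : g₀⁻¹ (t q) = t b := by rw [Perm.inv_eq_iff_eq]; exact e4.symm
  have hT : g₀ * t * g₀⁻¹ ∈ G := G.mul_mem (G.mul_mem hg₀ ht) (G.inv_mem hg₀)
  have hT2 : (g₀ * t * g₀⁻¹) * (g₀ * t * g₀⁻¹) = 1 := by
    have h : (g₀ * t * g₀⁻¹) * (g₀ * t * g₀⁻¹) = g₀ * (t * t) * g₀⁻¹ := by group
    rw [h, t2]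
    group
  have c1 : t p = (g₀ * t * g₀⁻¹) p := by
    rw [Perm.mul_apply, Perm.mul_apply, i1, e2]
  have c2 : t (t p) = (g₀ * t * g₀⁻¹) (t p) := by
    rw [Perm.mul_apply, Perm.mul_apply, i2, htt, htt, e1]
  have c3 : t q = (g₀ * t * g₀⁻¹) q := by
    rw [Perm.mul_apply, Perm.mul_apply, i3, e4]
  have c4 : t (t q) = (g₀ * t * g₀⁻¹) (t q) := by
    rw [Perm.mul_apply, Perm.mul_apply, i4, htt, htt, e3]
  obtain ⟨u, hu, hconj⟩ := hP2 p1 p2 p3 p4 p5 p6 hT ht hT2 t2 c1 c2 c3 c4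
  obtain ⟨huG, hufix⟩ := mem_FS.1 hu
  refine ⟨u * g₀, mem_Cent.2 ⟨G.mul_mem huG hg₀, ?_⟩, ?_, ?_⟩
  · -- `t * (u g₀) = (u g₀) * t`
    have h : u * g₀ * t = t * (u * g₀) := by
      calc u * g₀ * t = (u * (g₀ * t * g₀⁻¹) * u⁻¹) * (u * g₀) := by group
        _ = t * (u * g₀) := by rw [hconj]
    exact h.symm
  · rw [Perm.mul_apply, e1]
    exact hufix p (by simp)
  · rw [Perm.mul_apply, e3]
    exact hufix q (by simp)

end Cfsg.Agent.Lib.Helper68.Hall4
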