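import Mathlib
import Cfsg.Agent.S1137

set_option autoImplicit false

/-! Structure of a Suzuki 2-group `P` with `|P| = |Z(P)|^2`. -/

namespace Cfsg.Agent.Lib.Helper68.SuzStruct

open Subgroup

/-- output of the structural analysis -/
structure SuzData (P : Type*) [Group P] where
  ξ : MulAut P
  g₀ : P
  hZexp : ∀ z ∈ center P, z * z = 1
  hsq : ∀ g : P, g * g ∈ center P
  hinv : ∀ x : P, x * x = 1 → x ∈ center P
  hg₀ : g₀ ∉ center P
  hZtrans : ∀ z ∈ center P, z ≠ 1 → ∃ i : ℕ, (ξ ^ i) (g₀ * g₀) = z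
  hVtrans : ∀ g : P, g ∉ center P → ∃ i : ℕ, g⁻¹ * (ξ ^ i) g₀ ∈ center P
  hfree : ∀ i : ℕ, ∀ x : P, x ≠ 1 → (ξ ^ i) x = x → ξ ^ i = 1
  hVfree : ∀ i : ℕ, g₀⁻¹ * (ξ ^ i) g₀ ∈ center P → ξ ^ i = 1
  hnc : ∃ g h : P, g * h ≠ h * g

theorem card_subtype_ne {α : Type*} [Finite α] (a : α) :
    Nat.card {x : α // x ≠ a} = Nat.card α - 1 := by
  classical
  have : Fintype α := Fintype.ofFinite α
  rw [Nat.card_eq_fintype_card, Nat.card_eq_fintype_card, Fintype.card_subtype_compl,
    Fintype.card_subtype_eq]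

variable {P : Type*} [Group P]

theorem aut_center (k : MulAut P) {z : P} (hz : z ∈ center P) : k z ∈ center P := by
  rw [mem_center_iff] at hz ⊢
  intro g
  have h1 := hz (k.symm g)
  have h2 := congrArg k h1
  simpa using h2

theorem aut_center_iff (k : MulAut P) (z : P) : k z ∈ center P ↔ z ∈ center P := by
  constructor
  · intro h
    have := aut_center k.symm h
    simpa using this
  · exact aut_center k

theorem nonempty_suzData (hP : Cfsg.IsSuzukiTwoGroup P)
    (hcard : Nat.card P = Nat.card (center P) ^ 2) : Nonempty (SuzData P) := by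
  classical
  have h1137 := Cfsg.Agent.S1137.result hP
  obtain ⟨hfin, h2, hnc, ⟨x₀, y₀, hxy, hx1, hx2, hy1, hy2⟩, K, hK, hreg⟩ := hP
  obtain ⟨hinvZ, hZexp⟩ := h1137
  have hinv : ∀ x : P, x * x = 1 → x ∈ center P := by
    intro x hx
    by_cases h : x = 1
    · rw [h]; exact one_mem _
    · exact ((hinvZ x).1 ⟨h, hx⟩).1
  have hfinA : Finite (MulAut P) :=
    Finite.of_injective (fun e : MulAut P => (e : P → P)) DFunLike.coe_injective
  have hKfin : Finite K := inferInstance
  -- freeness
  have hfreeK : ∀ k : K, ∀ x : P, x ≠ 1 → (k : MulAut P) x = x → k = 1 := by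
    intro k x hx hkx
    obtain ⟨n, hn1, hn2⟩ := Cfsg.Agent.Lib.Helper31.SuzukiTwo.exists_pow_involution h2 hx
    have hfix : (k : MulAut P) (x ^ n) = x ^ n := by rw [map_pow, hkx]
    exact (hreg (x ^ n) (x ^ n) hn1 hn2 hn1 hn2).unique hfix
      (show ((1 : K) : MulAut P) (x ^ n) = x ^ n from rfl)
  have hx₀Z : x₀ ∈ center P := hinv x₀ hx2
  -- the order of `K`
  have hcardK : Nat.card K + 1 = Nat.card (center P) := by
    let Φ : K → {z : center P // z ≠ 1} := fun k =>
      ⟨⟨(k : MulAut P) x₀, aut_center _ hx₀Z⟩, fun h => hx1 (by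
        have h' : (k : MulAut P) x₀ = 1 := congrArg Subtype.val h
        exact (k : MulAut P).injective (h'.trans (map_one _).symm))⟩
    have hΦ : Function.Bijective Φ := by
      constructor
      · intro k k' hkk
        have hk : (k : MulAut P) x₀ = (k' : MulAut P) x₀ :=
          congrArg (fun z : {z : center P // z ≠ 1} => ((z : center P) : P)) hkk
        have hy1' : (k' : MulAut P) x₀ ≠ 1 := fun h1 => hx1
          ((k' : MulAut P).injective (h1.trans (map_one _).symm))
        have hy2' : (k' : MulAut P) x₀ * (k' : MulAut P) x₀ = 1 := by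
          rw [← map_mul, hx2, map_one]
        exact (hreg x₀ _ hx1 hx2 hy1' hy2').unique hk rfl
      · rintro ⟨⟨z, hz⟩, hz1⟩
        have hz1' : z ≠ 1 := fun h => hz1 (Subtype.ext h)
        obtain ⟨k, hk⟩ := (hreg x₀ z hx1 hx2 hz1' (hZexp z hz)).exists
        exact ⟨k, Subtype.ext (Subtype.ext hk)⟩
    have h3 : Nat.card K = Nat.card {z : center P // z ≠ 1} :=
      Nat.card_congr (Equiv.ofBijective Φ hΦ)
    have h4 := card_subtype_ne (1 : center P)
    have : 0 < Nat.card (center P) := Nat.card_pos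
    omega
  -- freeness on the quotient
  have hVfreeK : ∀ k : K, ∀ g : P, g ∉ center P → g⁻¹ * (k : MulAut P) g ∈ center P → k = 1 := by
    intro k g hg hgk
    by_contra hk1
    -- `D w = w * k w` is injective on the centre
    let D : center P → center P := fun w =>
      ⟨(w : P) * (k : MulAut P) w, mul_mem w.2 (aut_center _ w.2)⟩
    have hD : Function.Injective D := by
      intro w w' hww
      have h1 : (w : P) * (k : MulAut P) w = (w' : P) * (k : MulAut P) w' :=
        congrArg Subtype.val hww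
      -- `t = w' * w` is fixed by `k`
      have hw2 := hZexp w w.2
      have hw'2 := hZexp w' w'.2
      have hcomm : (w' : P) * (w : P) = (w : P) * (w' : P) := (mem_center_iff.1 w.2 (w' : P))
      have hkw2 : (k : MulAut P) w * (k : MulAut P) w = 1 := by rw [← map_mul, hw2, map_one]
      have hfix : (k : MulAut P) ((w' : P) * (w : P)) = (w' : P) * (w : P) := by
        rw [map_mul]
        -- from h1: k w = w⁻¹ w' k w' = w w' k w'
        have e1 : (k : MulAut P) w = (w : P) * ((w' : P) * (k : MulAut P) w') := by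
          have : (w : P)⁻¹ = (w : P) := inv_eq_of_mul_eq_one_left hw2
          calc (k : MulAut P) w = (w : P)⁻¹ * ((w : P) * (k : MulAut P) w) := by group
            _ = (w : P)⁻¹ * ((w' : P) * (k : MulAut P) w') := by rw [h1]
            _ = (w : P) * ((w' : P) * (k : MulAut P) w') := by rw [this]
        have hkw'2 : (k : MulAut P) w' * (k : MulAut P) w' = 1 := by
          rw [← map_mul, hw'2, map_one]
        have hc2 : (k : MulAut P) w' * ((w : P) * (w' : P)) = ((w : P) * (w' : P)) * (k : MulAut P) w' :=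
          mem_center_iff.1 (mul_mem w.2 w'.2) _
        calc (k : MulAut P) w' * (k : MulAut P) w
            = (k : MulAut P) w' * ((w : P) * ((w' : P) * (k : MulAut P) w')) := by rw [e1]
          _ = ((k : MulAut P) w' * ((w : P) * (w' : P))) * (k : MulAut P) w' := by group
          _ = (((w : P) * (w' : P)) * (k : MulAut P) w') * (k : MulAut P) w' := by rw [hc2]
          _ = ((w : P) * (w' : P)) * ((k : MulAut P) w' * (k : MulAut P) w') := by group
          _ = (w' : P) * (w : P) := by rw [hkw'2, mul_one, hcomm]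
      have ht : (w' : P) * (w : P) = 1 := by
        by_contra hne
        exact hk1 (hfreeK k _ hne hfix)
      apply Subtype.ext
      have : (w' : P) = (w : P)⁻¹ := eq_inv_of_mul_eq_one_left ht
      rw [this, inv_eq_of_mul_eq_one_left hw2]
    have hDs : Function.Surjective D := Finite.injective_iff_surjective.1 hD
    obtain ⟨w, hw⟩ := hDs ⟨g⁻¹ * (k : MulAut P) g, hgk⟩
    have hw' : (w : P) * (k : MulAut P) w = g⁻¹ * (k : MulAut P) g := congrArg Subtype.val hw
    have hkw2 : (k : MulAut P) w * (k : MulAut P) w = 1 := by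
      rw [← map_mul, hZexp w w.2, map_one]
    have hfix : (k : MulAut P) (g * w) = g * w := by
      rw [map_mul]
      have e1 : (k : MulAut P) g = g * ((w : P) * (k : MulAut P) w) := by rw [hw']; group
      rw [e1]
      calc g * ((w : P) * (k : MulAut P) w) * (k : MulAut P) w
          = g * (w : P) * ((k : MulAut P) w * (k : MulAut P) w) := by group
        _ = g * w := by rw [hkw2, mul_one]
    have hne : g * (w : P) ≠ 1 := by
      intro h
      apply hg
      have : g = (w : P)⁻¹ := eq_inv_of_mul_eq_one_left h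
      rw [this]
      exact inv_mem w.2
    exact hk1 (hfreeK k _ hne hfix)
  -- the index of the centre
  have hidx : (center P).index = Nat.card (center P) := by
    have h1 := (center P).card_mul_index
    rw [hcard, pow_two] at h1
    exact Nat.eq_of_mul_eq_mul_left Nat.card_pos h1
  have hcardV : Nat.card (P ⧸ center P) = Nat.card (center P) := by
    rw [← hidx]; rfl
  -- a non-central element
  obtain ⟨g₀, hg₀⟩ : ∃ g₀ : P, g₀ ∉ center P := by
    by_contra h
    push Not at h
    obtain ⟨a, b, hab⟩ := hnc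
    exact hab (mem_center_iff.1 (h b) a)
  -- transitivity on the quotient
  have hVtransK : ∀ g : P, g ∉ center P → ∃ k : K, g⁻¹ * (k : MulAut P) g₀ ∈ center P := by
    let Φ : K → {v : P ⧸ center P // v ≠ 1} := fun k =>
      ⟨QuotientGroup.mk ((k : MulAut P) g₀), fun h => hg₀ (by
        rw [QuotientGroup.eq_one_iff] at h
        exact (aut_center_iff _ _).1 h)⟩
    have hΦ : Function.Injective Φ := by
      intro k k' hkk
      have h1 : (QuotientGroup.mk ((k : MulAut P) g₀) : P ⧸ center P) =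
          QuotientGroup.mk ((k' : MulAut P) g₀) := congrArg Subtype.val hkk
      rw [QuotientGroup.eq] at h1
      -- apply `k⁻¹`
      have h2 := aut_center ((k : MulAut P)⁻¹) h1
      have h3 : ((k : MulAut P)⁻¹) (((k : MulAut P) g₀)⁻¹ * (k' : MulAut P) g₀) =
          g₀⁻¹ * ((k⁻¹ * k' : K) : MulAut P) g₀ := by
        rw [map_mul, map_inv]
        have : ((k : MulAut P)⁻¹) ((k : MulAut P) g₀) = g₀ := by
          show ((k : MulAut P)⁻¹ * (k : MulAut P)) g₀ = g₀
          rw [inv_mul_cancel]; rfl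
        rw [this]
        rfl
      rw [h3] at h2
      have h4 := hVfreeK (k⁻¹ * k') g₀ hg₀ h2
      exact (inv_mul_eq_one.1 h4)
    have hΦb : Function.Bijective Φ := by
      apply hΦ.bijective_of_nat_card_le
      rw [card_subtype_ne, hcardV]
      omega
    intro g hg
    obtain ⟨k, hk⟩ := hΦb.2 ⟨QuotientGroup.mk g, fun h => hg ((QuotientGroup.eq_one_iff g).1 h)⟩
    refine ⟨k, ?_⟩
    have h1 : (QuotientGroup.mk ((k : MulAut P) g₀) : P ⧸ center P) = QuotientGroup.mk g :=
      congrArg Subtype.val hk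
    rw [eq_comm, QuotientGroup.eq] at h1
    exact h1
  -- the quotient has exponent two
  have hsq : ∀ g : P, g * g ∈ center P := by
    have hV2 : IsPGroup 2 (P ⧸ center P) := h2.to_quotient _
    have hVcard2 : 2 ∣ Nat.card (P ⧸ center P) := by
      obtain ⟨n, hn⟩ := IsPGroup.iff_card.1 hV2
      have hn0 : n ≠ 0 := by
        rintro rfl
        rw [pow_zero] at hn
        have : Subsingleton (P ⧸ center P) := (Nat.card_eq_one_iff_unique.1 hn).1
        apply hg₀
        rw [← QuotientGroup.eq_one_iff]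
        exact Subsingleton.elim _ _
      rw [hn]
      exact dvd_pow_self 2 hn0
    have : Fact (Nat.Prime 2) := ⟨Nat.prime_two⟩
    obtain ⟨v, hv⟩ := exists_prime_orderOf_dvd_card' 2 hVcard2
    obtain ⟨g₁, rfl⟩ := QuotientGroup.mk_surjective v
    have hg₁ : g₁ ∉ center P := by
      intro h
      have : (QuotientGroup.mk g₁ : P ⧸ center P) = 1 := (QuotientGroup.eq_one_iff g₁).2 h
      rw [this, orderOf_one] at hv
      omega
    have hg₁2 : g₁ * g₁ ∈ center P := by
      rw [← QuotientGroup.eq_one_iff, QuotientGroup.mk_mul, ← pow_two, ← hv]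
      exact pow_orderOf_eq_one _
    -- `g₀` has the same property
    have hg₀2 : g₀ * g₀ ∈ center P := by
      obtain ⟨k, hk⟩ := hVtransK g₁ hg₁
      -- `k g₀ = g₁ z`
      obtain ⟨z, hz⟩ : ∃ z : center P, (k : MulAut P) g₀ = g₁ * z := ⟨⟨_, hk⟩, by group⟩
      have h1 : (k : MulAut P) (g₀ * g₀) = (g₁ * g₁) * ((z : P) * (z : P)) := by
        rw [map_mul, hz]
        have hc := mem_center_iff.1 z.2 g₁
        calc g₁ * (z : P) * (g₁ * (z : P)) = g₁ * ((z : P) * g₁) * (z : P) := by group
          _ = g₁ * (g₁ * (z : P)) * (z : P) := by rw [← hc]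
          _ = (g₁ * g₁) * ((z : P) * (z : P)) := by group
      have h2 : (k : MulAut P) (g₀ * g₀) ∈ center P := by
        rw [h1]; exact mul_mem hg₁2 (mul_mem z.2 z.2)
      exact (aut_center_iff _ _).1 h2
    intro g
    by_cases hg : g ∈ center P
    · exact mul_mem hg hg
    · obtain ⟨k, hk⟩ := hVtransK g hg
      obtain ⟨z, hz⟩ : ∃ z : center P, (k : MulAut P) g₀ = g * z := ⟨⟨_, hk⟩, by group⟩
      have hc := mem_center_iff.1 z.2 g
      have h1 : (k : MulAut P) (g₀ * g₀) = (g * g) * ((z : P) * (z : P)) := by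
        rw [map_mul, hz]
        calc g * (z : P) * (g * (z : P)) = g * ((z : P) * g) * (z : P) := by group
          _ = g * (g * (z : P)) * (z : P) := by rw [← hc]
          _ = (g * g) * ((z : P) * (z : P)) := by group
      have h2 : (k : MulAut P) (g₀ * g₀) ∈ center P := aut_center _ hg₀2
      rw [h1, hZexp z z.2, mul_one] at h2
      exact h2
  -- a generator
  obtain ⟨ξ₀, hξ₀⟩ := IsCyclic.exists_generator (α := K)
  have hpow : ∀ k : K, ∃ i : ℕ, (k : MulAut P) = (ξ₀ : MulAut P) ^ i := by
    intro k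
    have h1 : k ∈ Submonoid.powers ξ₀ :=
      (IsOfFinOrder.mem_powers_iff_mem_zpowers (isOfFinOrder_of_finite ξ₀)).2 (hξ₀ k)
    obtain ⟨i, hi⟩ := (Submonoid.mem_powers_iff _ _).1 h1
    exact ⟨i, by rw [← hi]; rfl⟩
  have hpowK : ∀ i : ℕ, ((ξ₀ ^ i : K) : MulAut P) = (ξ₀ : MulAut P) ^ i := fun i => rfl
  have hg₀sq1 : g₀ * g₀ ≠ 1 := fun h => hg₀ (hinv g₀ h)
  refine ⟨⟨(ξ₀ : MulAut P), g₀, hZexp, hsq, hinv, hg₀, ?_, ?_, ?_, ?_, hnc⟩⟩
  · intro z hz hz1
    obtain ⟨k, hk⟩ := (hreg (g₀ * g₀) z hg₀sq1 (hZexp _ (hsq g₀)) hz1 (hZexp z hz)).exists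
    obtain ⟨i, hi⟩ := hpow k
    exact ⟨i, by rw [← hi]; exact hk⟩
  · intro g hg
    obtain ⟨k, hk⟩ := hVtransK g hg
    obtain ⟨i, hi⟩ := hpow k
    exact ⟨i, by rw [← hi]; exact hk⟩
  · intro i x hx hfix
    have := hfreeK (ξ₀ ^ i) x hx (by rw [hpowK]; exact hfix)
    rw [← hpowK, this]; rfl
  · intro i hi
    have := hVfreeK (ξ₀ ^ i) g₀ hg₀ (by rw [hpowK]; exact hi)
    rw [← hpowK, this]; rfl

end Cfsg.Agent.Lib.Helper68.SuzStruct
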