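import Mathlib
import Cfsg.Agent.S1137
import Cfsg.Agent.Lib.Helper68.SuzStruct

set_option autoImplicit false

/-! Basic data of an arbitrary Suzuki 2-group (no hypothesis on the order). -/

namespace Cfsg.Agent.Lib.Helper68.HigBase

open Subgroup
open Cfsg.Agent.Lib.Helper68.SuzStruct

/-- a Suzuki 2-group `P` with a chosen generator `ξ` of the cyclic group of automorphisms:
the centre `Z(P)` is the set of elements of square one, the powers of `ξ` are regular on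
`Z(P) \ {1}` and no non-identity power of `ξ` fixes a non-identity element of `P`. -/
structure Base (P : Type*) [Group P] where
  ξ : MulAut P
  z₀ : P
  hZexp : ∀ z ∈ center P, z * z = 1
  hinv : ∀ x : P, x * x = 1 → x ∈ center P
  hz₀ : z₀ ∈ center P
  hz₀1 : z₀ ≠ 1
  htrans : ∀ z ∈ center P, z ≠ 1 → ∃ i : ℕ, (ξ ^ i) z₀ = z
  hfree : ∀ i : ℕ, ∀ x : P, x ≠ 1 → (ξ ^ i) x = x → ξ ^ i = 1
  hodd : Odd (orderOf ξ)
  hnc : ∃ g h : P, g * h ≠ h * g
  hfour : ∃ z ∈ center P, z ≠ 1 ∧ z ≠ z₀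
  h2 : IsPGroup 2 P

variable {P : Type*} [Group P]

theorem nonempty_base (hP : Cfsg.IsSuzukiTwoGroup P) : Nonempty (Base P) := by
  classical
  have h1137 := Cfsg.Agent.S1137.result hP
  obtain ⟨hfin, h2, hnc, ⟨x₀, y₀, hxy, hx1, hx2, hy1, hy2⟩, K, hK, hreg⟩ := hP
  obtain ⟨hinvZ, hZexp⟩ := h1137
  have hinv : ∀ x : P, x * x = 1 → x ∈ center P := by
    intro x hx
    by_cases h : x = 1
    · rw [h]; exact one_mem _
    · exact ((hinvZ x).1 ⟨h, hx⟩).1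
  have hfinA : Finite (MulAut P) :=
    Finite.of_injective (fun e : MulAut P => (e : P → P)) DFunLike.coe_injective
  have hKfin : Finite K := inferInstance
  have hfreeK : ∀ k : K, ∀ x : P, x ≠ 1 → (k : MulAut P) x = x → k = 1 := by
    intro k x hx hkx
    obtain ⟨n, hn1, hn2⟩ := Cfsg.Agent.Lib.Helper31.SuzukiTwo.exists_pow_involution h2 hx
    have hfix : (k : MulAut P) (x ^ n) = x ^ n := by rw [map_pow, hkx]
    exact (hreg (x ^ n) (x ^ n) hn1 hn2 hn1 hn2).unique hfix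
      (show ((1 : K) : MulAut P) (x ^ n) = x ^ n from rfl)
  have hoddK : Odd (Nat.card K) :=
    Cfsg.Agent.Lib.Helper31.SuzukiTwo.odd_card_of_regular h2 K x₀ hx1 hx2 hreg
  obtain ⟨ξ₀, hξ₀⟩ := IsCyclic.exists_generator (α := K)
  have hpow : ∀ k : K, ∃ i : ℕ, (k : MulAut P) = (ξ₀ : MulAut P) ^ i := by
    intro k
    have h1 : k ∈ Submonoid.powers ξ₀ :=
      (IsOfFinOrder.mem_powers_iff_mem_zpowers (isOfFinOrder_of_finite ξ₀)).2 (hξ₀ k)
    obtain ⟨i, hi⟩ := (Submonoid.mem_powers_iff _ _).1 h1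
    exact ⟨i, by rw [← hi]; rfl⟩
  have hpowK : ∀ i : ℕ, ((ξ₀ ^ i : K) : MulAut P) = (ξ₀ : MulAut P) ^ i := fun i => rfl
  have hord : orderOf (ξ₀ : MulAut P) = Nat.card K := by
    rw [Subgroup.orderOf_coe]
    exact orderOf_eq_card_of_forall_mem_zpowers hξ₀
  have hy0Z : y₀ ∈ center P := hinv y₀ hy2
  have hx0Z : x₀ ∈ center P := hinv x₀ hx2
  refine ⟨⟨(ξ₀ : MulAut P), x₀, hZexp, hinv, hx0Z, hx1, ?_, ?_, ?_, hnc, ⟨y₀, hy0Z, hy1, fun h => hxy h.symm⟩, h2⟩⟩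
  · intro z hz hz1
    obtain ⟨k, hk⟩ := (hreg x₀ z hx1 hx2 hz1 (hZexp z hz)).exists
    obtain ⟨i, hi⟩ := hpow k
    exact ⟨i, by rw [← hi]; exact hk⟩
  · intro i x hx hfix
    have := hfreeK (ξ₀ ^ i) x hx (by rw [hpowK]; exact hfix)
    rw [← hpowK, this]; rfl
  · rw [hord]; exact hoddK

end Cfsg.Agent.Lib.Helper68.HigBase
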