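import Mathlib
import Cfsg.Agent.Lib.Helper31.SuzukiTwo
import Cfsg.Agent.Lib.Helper38.PGroup
import Cfsg.Agent.Lib.Helper68.HigBase
import Cfsg.Agent.Lib.Helper83.HigC

set_option autoImplicit false

/-! Higman's theorem on Suzuki 2-groups: reduction to the case of an abelian second centre. -/

namespace Cfsg.Agent.Lib.Helper68.HigRed

open Subgroup
open scoped commutatorElement
open Cfsg.Agent.Lib.Helper68.HigBase
open Cfsg.Agent.Lib.Helper68.SuzStruct
open Cfsg.Agent.Lib.Helper31.SuzukiTwo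
open Cfsg.Agent.Lib.Helper83.Hig (center_le_of_invariant)

variable {P : Type*} [Group P]

theorem conj_central {c : P} (hc : c ∈ center P) (x : P) : x * c * x⁻¹ = c := by
  rw [mem_center_iff.1 hc x, mul_inv_cancel_right]

theorem conj_central' {c : P} (hc : c ∈ center P) (x : P) : x⁻¹ * c * x = c := by
  rw [mul_assoc, ← mem_center_iff.1 hc x, inv_mul_cancel_left]

/-- the second centre -/
def Z2 (P : Type*) [Group P] : Subgroup P where
  carrier := {x | ∀ g : P, ⁅x, g⁆ ∈ center P}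
  one_mem' := by
    intro g
    rw [commutatorElement_one_left]
    exact one_mem _
  mul_mem' := by
    intro x x' hx hx' g
    rw [comm_mul_left_of_central (hx' g) (hx g)]
    exact mul_mem (hx g) (hx' g)
  inv_mem' := by
    intro x hx g
    rw [commutatorElement_inv_left, ← commutatorElement_inv, conj_central' (inv_mem (hx g))]
    exact inv_mem (hx g)

theorem mem_Z2 {x : P} : x ∈ Z2 P ↔ ∀ g : P, ⁅x, g⁆ ∈ center P := Iff.rfl

theorem center_le_Z2 : center P ≤ Z2 P := by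
  intro z hz g
  have : ⁅z, g⁆ = 1 := by
    rw [commutatorElement_eq_one_iff_commute]
    exact (mem_center_iff.1 hz g).symm
  rw [this]
  exact one_mem _

theorem Z2_aut (k : MulAut P) {x : P} (hx : x ∈ Z2 P) : k x ∈ Z2 P := by
  intro g
  have h1 : ⁅k x, g⁆ = k ⁅x, k.symm g⁆ := by
    rw [map_commutatorElement, MulEquiv.apply_symm_apply]
  rw [h1]
  exact aut_center k (hx _)

instance : (Z2 P).Normal := ⟨fun x hx g => Z2_aut (MulAut.conj g) hx⟩

theorem comm_symm_mem {x : P} (hx : x ∈ Z2 P) (g : P) : ⁅g, x⁆ ∈ center P := by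
  rw [← commutatorElement_inv]
  exact inv_mem (hx g)

section

theorem comm_sq (B : Base P) {x : P} (hx : x ∈ Z2 P) (g : P) : ⁅x, g⁆ * ⁅x, g⁆ = 1 := B.hZexp _ (hx g)

theorem comm_mul_right {x : P} (hx : x ∈ Z2 P) (g h : P) : ⁅x, g * h⁆ = ⁅x, g⁆ * ⁅x, h⁆ :=
  comm_mul_right_of_central (hx h)

theorem comm_mul_left {x x' : P} (hx : x ∈ Z2 P) (hx' : x' ∈ Z2 P) (g : P) :
    ⁅x * x', g⁆ = ⁅x, g⁆ * ⁅x', g⁆ :=
  comm_mul_left_of_central (hx' g) (hx g)

theorem inv_eq_self_of_center (B : Base P) {z : P} (hz : z ∈ center P) : z⁻¹ = z :=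
  inv_eq_of_mul_eq_one_left (B.hZexp z hz)

theorem comm_inv_right (B : Base P) {x : P} (hx : x ∈ Z2 P) (g : P) : ⁅x, g⁻¹⁆ = ⁅x, g⁆ := by
  have h1 := comm_mul_right hx g g⁻¹
  rw [mul_inv_cancel, commutatorElement_one_right] at h1
  have h2 : ⁅x, g⁻¹⁆ = (⁅x, g⁆)⁻¹ := (inv_eq_of_mul_eq_one_right h1.symm).symm
  rw [h2]
  exact inv_eq_self_of_center B (hx g)

theorem sq_mem_center (B : Base P) {x : P} (hx : x ∈ Z2 P) : x * x ∈ center P := by
  rw [mem_center_iff]
  intro g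
  have h1 : ⁅x * x, g⁆ = 1 := by rw [comm_mul_left hx hx, comm_sq B hx]
  exact ((commutatorElement_eq_one_iff_commute.1 h1).eq).symm

/-- the centraliser of the second centre -/
def CZ (P : Type*) [Group P] : Subgroup P := centralizer (Z2 P : Set P)

instance : (CZ P).Normal := by unfold CZ; infer_instance

theorem mem_CZ {g : P} : g ∈ CZ P ↔ ∀ x ∈ Z2 P, x * g = g * x := mem_centralizer_iff

theorem center_le_CZ : center P ≤ CZ P := center_le_centralizer _

theorem sq_mem_CZ (B : Base P) (g : P) : g * g ∈ CZ P := by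
  rw [mem_CZ]
  intro x hx
  have h1 : ⁅x, g * g⁆ = 1 := by rw [comm_mul_right hx, comm_sq B hx]
  exact (commutatorElement_eq_one_iff_commute.1 h1).eq

theorem comm_mem_CZ (B : Base P) (g h : P) : ⁅g, h⁆ ∈ CZ P := by
  rw [mem_CZ]
  intro x hx
  have h1 : ⁅x, ⁅g, h⁆⁆ = 1 := by
    rw [commutatorElement_def g h, comm_mul_right hx, comm_mul_right hx, comm_mul_right hx,
      comm_inv_right B hx, comm_inv_right B hx]
    have e1 := mem_center_iff.1 (hx h) ⁅x, g⁆
    calc ⁅x, g⁆ * ⁅x, h⁆ * ⁅x, g⁆ * ⁅x, h⁆ = ⁅x, g⁆ * (⁅x, h⁆ * ⁅x, g⁆) * ⁅x, h⁆ := by group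
      _ = ⁅x, g⁆ * (⁅x, g⁆ * ⁅x, h⁆) * ⁅x, h⁆ := by rw [← e1]
      _ = (⁅x, g⁆ * ⁅x, g⁆) * (⁅x, h⁆ * ⁅x, h⁆) := by group
      _ = 1 := by rw [comm_sq B hx, comm_sq B hx, one_mul]
  exact (commutatorElement_eq_one_iff_commute.1 h1).eq

theorem CZ_aut (k : MulAut P) {g : P} (hg : g ∈ CZ P) : k g ∈ CZ P := by
  rw [mem_CZ] at hg ⊢
  intro x hx
  have h1 := hg (k.symm x) (Z2_aut k.symm hx)
  have h2 := congrArg k h1
  rwa [map_mul, map_mul, MulEquiv.apply_symm_apply] at h2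

/-- a normal subgroup not inside the centre contains a non-central element of the second centre -/
theorem exists_mem_Z2_of_normal [Finite P] (B : Base P) (N : Subgroup P) [N.Normal] (hN : ¬ N ≤ center P) :
    ∃ c ∈ N, c ∈ Z2 P ∧ c ∉ center P := by
  have : Fact (Nat.Prime 2) := ⟨Nat.prime_two⟩
  have hQ : IsPGroup 2 (P ⧸ center P) := B.h2.to_quotient _
  have hmapN : (N.map (QuotientGroup.mk' (center P))).Normal :=
    Subgroup.Normal.map inferInstance _ (QuotientGroup.mk'_surjective _)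
  have hne : N.map (QuotientGroup.mk' (center P)) ≠ ⊥ := by
    intro h
    apply hN
    intro n hn
    have : (QuotientGroup.mk' (center P)) n ∈ N.map (QuotientGroup.mk' (center P)) :=
      Subgroup.mem_map_of_mem _ hn
    rw [h, Subgroup.mem_bot] at this
    exact (QuotientGroup.eq_one_iff n).1 this
  obtain ⟨q, hqN, hqc, hq1⟩ := Cfsg.Agent.Lib.Helper38.normal_inf_center_ne_bot 2 hQ _ hne
  obtain ⟨c, hcN, rfl⟩ := hqN
  refine ⟨c, hcN, ?_, ?_⟩
  · intro g
    rw [← QuotientGroup.eq_one_iff]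
    have h1 : ((⁅c, g⁆ : P) : P ⧸ center P) = ⁅(QuotientGroup.mk' (center P)) c, (g : P ⧸ center P)⁆ := by
      rw [commutatorElement_def, commutatorElement_def]
      rfl
    rw [h1, commutatorElement_eq_one_iff_commute]
    exact (mem_center_iff.1 hqc _).symm
  · intro hc
    exact hq1 ((QuotientGroup.eq_one_iff c).2 hc)

/-- **the centraliser of the second centre is abelian** -/
theorem CZ_comm [Finite P] (B : Base P) : ∀ c ∈ CZ P, ∀ c' ∈ CZ P, c * c' = c' * c := by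
  by_contra hcon
  push Not at hcon
  obtain ⟨c₁, hc₁, c₂, hc₂, hne⟩ := hcon
  have hnotle : ¬ CZ P ≤ center P := by
    intro hle
    exact hne (mem_center_iff.1 (hle hc₂) c₁)
  obtain ⟨c, hcN, hcZ2, hcZ⟩ := exists_mem_Z2_of_normal B (CZ P) hnotle
  apply hcZ
  refine center_le_of_invariant B (CZ P) (fun x hx => CZ_aut B.ξ hx) ⟨c₁, hc₁, c₂, hc₂, hne⟩ c hcN ?_
  intro h hh
  exact mem_CZ.1 hh c hcZ2

/-- case B: if the second centre is nonabelian then squares and commutators are central -/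
theorem caseB [Finite P] (B : Base P) (hT : ∃ x ∈ Z2 P, ∃ y ∈ Z2 P, x * y ≠ y * x) :
    CZ P ≤ center P := by
  by_contra hnotle
  obtain ⟨c, hcN, hcZ2, hcZ⟩ := exists_mem_Z2_of_normal B (CZ P) hnotle
  apply hcZ
  refine center_le_of_invariant B (Z2 P) (fun x hx => Z2_aut B.ξ hx) hT c hcZ2 ?_
  intro h hh
  exact (mem_CZ.1 hcN h hh).symm

end

end Cfsg.Agent.Lib.Helper68.HigRed
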