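import Mathlib

set_option autoImplicit false

/-! A group `W` of exponent two with an automorphism `ξ` whose powers act regularly on the
non-identity elements carries a field structure: addition is the group law, multiplication is
transported from the powers of `ξ` (a commutative near-field is a field). -/

namespace Cfsg.Agent.Lib.Helper68.RegField

universe u

/-- a group of exponent two with an automorphism whose powers are regular on non-identity elements -/
structure RegData (W : Type u) [Group W] where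
  ξ : MulAut W
  w₀ : W
  hexp : ∀ w : W, w * w = 1
  hw₀ : w₀ ≠ 1
  htrans : ∀ w : W, w ≠ 1 → ∃ i : ℕ, (ξ ^ i) w₀ = w
  hfree : ∀ i : ℕ, (ξ ^ i) w₀ = w₀ → ∀ w : W, (ξ ^ i) w = w

variable {W : Type u} [Group W] (D : RegData W)

namespace RegData

theorem inv_eq (D : RegData W) (a : W) : a⁻¹ = a := by
  have := D.hexp a
  exact inv_eq_of_mul_eq_one_left this

theorem comm (D : RegData W) (a b : W) : a * b = b * a := by
  have h1 := D.hexp (a * b)
  have h2 : a * b = (a * b)⁻¹ := (D.inv_eq (a * b)).symm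
  rw [h2, mul_inv_rev, D.inv_eq a, D.inv_eq b]

theorem pow_apply_comm (i : ℕ) (w : W) : (D.ξ ^ i) (D.ξ w) = D.ξ ((D.ξ ^ i) w) := by
  have h1 : (D.ξ ^ i) (D.ξ w) = (D.ξ ^ i * D.ξ) w := rfl
  have h2 : D.ξ ((D.ξ ^ i) w) = (D.ξ * D.ξ ^ i) w := rfl
  rw [h1, h2, ← pow_succ, ← pow_succ']

open Classical in
/-- the multiplication operator -/
noncomputable def L (D : RegData W) (a : W) : W →* W :=
  if h : a = 1 then 1 else (D.ξ ^ (Classical.choose (D.htrans a h))).toMonoidHom

theorem L_one : D.L 1 = 1 := by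
  unfold L
  rw [dif_pos rfl]

theorem L_one_apply (w : W) : D.L 1 w = 1 := by
  rw [L_one]; rfl

theorem L_of_ne {a : W} (h : a ≠ 1) :
    ∃ i : ℕ, (D.ξ ^ i) D.w₀ = a ∧ D.L a = (D.ξ ^ i).toMonoidHom := by
  refine ⟨Classical.choose (D.htrans a h), Classical.choose_spec (D.htrans a h), ?_⟩
  unfold L
  rw [dif_neg h]

theorem L_apply_w₀ (a : W) : D.L a D.w₀ = a := by
  by_cases h : a = 1
  · rw [h, L_one_apply]
  · obtain ⟨i, hi, hL⟩ := D.L_of_ne h
    rw [hL]
    exact hi

theorem L_comm_ξ (a w : W) : D.L a (D.ξ w) = D.ξ (D.L a w) := by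
  by_cases h : a = 1
  · rw [h, L_one_apply, L_one_apply, map_one]
  · obtain ⟨i, -, hL⟩ := D.L_of_ne h
    rw [hL]
    exact D.pow_apply_comm i w

theorem hom_pow_comm (f : W →* W) (hf : ∀ w, f (D.ξ w) = D.ξ (f w)) (i : ℕ) (w : W) :
    f ((D.ξ ^ i) w) = (D.ξ ^ i) (f w) := by
  induction i with
  | zero => simp
  | succ i ih =>
    have h1 : (D.ξ ^ (i + 1)) w = D.ξ ((D.ξ ^ i) w) := by
      rw [pow_succ']; rfl
    have h2 : (D.ξ ^ (i + 1)) (f w) = D.ξ ((D.ξ ^ i) (f w)) := by
      rw [pow_succ']; rfl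
    rw [h1, h2, hf, ih]

/-- two endomorphisms commuting with `ξ` and agreeing at `w₀` are equal -/
theorem hom_ext (f g : W →* W) (hf : ∀ w, f (D.ξ w) = D.ξ (f w))
    (hg : ∀ w, g (D.ξ w) = D.ξ (g w)) (h : f D.w₀ = g D.w₀) : f = g := by
  ext w
  by_cases hw : w = 1
  · rw [hw, map_one, map_one]
  · obtain ⟨i, rfl⟩ := D.htrans w hw
    rw [D.hom_pow_comm f hf, D.hom_pow_comm g hg, h]

theorem L_L (a b : W) : D.L (D.L a b) = (D.L a).comp (D.L b) := by
  apply D.hom_ext
  · exact D.L_comm_ξ _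
  · intro w
    show D.L a (D.L b (D.ξ w)) = D.ξ (D.L a (D.L b w))
    rw [D.L_comm_ξ, D.L_comm_ξ]
  · show D.L (D.L a b) D.w₀ = D.L a (D.L b D.w₀)
    rw [D.L_apply_w₀, D.L_apply_w₀]

theorem L_swap (a b : W) : D.L a b = D.L b a := by
  -- both equal `(L a ∘ L b) w₀`, and `L a`, `L b` commute
  have h1 : (D.L a).comp (D.L b) = (D.L b).comp (D.L a) := by
    apply D.hom_ext
    · intro w
      show D.L a (D.L b (D.ξ w)) = D.ξ (D.L a (D.L b w))
      rw [D.L_comm_ξ, D.L_comm_ξ]
    · intro w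
      show D.L b (D.L a (D.ξ w)) = D.ξ (D.L b (D.L a w))
      rw [D.L_comm_ξ, D.L_comm_ξ]
    · show D.L a (D.L b D.w₀) = D.L b (D.L a D.w₀)
      by_cases ha : a = 1
      · rw [ha, L_one_apply, L_one_apply, map_one]
      by_cases hb : b = 1
      · rw [hb, L_one_apply, L_one_apply, map_one]
      obtain ⟨i, hi, hLa⟩ := D.L_of_ne ha
      obtain ⟨j, hj, hLb⟩ := D.L_of_ne hb
      rw [hLa, hLb]
      show (D.ξ ^ i) ((D.ξ ^ j) D.w₀) = (D.ξ ^ j) ((D.ξ ^ i) D.w₀)
      have e1 : (D.ξ ^ i) ((D.ξ ^ j) D.w₀) = (D.ξ ^ i * D.ξ ^ j) D.w₀ := rfl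
      have e2 : (D.ξ ^ j) ((D.ξ ^ i) D.w₀) = (D.ξ ^ j * D.ξ ^ i) D.w₀ := rfl
      rw [e1, e2, ← pow_add, ← pow_add, add_comm]
  have h2 := congrArg (fun f : W →* W => f D.w₀) h1
  simp only [MonoidHom.comp_apply, D.L_apply_w₀] at h2
  exact h2

theorem L_w₀ : D.L D.w₀ = MonoidHom.id W := by
  apply D.hom_ext
  · exact D.L_comm_ξ _
  · intro w; rfl
  · rw [D.L_apply_w₀]; rfl

theorem L_ξ : D.L (D.ξ D.w₀) = D.ξ.toMonoidHom := by
  apply D.hom_ext
  · exact D.L_comm_ξ _
  · intro w; rfl
  · rw [D.L_apply_w₀]; rfl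

theorem L_bijective {a : W} (h : a ≠ 1) : Function.Bijective (D.L a) := by
  obtain ⟨i, -, hL⟩ := D.L_of_ne h
  rw [hL]
  exact (D.ξ ^ i).bijective

/-- the field, as a type -/
def Fld (_ : RegData W) : Type u := W

/-- into the field -/
def inF (w : W) : D.Fld := w
/-- out of the field -/
def outF (x : D.Fld) : W := x

@[simp] theorem outF_inF (w : W) : D.outF (D.inF w) = w := rfl
@[simp] theorem inF_outF (x : D.Fld) : D.inF (D.outF x) = x := rfl

theorem inF_injective : Function.Injective D.inF := fun _ _ h => h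
theorem outF_injective : Function.Injective D.outF := fun _ _ h => h

instance : Zero D.Fld := ⟨D.inF 1⟩
instance : One D.Fld := ⟨D.inF D.w₀⟩
instance : Add D.Fld := ⟨fun a b => D.inF (D.outF a * D.outF b)⟩
instance : Neg D.Fld := ⟨fun a => a⟩
noncomputable instance : Mul D.Fld := ⟨fun a b => D.inF (D.L (D.outF a) (D.outF b))⟩

theorem exists_inv {a : W} (h : a ≠ 1) : ∃ b : W, D.L a b = D.w₀ :=
  (D.L_bijective h).2 D.w₀

open Classical in
noncomputable instance : Inv D.Fld :=
  ⟨fun a => if h : D.outF a = 1 then 0 else D.inF (Classical.choose (D.exists_inv h))⟩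

open Classical in
theorem inv_def (a : D.Fld) : a⁻¹ = if h : D.outF a = 1 then 0
    else D.inF (Classical.choose (D.exists_inv h)) := rfl

theorem zero_def : (0 : D.Fld) = D.inF 1 := rfl
theorem one_def : (1 : D.Fld) = D.inF D.w₀ := rfl
theorem add_def (a b : D.Fld) : a + b = D.inF (D.outF a * D.outF b) := rfl
theorem neg_def (a : D.Fld) : -a = a := rfl
theorem mul_def (a b : D.Fld) : a * b = D.inF (D.L (D.outF a) (D.outF b)) := rfl

theorem outF_zero : D.outF 0 = 1 := rfl
theorem outF_one : D.outF 1 = D.w₀ := rfl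
theorem outF_add (a b : D.Fld) : D.outF (a + b) = D.outF a * D.outF b := rfl
theorem outF_mul (a b : D.Fld) : D.outF (a * b) = D.L (D.outF a) (D.outF b) := rfl

theorem inF_mul (a b : W) : D.inF (a * b) = D.inF a + D.inF b := rfl

noncomputable instance : Field D.Fld :=
  Field.ofMinimalAxioms D.Fld
    (fun a b c => by
      apply D.outF_injective
      simp only [outF_add]
      exact mul_assoc _ _ _)
    (fun a => by
      apply D.outF_injective
      rw [outF_add, outF_zero, one_mul])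
    (fun a => by
      apply D.outF_injective
      rw [outF_add, neg_def, outF_zero]
      exact D.hexp _)
    (fun a b c => by
      apply D.outF_injective
      rw [outF_mul, outF_mul, outF_mul, outF_mul, D.L_L]
      rfl)
    (fun a b => by
      apply D.outF_injective
      rw [outF_mul, outF_mul]
      exact D.L_swap _ _)
    (fun a => by
      apply D.outF_injective
      rw [outF_mul, outF_one, D.L_w₀]
      rfl)
    (fun a ha => by
      have h : D.outF a ≠ 1 := fun h => ha (D.outF_injective (h.trans D.outF_zero.symm))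
      apply D.outF_injective
      rw [outF_mul, outF_one]
      have : D.outF a⁻¹ = Classical.choose (D.exists_inv h) := by
        rw [D.inv_def, dif_neg h]
        rfl
      rw [this]
      exact Classical.choose_spec (D.exists_inv h))
    (by
      rw [D.inv_def, dif_pos D.outF_zero])
    (fun a b c => by
      apply D.outF_injective
      rw [outF_mul, outF_add, outF_add, outF_mul, outF_mul, map_mul])
    ⟨0, 1, fun h => D.hw₀ (congrArg D.outF h).symm⟩

/-- `ξ` acts as multiplication by `ξ w₀` -/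
theorem inF_ξ (w : W) : D.inF (D.ξ w) = D.inF (D.ξ D.w₀) * D.inF w := by
  apply D.outF_injective
  rw [outF_mul, outF_inF, outF_inF, outF_inF, D.L_ξ]
  rfl

theorem inF_pow_ξ (i : ℕ) (w : W) : D.inF ((D.ξ ^ i) w) = D.inF (D.ξ D.w₀) ^ i * D.inF w := by
  induction i with
  | zero => simp
  | succ i ih =>
    have h1 : (D.ξ ^ (i + 1)) w = D.ξ ((D.ξ ^ i) w) := by
      rw [pow_succ']; rfl
    rw [h1, D.inF_ξ, ih, pow_succ]
    ring

theorem inF_eq_zero_iff (w : W) : D.inF w = 0 ↔ w = 1 :=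
  ⟨fun h => congrArg D.outF h, fun h => congrArg D.inF h⟩

/-- every nonzero element is a power of `ξ w₀` -/
theorem exists_pow (x : D.Fld) (hx : x ≠ 0) : ∃ i : ℕ, x = D.inF (D.ξ D.w₀) ^ i := by
  have h : D.outF x ≠ 1 := fun h => hx (D.outF_injective (h.trans D.outF_zero.symm))
  obtain ⟨i, hi⟩ := D.htrans (D.outF x) h
  refine ⟨i, ?_⟩
  have := D.inF_pow_ξ i D.w₀
  rw [hi, inF_outF] at this
  rw [this]
  have h1 : D.inF D.w₀ = 1 := rfl
  rw [h1, mul_one]

instance [Finite W] : Finite D.Fld := inferInstanceAs (Finite W)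

theorem card_fld : Nat.card D.Fld = Nat.card W := rfl

end RegData

end Cfsg.Agent.Lib.Helper68.RegField
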