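import Mathlib
import Cfsg.Prelude.Def_LieRecognition

set_option autoImplicit false

/-! The 2-group of type A: explicit description of `Cfsg.suzukiTypeA`. -/

namespace Cfsg.Agent.Lib.Helper68.SuzTypeA

variable {F : Type*} [Field F] (φ : F →+* F)

/-- the matrix with rows `(1,0,0)`, `(x,1,0)`, `(y, φ x, 1)` -/
def mat (x y : F) : Matrix (Fin 3) (Fin 3) F := !![1, 0, 0; x, 1, 0; y, φ x, 1]

theorem det_mat (x y : F) : (mat φ x y).det = 1 := by
  rw [mat, Matrix.det_fin_three]; simp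

/-- the matrix as an element of `GL₃` -/
noncomputable def Mg (x y : F) : GL (Fin 3) F :=
  Matrix.GeneralLinearGroup.mkOfDetNeZero (mat φ x y) (by rw [det_mat]; exact one_ne_zero)

theorem Mg_coe (x y : F) : ((Mg φ x y : GL (Fin 3) F) : Matrix (Fin 3) (Fin 3) F) = mat φ x y := rfl

theorem mat_mul (x y x' y' : F) :
    mat φ x y * mat φ x' y' = mat φ (x + x') (y + y' + φ x * x') := by
  unfold mat
  ext i j
  fin_cases i <;> fin_cases j <;> simp [Matrix.mul_apply, Fin.sum_univ_three] <;> ring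

theorem Mg_mul (x y x' y' : F) :
    Mg φ x y * Mg φ x' y' = Mg φ (x + x') (y + y' + φ x * x') := by
  apply Units.ext
  rw [Units.val_mul]
  show mat φ x y * mat φ x' y' = mat φ (x + x') (y + y' + φ x * x')
  exact mat_mul φ x y x' y'

theorem mat_zero : mat φ 0 0 = 1 := by
  unfold mat
  ext i j
  fin_cases i <;> fin_cases j <;> simp

theorem Mg_zero : Mg φ 0 0 = 1 := by
  apply Units.ext
  show mat φ 0 0 = 1
  exact mat_zero φ

theorem Mg_inj {x y x' y' : F} (h : Mg φ x y = Mg φ x' y') : x = x' ∧ y = y' := by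
  have h1 : mat φ x y = mat φ x' y' := congrArg (fun g : GL (Fin 3) F => (g : Matrix (Fin 3) (Fin 3) F)) h
  have h2 := congrFun (congrFun h1 1) 0
  have h3 := congrFun (congrFun h1 2) 0
  simp [mat] at h2 h3
  exact ⟨h2, h3⟩

theorem Mg_inv (x y : F) : (Mg φ x y)⁻¹ = Mg φ (-x) (-y + φ x * x) := by
  rw [inv_eq_iff_mul_eq_one, Mg_mul, ← Mg_zero φ]
  congr 1
  · ring
  · ring

/-- the set of all `Mg x y`, as a subgroup -/
noncomputable def H : Subgroup (GL (Fin 3) F) where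
  carrier := {g | ∃ x y : F, g = Mg φ x y}
  mul_mem' := by
    rintro _ _ ⟨x, y, rfl⟩ ⟨x', y', rfl⟩
    exact ⟨_, _, Mg_mul φ x y x' y'⟩
  one_mem' := ⟨0, 0, (Mg_zero φ).symm⟩
  inv_mem' := by
    rintro _ ⟨x, y, rfl⟩
    exact ⟨_, _, Mg_inv φ x y⟩

theorem typeA_eq : Cfsg.suzukiTypeA F φ = H φ := by
  have h1 : {g : GL (Fin 3) F | ∃ x y : F,
      (g : Matrix (Fin 3) (Fin 3) F) = !![1, 0, 0; x, 1, 0; y, φ x, 1]} = (H φ : Set (GL (Fin 3) F)) := by
    ext g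
    constructor
    · rintro ⟨x, y, hg⟩
      exact ⟨x, y, Units.ext hg⟩
    · rintro ⟨x, y, rfl⟩
      exact ⟨x, y, rfl⟩
  unfold Cfsg.suzukiTypeA
  rw [h1]
  exact Subgroup.closure_eq (H φ)

theorem mem_typeA_iff (g : GL (Fin 3) F) : g ∈ Cfsg.suzukiTypeA F φ ↔ ∃ x y : F, g = Mg φ x y := by
  rw [typeA_eq]
  rfl

theorem card_typeA_le [Finite F] : Nat.card (Cfsg.suzukiTypeA F φ) ≤ Nat.card F * Nat.card F := by
  rw [← Nat.card_prod]
  have : Function.Surjective (fun p : F × F =>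
      (⟨Mg φ p.1 p.2, (mem_typeA_iff φ _).2 ⟨p.1, p.2, rfl⟩⟩ : Cfsg.suzukiTypeA F φ)) := by
    rintro ⟨g, hg⟩
    obtain ⟨x, y, rfl⟩ := (mem_typeA_iff φ g).1 hg
    exact ⟨(x, y), rfl⟩
  exact Nat.card_le_card_of_surjective _ this

end Cfsg.Agent.Lib.Helper68.SuzTypeA
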