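import Mathlib
import Cfsg.Agent.Lib.Helper68.SuzTypeA

set_option autoImplicit false

/-! Recognition of the group of type A from its squaring map, by extending a homomorphism
along a chain of subgroups of index two. -/

namespace Cfsg.Agent.Lib.Helper68.SuzExt

open Cfsg.Agent.Lib.Helper68.SuzTypeA

/-- a 2-group `P` with central subgroup `Z`, coordinates `α : P/Z → F`, `ι : Z → F`, whose squaring
map is `x ↦ φ x * x` -/
structure Setup (P : Type*) [Group P] (F : Type*) [Field F] where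
  Z : Subgroup P
  φ : F →+* F
  α : P → F
  ι : P → F
  two : (2 : F) = 0
  α_mul : ∀ g h, α (g * h) = α g + α h
  α_Z : ∀ z ∈ Z, α z = 0
  α_ker : ∀ g, α g = 0 → g ∈ Z
  ι_mul : ∀ z ∈ Z, ∀ z' ∈ Z, ι (z * z') = ι z + ι z'
  ι_inj : ∀ z ∈ Z, ι z = 0 → z = 1
  central : ∀ z ∈ Z, ∀ g, z * g = g * z
  sq_mem : ∀ g, g * g ∈ Z
  comm_mem : ∀ g u, u⁻¹ * g⁻¹ * u * g ∈ Z
  sq : ∀ g, ι (g * g) = φ (α g) * α g

variable {P : Type*} [Group P] {F : Type*} [Field F] (S : Setup P F)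

namespace Setup

theorem add_self (S : Setup P F) (a : F) : a + a = 0 := by
  have : a + a = 2 * a := by ring
  rw [this, S.two, zero_mul]

theorem α_one : S.α 1 = 0 := S.α_Z 1 (one_mem _)

theorem ι_one : S.ι 1 = 0 := by
  have := S.ι_mul 1 (one_mem _) 1 (one_mem _)
  rw [mul_one] at this
  have h : S.ι 1 + 0 = S.ι 1 + S.ι 1 := by rw [add_zero]; exact this
  exact (add_left_cancel h).symm

/-- the commutator in coordinates -/
theorem ι_comm (g u : P) :
    S.ι (u⁻¹ * g⁻¹ * u * g) = S.φ (S.α g) * S.α u + S.φ (S.α u) * S.α g := by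
  set k := u⁻¹ * g⁻¹ * u * g with hk
  have hkZ : k ∈ S.Z := S.comm_mem g u
  have h1 : (g * u) * (g * u) = (g * g) * (u * u) * k := by
    have hc := S.central k hkZ u
    -- g u g u = g g u k u = g g u u k
    calc (g * u) * (g * u) = g * (u * g) * u := by group
      _ = g * (g * u * k) * u := by rw [hk]; group
      _ = g * g * u * (k * u) := by group
      _ = g * g * u * (u * k) := by rw [hc]
      _ = (g * g) * (u * u) * k := by group
  have h2 := S.sq (g * u)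
  rw [h1, S.ι_mul _ (mul_mem (S.sq_mem g) (S.sq_mem u)) _ hkZ,
    S.ι_mul _ (S.sq_mem g) _ (S.sq_mem u), S.sq, S.sq, S.α_mul, map_add] at h2
  have h3 : S.ι k = (S.φ (S.α g) + S.φ (S.α u)) * (S.α g + S.α u)
      - (S.φ (S.α g) * S.α g + S.φ (S.α u) * S.α u) := by
    rw [← h2]; ring
  rw [h3]
  ring

/-- a partial homomorphism on `N`, in coordinates -/
def Good (N : Subgroup P) : Prop :=
  S.Z ≤ N ∧ ∃ b : P → F, (∀ z ∈ S.Z, b z = S.ι z) ∧
    ∀ x ∈ N, ∀ y ∈ N, b (x * y) = b x + b y + S.φ (S.α x) * S.α y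

theorem good_Z : S.Good S.Z := by
  refine ⟨le_refl _, S.ι, fun _ _ => rfl, ?_⟩
  intro x hx y hy
  rw [S.ι_mul x hx y hy, S.α_Z y hy, mul_zero, add_zero]

theorem conj_mem {N : Subgroup P} (hZN : S.Z ≤ N) (g : P) {u : P} (hu : u ∈ N) :
    g⁻¹ * u * g ∈ N := by
  have : g⁻¹ * u * g = u * (u⁻¹ * g⁻¹ * u * g) := by group
  rw [this]
  exact mul_mem hu (hZN (S.comm_mem g u))

/-- the subgroup `N ∪ gN` -/
def ext (N : Subgroup P) (hZN : S.Z ≤ N) (g : P) : Subgroup P where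
  carrier := {x | x ∈ N ∨ g⁻¹ * x ∈ N}
  one_mem' := Or.inl (one_mem _)
  mul_mem' := by
    rintro x y (hx | hx) (hy | hy)
    · exact Or.inl (mul_mem hx hy)
    · right
      have : g⁻¹ * (x * y) = (g⁻¹ * x * g) * (g⁻¹ * y) := by group
      rw [this]
      exact mul_mem (S.conj_mem hZN g hx) hy
    · right
      have : g⁻¹ * (x * y) = (g⁻¹ * x) * y := by group
      rw [this]
      exact mul_mem hx hy
    · left
      have : x * y = (g * g) * (g⁻¹ * (g⁻¹ * x) * g) * (g⁻¹ * y) := by group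
      rw [this]
      exact mul_mem (mul_mem (hZN (S.sq_mem g)) (S.conj_mem hZN g hx)) hy
  inv_mem' := by
    rintro x (hx | hx)
    · exact Or.inl (inv_mem hx)
    · right
      have : g⁻¹ * x⁻¹ = (g⁻¹ * (g⁻¹ * x)⁻¹ * g) * (g * g)⁻¹ := by group
      rw [this]
      exact mul_mem (S.conj_mem hZN g (inv_mem hx)) (inv_mem (hZN (S.sq_mem g)))

theorem mem_ext {N : Subgroup P} (hZN : S.Z ≤ N) (g x : P) :
    x ∈ S.ext N hZN g ↔ x ∈ N ∨ g⁻¹ * x ∈ N := Iff.rfl

open Classical in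
theorem good_step (N : Subgroup P) (hN : S.Good N) (g : P) (hg : g ∉ N) :
    ∃ N' : Subgroup P, N < N' ∧ S.Good N' := by
  obtain ⟨hZN, b, hbZ, hb⟩ := hN
  refine ⟨S.ext N hZN g, ?_, ?_⟩
  · constructor
    · intro x hx
      exact Or.inl hx
    · intro h
      apply hg
      apply h
      right
      rw [inv_mul_cancel]
      exact one_mem _
  have hφ0 : S.φ 0 = 0 := map_zero _
  -- auxiliary formulas for `b` on `N`
  have hb4 : ∀ z ∈ S.Z, ∀ v ∈ N, b (z * v) = S.ι z + b v := by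
    intro z hz v hv
    rw [hb z (hZN hz) v hv, hbZ z hz, S.α_Z z hz, hφ0, zero_mul, add_zero]
  have hb5 : ∀ u ∈ N, ∀ k ∈ S.Z, b (u * k) = b u + S.ι k := by
    intro u hu k hk
    rw [hb u hu k (hZN hk), hbZ k hk, S.α_Z k hk, mul_zero, add_zero]
  have hαg : ∀ u, S.α (g * u) = S.α g + S.α u := fun u => S.α_mul g u
  let b' : P → F := fun x => if x ∈ N then b x else b (g⁻¹ * x) + S.φ (S.α g) * S.α (g⁻¹ * x)
  have hb'N : ∀ x ∈ N, b' x = b x := fun x hx => if_pos hx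
  have hb'g : ∀ u ∈ N, b' (g * u) = b u + S.φ (S.α g) * S.α u := by
    intro u hu
    have hn : g * u ∉ N := by
      intro h
      apply hg
      have := mul_mem h (inv_mem hu)
      rwa [mul_inv_cancel_right] at this
    show (if g * u ∈ N then b (g * u) else b (g⁻¹ * (g * u)) + S.φ (S.α g) * S.α (g⁻¹ * (g * u))) = _
    rw [if_neg hn, inv_mul_cancel_left]
  refine ⟨fun z hz => Or.inl (hZN hz), b', fun z hz => (hb'N z (hZN hz)).trans (hbZ z hz), ?_⟩
  have h2 := S.two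
  have hαk : ∀ u ∈ N, ∀ k ∈ S.Z, ∀ u' ∈ N, S.α (u * k * u') = S.α u + S.α u' := by
    intro u _ k hk u' _
    rw [S.α_mul, S.α_mul, S.α_Z k hk, add_zero]
  have hbk : ∀ u ∈ N, ∀ k ∈ S.Z, ∀ u' ∈ N,
      b (u * k * u') = b u + S.ι k + b u' + S.φ (S.α u) * S.α u' := by
    intro u hu k hk u' hu'
    rw [hb (u * k) (mul_mem hu (hZN hk)) u' hu', hb5 u hu k hk, S.α_mul, S.α_Z k hk, add_zero]
  rintro x (hx | hx) y (hy | hy)
  · rw [hb'N x hx, hb'N y hy, hb'N _ (mul_mem hx hy)]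
    exact hb x hx y hy
  · -- `x = u`, `y = g u'`
    obtain ⟨u', hu'⟩ : ∃ u', u' = g⁻¹ * y := ⟨_, rfl⟩
    rw [← hu'] at hy
    have hy' : y = g * u' := by rw [hu']; group
    subst hy'
    obtain ⟨k, hk⟩ : ∃ k, k = x⁻¹ * g⁻¹ * x * g := ⟨_, rfl⟩
    have hkZ : k ∈ S.Z := by rw [hk]; exact S.comm_mem g x
    have hxy : x * (g * u') = g * (x * k * u') := by rw [hk]; group
    have hmem : x * k * u' ∈ N := mul_mem (mul_mem hx (hZN hkZ)) hy
    have e1 : b' (x * (g * u')) = b (x * k * u') + S.φ (S.α g) * S.α (x * k * u') := by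
      rw [hxy]; exact hb'g _ hmem
    have e4 : S.ι k = S.φ (S.α g) * S.α x + S.φ (S.α x) * S.α g := by
      rw [hk]; exact S.ι_comm g x
    rw [e1, hbk x hx k hkZ u' hy, hαk x hx k hkZ u' hy, e4, hb'g u' hy, hb'N x hx, hαg u']
    linear_combination (S.φ (S.α g) * S.α x) * h2
  · -- `x = g u`, `y = u'`
    obtain ⟨u, hu⟩ : ∃ u, u = g⁻¹ * x := ⟨_, rfl⟩
    rw [← hu] at hx
    have hx' : x = g * u := by rw [hu]; group
    subst hx'
    have hxy : (g * u) * y = g * (u * y) := by group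
    have e1 : b' ((g * u) * y) = b (u * y) + S.φ (S.α g) * S.α (u * y) := by
      rw [hxy]; exact hb'g _ (mul_mem hx hy)
    rw [e1, hb u hx y hy, S.α_mul u y, hb'g u hx, hb'N y hy, hαg u, map_add]
    ring
  · -- `x = g u`, `y = g u'`
    obtain ⟨u, hu⟩ : ∃ u, u = g⁻¹ * x := ⟨_, rfl⟩
    rw [← hu] at hx
    have hx' : x = g * u := by rw [hu]; group
    subst hx'
    obtain ⟨u', hu'⟩ : ∃ u', u' = g⁻¹ * y := ⟨_, rfl⟩
    rw [← hu'] at hy
    have hy' : y = g * u' := by rw [hu']; group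
    subst hy'
    obtain ⟨k, hk⟩ : ∃ k, k = u⁻¹ * g⁻¹ * u * g := ⟨_, rfl⟩
    have hkZ : k ∈ S.Z := by rw [hk]; exact S.comm_mem g u
    have hxy : (g * u) * (g * u') = (g * g) * (u * k * u') := by rw [hk]; group
    have hmem : u * k * u' ∈ N := mul_mem (mul_mem hx (hZN hkZ)) hy
    have e1 : b' ((g * u) * (g * u')) = S.ι (g * g) + b (u * k * u') := by
      rw [hxy, hb'N _ (mul_mem (hZN (S.sq_mem g)) hmem)]
      exact hb4 _ (S.sq_mem g) _ hmem
    have e4 : S.ι k = S.φ (S.α g) * S.α u + S.φ (S.α u) * S.α g := by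
      rw [hk]; exact S.ι_comm g u
    rw [e1, S.sq, hbk u hx k hkZ u' hy, e4, hb'g u hx, hb'g u' hy, hαg u, hαg u', map_add]
    linear_combination (-(S.φ (S.α g) * S.α u')) * h2

theorem good_top [Finite P] : S.Good ⊤ := by
  classical
  obtain ⟨N, hN, hmax⟩ := Set.exists_max_image {N : Subgroup P | S.Good N}
    (fun N => Nat.card N) (Set.toFinite _) ⟨S.Z, S.good_Z⟩
  by_cases htop : N = ⊤
  · rw [← htop]; exact hN
  · exfalso
    obtain ⟨g, hg⟩ : ∃ g : P, g ∉ N := by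
      by_contra h
      push Not at h
      exact htop (top_le_iff.1 (fun x _ => h x))
    obtain ⟨N', hlt, hN'⟩ := S.good_step N hN g hg
    have h1 := hmax N' hN'
    have h2 : Nat.card N < Nat.card N' := by
      by_contra h
      push Not at h
      exact (ne_of_lt hlt) (Subgroup.eq_of_le_of_card_ge hlt.le h)
    omega

/-- the homomorphism into `GL₃` -/
theorem exists_hom [Finite P] : ∃ f : P →* GL (Fin 3) F, Function.Injective f ∧
    ∀ x, ∃ y : F, f x = Mg S.φ (S.α x) y := by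
  obtain ⟨-, b, hbZ, hb⟩ := S.good_top
  have hb1 : b 1 = 0 := by
    rw [hbZ 1 (one_mem _)]; exact S.ι_one
  refine ⟨{ toFun := fun x => Mg S.φ (S.α x) (b x)
            map_one' := by rw [S.α_one, hb1]; exact Mg_zero _
            map_mul' := fun x y => by
              rw [Mg_mul, S.α_mul, hb x (Subgroup.mem_top x) y (Subgroup.mem_top y)] }, ?_,
    fun x => ⟨b x, rfl⟩⟩
  rw [injective_iff_map_eq_one]
  intro x hx
  have hx' : Mg S.φ (S.α x) (b x) = Mg S.φ 0 0 := by rw [Mg_zero]; exact hx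
  obtain ⟨h1, h2⟩ := Mg_inj S.φ hx'
  have hxZ : x ∈ S.Z := S.α_ker x h1
  rw [hbZ x hxZ] at h2
  exact S.ι_inj x hxZ h2

/-- **recognition of type A** -/
theorem nonempty_mulEquiv [Finite P] [Finite F] (hcard : Nat.card P = Nat.card F * Nat.card F) :
    Nonempty (P ≃* Cfsg.suzukiTypeA F S.φ) := by
  obtain ⟨f, hinj, hf⟩ := S.exists_hom
  have hle : f.range ≤ Cfsg.suzukiTypeA F S.φ := by
    rintro _ ⟨x, rfl⟩
    obtain ⟨y, hy⟩ := hf x
    exact (mem_typeA_iff S.φ _).2 ⟨_, _, hy⟩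
  have hfinA : Finite (Cfsg.suzukiTypeA F S.φ) := by
    have : Finite (GL (Fin 3) F) := inferInstance
    infer_instance
  have hcr : Nat.card f.range = Nat.card P :=
    (Nat.card_congr (MonoidHom.ofInjective hinj).toEquiv).symm
  have heq : f.range = Cfsg.suzukiTypeA F S.φ := by
    apply Subgroup.eq_of_le_of_card_ge hle
    rw [hcr, hcard]
    exact card_typeA_le S.φ
  exact ⟨(MonoidHom.ofInjective hinj).trans (MulEquiv.subgroupCongr heq)⟩

end Setup

end Cfsg.Agent.Lib.Helper68.SuzExt
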