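import Mathlib
import Cfsg.Agent.S1140

set_option autoImplicit false

/-! A multiplicative injective map `N` of a finite field of characteristic two whose polarization
is biadditive and non-zero is `x ↦ σ x * φ (σ x)` for field automorphisms `σ`, `φ` with `φ ≠ 1` of odd
order. -/

namespace Cfsg.Agent.Lib.Helper68.SuzFieldCore

open Module

variable {F : Type*} [Field F] [Fintype F] [CharP F 2]

theorem fixed_of_mem_zpowers {F : Type*} [Field F] (ψ : RingAut F) (u : F) (h : ψ u = u)
    (g : RingAut F) (hg : g ∈ Subgroup.zpowers ψ) : g u = u := by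
  have h1 : ψ ∈ MulAction.stabilizer (RingAut F) u := by
    rw [MulAction.mem_stabilizer_iff]; exact h
  have h2 := (Subgroup.zpowers_le.2 h1) hg
  rw [MulAction.mem_stabilizer_iff] at h2
  exact h2

/-- an automorphism of even order of a finite field has `x ≠ 1` with `x * φ x = 1` -/
theorem exists_norm_one_of_even {F : Type*} [Field F] [Fintype F] (φ : F ≃+* F)
    (heven : Even (orderOf φ)) : ∃ x : F, x ≠ 1 ∧ x * φ x = 1 := by
  classical
  have hfin : Finite (RingAut F) :=
    Finite.of_injective (fun e : F ≃+* F => (e : F → F)) DFunLike.coe_injective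
  have hd0 : 0 < orderOf φ := orderOf_pos_iff.2 (isOfFinOrder_of_finite (φ : RingAut F))
  obtain ⟨m, hm⟩ := heven
  have hm0 : 0 < m := by omega
  let G₁ : Subgroup (RingAut F) := Subgroup.zpowers (φ : RingAut F)
  let G₂ : Subgroup (RingAut F) := Subgroup.zpowers ((φ : RingAut F) ^ 2)
  have : Fintype G₁ := Fintype.ofFinite _
  have : Fintype G₂ := Fintype.ofFinite _
  have h1 := FixedPoints.finrank_eq_card G₁ F
  have h2 := FixedPoints.finrank_eq_card G₂ F
  have hc1 : Fintype.card G₁ = m + m := by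
    rw [← Nat.card_eq_fintype_card, ← hm]
    exact Nat.card_zpowers (φ : RingAut F)
  have hc2 : Fintype.card G₂ = m := by
    rw [← Nat.card_eq_fintype_card]
    have h3 : Nat.card G₂ = orderOf ((φ : RingAut F) ^ 2) := Nat.card_zpowers _
    have h4 : orderOf (φ : RingAut F) = m + m := hm
    rw [h3, orderOf_pow' (φ : RingAut F) (by norm_num : (2 : ℕ) ≠ 0), h4]
    have h5 : Nat.gcd (m + m) 2 = 2 := Nat.gcd_eq_right ⟨m, by ring⟩
    rw [h5]
    omega
  -- some `u` is fixed by `φ ^ 2` but not by `φ`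
  have hex : ∃ u : F, φ (φ u) = u ∧ φ u ≠ u := by
    by_contra hcon
    push Not at hcon
    have hsub : FixedPoints.subfield G₂ F = FixedPoints.subfield G₁ F := by
      ext u
      constructor
      · intro hu g
        have hu2 : φ (φ u) = u := by
          have := hu ⟨(φ : RingAut F) ^ 2, Subgroup.mem_zpowers _⟩
          exact this
        have hu1 : φ u = u := hcon u hu2
        exact fixed_of_mem_zpowers (φ : RingAut F) u hu1 g.1 g.2
      · intro hu g
        have hu1 : φ u = u := hu ⟨(φ : RingAut F), Subgroup.mem_zpowers _⟩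
        have hu2 : ((φ : RingAut F) ^ 2) u = u := by
          show φ (φ u) = u
          rw [hu1, hu1]
        exact fixed_of_mem_zpowers ((φ : RingAut F) ^ 2) u hu2 g.1 g.2
    rw [hsub, h1, hc1] at h2
    omega
  obtain ⟨u, hu2, hu1⟩ := hex
  have hu0 : u ≠ 0 := by
    rintro rfl
    exact hu1 (map_zero φ)
  have hφu0 : φ u ≠ 0 := by
    intro h
    apply hu0
    have := congrArg φ.symm h
    simpa using this
  refine ⟨u * (φ u)⁻¹, ?_, ?_⟩
  · intro h
    apply hu1
    field_simp at h
    exact h.symm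
  · rw [map_mul, map_inv₀, hu2]
    field_simp

/-- the field core of Higman's theorem -/
theorem core (N : F → F) (hmul : ∀ x y, N (x * y) = N x * N y) (hinj : Function.Injective N)
    (B : F →+ F →+ F) (hB : ∀ x y, N (x + y) = N x + N y + B x y) (hB0 : ∃ x y, B x y ≠ 0) :
    ∃ σ φ : F ≃+* F, (∀ x, N x = σ x * φ (σ x)) ∧ φ ≠ RingEquiv.refl F ∧ Odd (orderOf φ) := by
  classical
  have hN0 : N 0 = 0 := by
    have h := hB 0 0
    rw [add_zero, map_zero, add_zero, CharTwo.add_self_eq_zero] at h
    exact h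
  have hN1 : N 1 = 1 := by
    have h := hmul 1 1
    rw [mul_one] at h
    have h1 : N 1 * (N 1 - 1) = 0 := by rw [mul_sub, mul_one, ← h, sub_self]
    rcases mul_eq_zero.1 h1 with h2 | h2
    · exfalso
      have := hinj (h2.trans hN0.symm)
      exact one_ne_zero this
    · exact sub_eq_zero.1 h2
  have hNu : ∀ u : Fˣ, N (u : F) ≠ 0 := by
    intro u h
    have h1 := hmul (u : F) ((u⁻¹ : Fˣ) : F)
    rw [Units.mul_inv, hN1, h, zero_mul] at h1
    exact one_ne_zero h1
  have hBu : ∀ u x y : F, B (u * x) (u * y) = N u * B x y := by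
    intro u x y
    have h1 := hB (u * x) (u * y)
    rw [← mul_add, hmul, hmul, hmul, hB x y] at h1
    have h2 : N u * (N x + N y + B x y) = N u * N x + N u * N y + N u * B x y := by ring
    rw [h2] at h1
    exact (add_left_cancel h1).symm
  obtain ⟨s, c, hs⟩ := (Cfsg.Agent.S1140.result (F := F)).2.2 B
  -- the characters
  let χ : (F ≃+* F) × (F ≃+* F) → (Fˣ →* F) := fun p =>
    { toFun := fun u => (N (u : F))⁻¹ * (p.1 (u : F) * p.2 (u : F))
      map_one' := by
        show (N ((1 : Fˣ) : F))⁻¹ * (p.1 ((1 : Fˣ) : F) * p.2 ((1 : Fˣ) : F)) = 1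
        rw [Units.val_one, hN1, map_one, map_one]; simp
      map_mul' := by
        intro u v
        show (N ((u * v : Fˣ) : F))⁻¹ * (p.1 ((u * v : Fˣ) : F) * p.2 ((u * v : Fˣ) : F)) =
          (N (u : F))⁻¹ * (p.1 (u : F) * p.2 (u : F)) * ((N (v : F))⁻¹ * (p.1 (v : F) * p.2 (v : F)))
        rw [Units.val_mul, hmul, map_mul, map_mul, mul_inv]
        ring }
  have hχ : ∀ p (u : Fˣ), χ p u = (N (u : F))⁻¹ * (p.1 (u : F) * p.2 (u : F)) := fun _ _ => rfl
  have hcardu : ((Fintype.card Fˣ : ℕ) : F) = 1 := by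
    rw [Fintype.card_units]
    have h1 : 1 ≤ Fintype.card F := Fintype.card_pos
    rw [Nat.cast_sub h1, FiniteField.cast_card_eq_zero, Nat.cast_one, zero_sub]
    exact CharTwo.neg_eq (1 : F)
  have hexp : ∃ p ∈ s, χ p = 1 := by
    by_contra hcon
    push Not at hcon
    obtain ⟨x, y, hxy⟩ := hB0
    apply hxy
    have h1 : ∑ u : Fˣ, (N (u : F))⁻¹ * B ((u : F) * x) ((u : F) * y) = B x y := by
      have : ∀ u : Fˣ, (N (u : F))⁻¹ * B ((u : F) * x) ((u : F) * y) = B x y := by
        intro u
        rw [hBu, ← mul_assoc, inv_mul_cancel₀ (hNu u), one_mul]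
      rw [Finset.sum_congr rfl (fun u _ => this u), Finset.sum_const, Finset.card_univ,
        nsmul_eq_mul, hcardu, one_mul]
    have h2 : ∑ u : Fˣ, (N (u : F))⁻¹ * B ((u : F) * x) ((u : F) * y) = 0 := by
      have : ∀ u : Fˣ, (N (u : F))⁻¹ * B ((u : F) * x) ((u : F) * y) =
          ∑ p ∈ s, c p * (p.1 x * p.2 y) * χ p u := by
        intro u
        rw [hs, Finset.mul_sum]
        apply Finset.sum_congr rfl
        intro p _
        rw [hχ, map_mul, map_mul]
        ring
      rw [Finset.sum_congr rfl (fun u _ => this u), Finset.sum_comm]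
      apply Finset.sum_eq_zero
      intro p hp
      rw [← Finset.mul_sum, sum_hom_units_eq_zero (χ p) (hcon p hp), mul_zero]
    rw [← h1, h2]
  obtain ⟨p, -, hp⟩ := hexp
  obtain ⟨σ, τ⟩ := p
  have hNστ : ∀ x : F, N x = σ x * τ x := by
    intro x
    by_cases hx : x = 0
    · rw [hx, hN0, map_zero, zero_mul]
    · have h1 : χ (σ, τ) (Units.mk0 x hx) = 1 := by rw [hp]; rfl
      rw [hχ] at h1
      simp only [Units.val_mk0] at h1
      have h2 : N x ≠ 0 := hNu (Units.mk0 x hx)
      field_simp at h1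
      exact h1.symm
  refine ⟨σ, σ.symm.trans τ, ?_, ?_, ?_⟩
  · intro x
    rw [hNστ]
    simp
  · intro hφ
    obtain ⟨x, y, hxy⟩ := hB0
    apply hxy
    have hτ : ∀ z, τ z = σ z := by
      intro z
      have := congrArg (fun f : F ≃+* F => f (σ z)) hφ
      simpa using this
    have h1 := hB x y
    rw [hNστ, hNστ, hNστ, hτ, hτ, hτ, map_add] at h1
    have h2 : (σ x + σ y) * (σ x + σ y) = σ x * σ x + σ y * σ y := by
      have : (σ x + σ y) * (σ x + σ y) = σ x * σ x + σ y * σ y + (σ x * σ y + σ x * σ y) := by ring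
      rw [this, CharTwo.add_self_eq_zero, add_zero]
    rw [h2] at h1
    have h3 : σ x * σ x + σ y * σ y + 0 = σ x * σ x + σ y * σ y + B x y := by
      rw [add_zero]; exact h1
    exact (add_left_cancel h3).symm
  · by_contra hodd
    rw [Nat.not_odd_iff_even] at hodd
    obtain ⟨x, hx1, hx⟩ := exists_norm_one_of_even (σ.symm.trans τ) hodd
    apply hx1
    have h1 : N (σ.symm x) = 1 := by
      rw [hNστ]
      have : (σ.symm.trans τ) x = τ (σ.symm x) := rfl
      rw [this] at hx
      simpa using hx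
    have h2 := hinj (h1.trans hN1.symm)
    have := congrArg σ h2
    simpa using this

end Cfsg.Agent.Lib.Helper68.SuzFieldCore
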