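import Mathlib
import Cfsg.Agent.Lib.Helper68.RegField
import Cfsg.Agent.Lib.Helper68.SuzFieldCore
import Cfsg.Agent.Lib.Helper68.SuzExt
import Cfsg.Agent.Lib.Helper68.SuzStruct

set_option autoImplicit false

/-! Coordinates on a Suzuki 2-group of order `q^2`. -/

namespace Cfsg.Agent.Lib.Helper68.SuzCoord

open Subgroup
open Cfsg.Agent.Lib.Helper68.RegField
open Cfsg.Agent.Lib.Helper68.SuzStruct
open Cfsg.Agent.Lib.Helper68.SuzExt

variable {P : Type*} [Group P]

/-- restriction of automorphisms to the centre -/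
def autZ : MulAut P →* MulAut (center P) where
  toFun k :=
    { toFun := fun w => ⟨k w, aut_center k w.2⟩
      invFun := fun w => ⟨k.symm w, aut_center k.symm w.2⟩
      left_inv := fun w => Subtype.ext (k.symm_apply_apply w)
      right_inv := fun w => Subtype.ext (k.apply_symm_apply w)
      map_mul' := fun w w' => Subtype.ext (map_mul k _ _) }
  map_one' := by ext w; rfl
  map_mul' := fun k k' => by ext w; rfl

theorem autZ_apply (k : MulAut P) (w : center P) : ((autZ k w : center P) : P) = k w := rfl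

theorem autZ_pow_apply (k : MulAut P) (i : ℕ) (w : center P) :
    ((((autZ k) ^ i) w : center P) : P) = (k ^ i) w := by
  rw [← map_pow]; rfl

theorem center_map (k : MulAut P) : (center P).map (k : P →* P) = center P :=
  (Subgroup.characteristic_iff_map_eq.1 inferInstance) k

/-- induced automorphisms of the central quotient -/
def autV : MulAut P →* MulAut (P ⧸ center P) where
  toFun k := QuotientGroup.congr (center P) (center P) k (center_map k)
  map_one' := by
    ext x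
    obtain ⟨g, rfl⟩ := QuotientGroup.mk_surjective x
    rfl
  map_mul' := fun k k' => by
    ext x
    obtain ⟨g, rfl⟩ := QuotientGroup.mk_surjective x
    rfl

theorem autV_mk (k : MulAut P) (g : P) :
    autV k (QuotientGroup.mk g : P ⧸ center P) = QuotientGroup.mk (k g) := rfl

theorem autV_pow_mk (k : MulAut P) (i : ℕ) (g : P) :
    ((autV k) ^ i) (QuotientGroup.mk g : P ⧸ center P) = QuotientGroup.mk ((k ^ i) g) := by
  rw [← map_pow]; rfl

/-- the commutator -/
def κ (g h : P) : P := h⁻¹ * g⁻¹ * h * g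

theorem κ_eq_one_iff (g h : P) : κ g h = 1 ↔ h * g = g * h := by
  unfold κ
  constructor
  · intro e
    have : h * g = g * h * (h⁻¹ * g⁻¹ * h * g) := by group
    rw [this, e, mul_one]
  · intro e
    have : h⁻¹ * g⁻¹ * h * g = h⁻¹ * g⁻¹ * (h * g) := by group
    rw [this, e]; group

theorem κ_mul_left (hc : ∀ g h : P, κ g h ∈ center P) (g g' h : P) :
    κ (g * g') h = κ g h * κ g' h := by
  obtain ⟨c, hcd⟩ : ∃ c, c = κ g h := ⟨_, rfl⟩
  have hcZ : c ∈ center P := hcd ▸ hc g h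
  have e1 : g⁻¹ * h * g = h * c := by rw [hcd]; unfold κ; group
  have e2 : g' * c = c * g' := mem_center_iff.1 hcZ g'
  have e3 : κ g' h * c = c * κ g' h := mem_center_iff.1 hcZ _
  rw [← hcd, ← e3]
  calc κ (g * g') h = h⁻¹ * g'⁻¹ * (g⁻¹ * h * g) * g' := by unfold κ; group
    _ = h⁻¹ * g'⁻¹ * (h * c) * g' := by rw [e1]
    _ = h⁻¹ * g'⁻¹ * h * (c * g') := by group
    _ = h⁻¹ * g'⁻¹ * h * (g' * c) := by rw [e2]
    _ = κ g' h * c := by unfold κ; group

theorem κ_symm (hc : ∀ g h : P, κ g h ∈ center P) (hexp : ∀ z ∈ center P, z * z = 1) (g h : P) :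
    κ h g = κ g h := by
  have h1 : κ h g = (κ g h)⁻¹ := by unfold κ; group
  rw [h1]
  exact inv_eq_of_mul_eq_one_left (hexp _ (hc g h))

theorem κ_central_left {z : P} (hz : z ∈ center P) (g h : P) : κ (g * z) h = κ g h := by
  have e := mem_center_iff.1 (inv_mem hz) (g⁻¹ * h * g)
  unfold κ
  calc h⁻¹ * (g * z)⁻¹ * h * (g * z) = h⁻¹ * (z⁻¹ * (g⁻¹ * h * g)) * z := by group
    _ = h⁻¹ * ((g⁻¹ * h * g) * z⁻¹) * z := by rw [← e]
    _ = h⁻¹ * g⁻¹ * h * g := by group

theorem κ_central_right {z : P} (hz : z ∈ center P) (g h : P) : κ g (h * z) = κ g h := by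
  have e := mem_center_iff.1 (inv_mem hz) (h⁻¹ * g⁻¹ * h)
  unfold κ
  calc (h * z)⁻¹ * g⁻¹ * (h * z) * g = (z⁻¹ * (h⁻¹ * g⁻¹ * h)) * z * g := by group
    _ = ((h⁻¹ * g⁻¹ * h) * z⁻¹) * z * g := by rw [← e]
    _ = h⁻¹ * g⁻¹ * h * g := by group

theorem sq_mul (hc : ∀ g h : P, κ g h ∈ center P) (g h : P) :
    (g * h) * (g * h) = (g * g) * (h * h) * κ g h := by
  obtain ⟨c, hcd⟩ : ∃ c, c = κ g h := ⟨_, rfl⟩
  have hcZ : c ∈ center P := hcd ▸ hc g h
  have e1 : h * g = g * h * c := by rw [hcd]; unfold κ; group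
  have e2 : h * c = c * h := mem_center_iff.1 hcZ h
  rw [← hcd]
  calc (g * h) * (g * h) = g * (h * g) * h := by group
    _ = g * (g * h * c) * h := by rw [e1]
    _ = g * g * h * (c * h) := by group
    _ = g * g * h * (h * c) := by rw [e2]
    _ = (g * g) * (h * h) * c := by group

/-- coordinates of a regular datum in a given finite field -/
theorem exists_coord {W : Type*} [Group W] [Finite W] (D : RegData W) {F : Type*} [Field F]
    [Fintype F] (hF : Nat.card F = Nat.card W) :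
    ∃ (e : W → F) (μ : F), Function.Bijective e ∧ (∀ a b, e (a * b) = e a + e b) ∧ e D.w₀ = 1 ∧
      (∀ w, e (D.ξ w) = μ * e w) ∧ (∀ x : F, x ≠ 0 → ∃ i : ℕ, x = μ ^ i) := by
  classical
  have : Fintype D.Fld := Fintype.ofFinite _
  have hc : Fintype.card D.Fld = Fintype.card F := by
    rw [← Nat.card_eq_fintype_card, ← Nat.card_eq_fintype_card, D.card_fld, hF]
  let eF : D.Fld ≃+* F := FiniteField.ringEquivOfCardEq hc
  refine ⟨fun w => eF (D.inF w), eF (D.inF (D.ξ D.w₀)), ?_, ?_, ?_, ?_, ?_⟩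
  · exact eF.bijective.comp ⟨D.inF_injective, fun x => ⟨D.outF x, rfl⟩⟩
  · intro a b
    show eF (D.inF (a * b)) = _
    rw [D.inF_mul, map_add]
  · show eF (D.inF D.w₀) = 1
    rw [← D.one_def, map_one]
  · intro w
    show eF (D.inF (D.ξ w)) = _
    rw [D.inF_ξ, map_mul]
  · intro x hx
    have hx' : eF.symm x ≠ 0 := by
      intro h
      apply hx
      have := congrArg eF h
      rwa [RingEquiv.apply_symm_apply, map_zero] at this
    obtain ⟨i, hi⟩ := D.exists_pow (eF.symm x) hx'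
    refine ⟨i, ?_⟩
    rw [← map_pow, ← hi, RingEquiv.apply_symm_apply]

/-- commutators are central -/
theorem κ_mem (D : SuzData P) (g h : P) : κ g h ∈ center P := by
  have h1 : κ g h = ((h⁻¹ * g⁻¹) * (h⁻¹ * g⁻¹)) * (g * (h * h) * g) := by unfold κ; group
  have h2 : g * (h * h) * g = (h * h) * (g * g) := by
    rw [mem_center_iff.1 (D.hsq h) g]; group
  rw [h1, h2]
  exact mul_mem (D.hsq _) (mul_mem (D.hsq _) (D.hsq _))

/-- the regular datum on the centre -/
def datZ (D : SuzData P) : RegData (center P) where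
  ξ := autZ D.ξ
  w₀ := ⟨D.g₀ * D.g₀, D.hsq D.g₀⟩
  hexp := fun w => Subtype.ext (D.hZexp w w.2)
  hw₀ := fun h => D.hg₀ (D.hinv _ (congrArg Subtype.val h))
  htrans := by
    intro w hw
    have hw1 : (w : P) ≠ 1 := fun h => hw (Subtype.ext h)
    obtain ⟨i, hi⟩ := D.hZtrans w w.2 hw1
    refine ⟨i, Subtype.ext ?_⟩
    rw [autZ_pow_apply]
    exact hi
  hfree := by
    intro i hi w
    have h1 : (D.ξ ^ i) (D.g₀ * D.g₀) = D.g₀ * D.g₀ := by
      have := congrArg Subtype.val hi
      rwa [autZ_pow_apply] at this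
    have hne : D.g₀ * D.g₀ ≠ 1 := fun h => D.hg₀ (D.hinv _ h)
    have h2 := D.hfree i _ hne h1
    rw [← map_pow, h2, map_one]
    rfl

/-- the regular datum on the central quotient -/
def datV (D : SuzData P) : RegData (P ⧸ center P) where
  ξ := autV D.ξ
  w₀ := QuotientGroup.mk D.g₀
  hexp := by
    intro w
    obtain ⟨g, rfl⟩ := QuotientGroup.mk_surjective w
    rw [← QuotientGroup.mk_mul]
    exact (QuotientGroup.eq_one_iff _).2 (D.hsq g)
  hw₀ := fun h => D.hg₀ ((QuotientGroup.eq_one_iff _).1 h)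
  htrans := by
    intro w hw
    obtain ⟨g, rfl⟩ := QuotientGroup.mk_surjective w
    have hg : g ∉ center P := fun h => hw ((QuotientGroup.eq_one_iff _).2 h)
    obtain ⟨i, hi⟩ := D.hVtrans g hg
    refine ⟨i, ?_⟩
    rw [autV_pow_mk]
    exact (QuotientGroup.eq.2 hi).symm
  hfree := by
    intro i hi w
    rw [autV_pow_mk] at hi
    have h1 : D.g₀⁻¹ * (D.ξ ^ i) D.g₀ ∈ center P := QuotientGroup.eq.1 hi.symm
    have h2 := D.hVfree i h1
    rw [← map_pow, h2, map_one]
    rfl

theorem card_quot [Finite P] (hcard : Nat.card P = Nat.card (center P) ^ 2) :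
    Nat.card (P ⧸ center P) = Nat.card (center P) := by
  have h1 := Subgroup.card_eq_card_quotient_mul_card_subgroup (center P)
  rw [hcard, pow_two] at h1
  have hpos : 0 < Nat.card (center P) := Nat.card_pos
  exact (Nat.eq_of_mul_eq_mul_right hpos h1).symm

/-- **coordinates**: a Suzuki datum yields a type-A setup over any field of the right order -/
theorem exists_setup [Finite P] (D : SuzData P) (hcard : Nat.card P = Nat.card (center P) ^ 2)
    {F : Type*} [Field F] [Fintype F] [CharP F 2] (hF : Nat.card F = Nat.card (center P)) :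
    ∃ (φ : F ≃+* F) (S : Setup P F), S.φ = (φ : F →+* F) ∧ φ ≠ RingEquiv.refl F ∧
      Odd (orderOf φ) := by
  classical
  have hc : ∀ g h : P, κ g h ∈ center P := κ_mem D
  have hFV : Nat.card F = Nat.card (P ⧸ center P) := by rw [card_quot hcard]; exact hF
  obtain ⟨eZ, μZ, heZb, heZa, heZ1, heZξ, heZp⟩ := exists_coord (datZ D) hF
  obtain ⟨eV, μV, heVb, heVa, heV1, heVξ, heVp⟩ := exists_coord (datV D) hFV
  have heZ0 : eZ 1 = 0 := by
    have := heZa 1 1
    rw [mul_one] at this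
    have h : eZ 1 + 0 = eZ 1 + eZ 1 := by rw [add_zero]; exact this
    exact (add_left_cancel h).symm
  have heV0 : eV 1 = 0 := by
    have := heVa 1 1
    rw [mul_one] at this
    have h : eV 1 + 0 = eV 1 + eV 1 := by rw [add_zero]; exact this
    exact (add_left_cancel h).symm
  -- the coordinate on the quotient
  obtain ⟨a, ha⟩ : ∃ a : P → F, a = fun g => eV (QuotientGroup.mk g) := ⟨_, rfl⟩
  have ha_mul : ∀ g h, a (g * h) = a g + a h := by
    intro g h
    rw [ha]
    show eV (QuotientGroup.mk (g * h)) = _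
    rw [QuotientGroup.mk_mul, heVa]
  have ha_Z : ∀ z ∈ center P, a z = 0 := by
    intro z hz
    rw [ha]
    show eV (QuotientGroup.mk z) = 0
    rw [(QuotientGroup.eq_one_iff z).2 hz, heV0]
  have ha_ker : ∀ g, a g = 0 → g ∈ center P := by
    intro g hg
    rw [ha] at hg
    have : (QuotientGroup.mk g : P ⧸ center P) = 1 := heVb.1 (hg.trans heV0.symm)
    exact (QuotientGroup.eq_one_iff g).1 this
  have ha_ξ : ∀ g, a (D.ξ g) = μV * a g := by
    intro g
    rw [ha]
    show eV (QuotientGroup.mk (D.ξ g)) = μV * eV (QuotientGroup.mk g)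
    rw [← heVξ]
    rfl
  have ha_g₀ : a D.g₀ = 1 := by rw [ha]; exact heV1
  have ha_surj : Function.Surjective a := by
    intro x
    obtain ⟨w, hw⟩ := heVb.2 x
    obtain ⟨g, rfl⟩ := QuotientGroup.mk_surjective w
    exact ⟨g, by rw [ha]; exact hw⟩
  have ha_eq : ∀ g g', a g = a g' → g⁻¹ * g' ∈ center P := by
    intro g g' h
    rw [ha] at h
    exact QuotientGroup.eq.1 (heVb.1 h)
  -- the coordinate on the centre
  obtain ⟨ι, hι⟩ : ∃ ι : P → F, ι = fun z => if hz : z ∈ center P then eZ ⟨z, hz⟩ else 0 :=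
    ⟨_, rfl⟩
  have hι_Z : ∀ z (hz : z ∈ center P), ι z = eZ ⟨z, hz⟩ := by
    intro z hz
    rw [hι]
    exact dif_pos hz
  have hι_mul : ∀ z ∈ center P, ∀ z' ∈ center P, ι (z * z') = ι z + ι z' := by
    intro z hz z' hz'
    rw [hι_Z _ (mul_mem hz hz'), hι_Z _ hz, hι_Z _ hz', ← heZa]
    rfl
  have hι_one : ι 1 = 0 := by rw [hι_Z 1 (one_mem _)]; exact heZ0
  have hι_inj : ∀ z ∈ center P, ι z = 0 → z = 1 := by
    intro z hz h
    rw [hι_Z z hz] at h
    have := heZb.1 (h.trans heZ0.symm)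
    exact congrArg Subtype.val this
  have hι_ξ : ∀ z ∈ center P, ι (D.ξ z) = μZ * ι z := by
    intro z hz
    rw [hι_Z _ (aut_center D.ξ hz), hι_Z _ hz, ← heZξ]
    rfl
  have hι_g₀ : ι (D.g₀ * D.g₀) = 1 := by rw [hι_Z _ (D.hsq D.g₀)]; exact heZ1
  -- a section
  obtain ⟨r, hr⟩ : ∃ r : F → P, ∀ x, a (r x) = x :=
    ⟨fun x => (ha_surj x).choose, fun x => (ha_surj x).choose_spec⟩
  -- the squaring map
  obtain ⟨N, hNdef⟩ : ∃ N : F → F, N = fun x => ι (r x * r x) := ⟨_, rfl⟩
  have hsq_eq : ∀ g g', a g = a g' → g' * g' = g * g := by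
    intro g g' h
    obtain ⟨z, hz⟩ : ∃ z, z = g⁻¹ * g' := ⟨_, rfl⟩
    have hzZ : z ∈ center P := hz ▸ ha_eq g g' h
    have hg' : g' = g * z := by rw [hz]; group
    rw [hg']
    have e1 : g * z = z * g := mem_center_iff.1 hzZ g
    calc g * z * (g * z) = g * (z * g) * z := by group
      _ = g * (g * z) * z := by rw [e1]
      _ = g * g * (z * z) := by group
      _ = g * g := by rw [D.hZexp z hzZ, mul_one]
  have hN : ∀ g, N (a g) = ι (g * g) := by
    intro g
    rw [hNdef]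
    show ι (r (a g) * r (a g)) = _
    rw [hsq_eq g (r (a g)) (hr (a g)).symm]
  have hN_μ : ∀ x, N (μV * x) = μZ * N x := by
    intro x
    have h1 : μV * x = a (D.ξ (r x)) := by rw [ha_ξ, hr]
    rw [h1, hN, ← map_mul, hι_ξ _ (D.hsq _), ← hN, hr]
  have hN1 : N 1 = 1 := by
    have h := hN D.g₀
    rwa [ha_g₀, hι_g₀] at h
  have hN0 : N 0 = 0 := by
    have h := hN 1
    rwa [ha_Z 1 (one_mem _), mul_one, hι_one] at h
  have hN_pow_mul : ∀ (i : ℕ) x, N (μV ^ i * x) = μZ ^ i * N x := by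
    intro i
    induction i with
    | zero => intro x; simp
    | succ i ih =>
      intro x
      rw [pow_succ', mul_assoc, hN_μ, ih, ← mul_assoc, ← pow_succ']
  have hN_pow : ∀ i : ℕ, N (μV ^ i) = μZ ^ i := by
    intro i
    have := hN_pow_mul i 1
    rwa [mul_one, hN1, mul_one] at this
  have hN_mul : ∀ x y, N (x * y) = N x * N y := by
    intro x y
    by_cases hx : x = 0
    · rw [hx, zero_mul, hN0, zero_mul]
    obtain ⟨i, rfl⟩ := heVp x hx
    rw [hN_pow_mul, hN_pow]
  have hN_surj : Function.Surjective N := by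
    intro y
    by_cases hy : y = 0
    · exact ⟨0, by rw [hN0, hy]⟩
    obtain ⟨i, rfl⟩ := heZp y hy
    exact ⟨μV ^ i, hN_pow i⟩
  have hN_inj : Function.Injective N := Finite.injective_iff_surjective.2 hN_surj
  -- the commutator form
  have hκ_eq : ∀ g g' h h', a g = a g' → a h = a h' → κ g' h' = κ g h := by
    intro g g' h h' e1 e2
    have hz1 := ha_eq g g' e1
    have hz2 := ha_eq h h' e2
    have hg' : g' = g * (g⁻¹ * g') := by group
    have hh' : h' = h * (h⁻¹ * h') := by group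
    rw [hg', hh', κ_central_left hz1, κ_central_right hz2]
  obtain ⟨B₀, hB₀⟩ : ∃ B₀ : F → F → F, B₀ = fun x y => ι (κ (r x) (r y)) := ⟨_, rfl⟩
  have hB₀a : ∀ g h, B₀ (a g) (a h) = ι (κ g h) := by
    intro g h
    rw [hB₀]
    show ι (κ (r (a g)) (r (a h))) = _
    rw [hκ_eq g (r (a g)) h (r (a h)) (hr _).symm (hr _).symm]
  have hB₀_symm : ∀ x y, B₀ x y = B₀ y x := by
    intro x y
    obtain ⟨g, rfl⟩ := ha_surj x
    obtain ⟨h, rfl⟩ := ha_surj y
    rw [hB₀a, hB₀a, κ_symm hc D.hZexp]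
  have hB₀_addl : ∀ x x' y, B₀ (x + x') y = B₀ x y + B₀ x' y := by
    intro x x' y
    obtain ⟨g, rfl⟩ := ha_surj x
    obtain ⟨g', rfl⟩ := ha_surj x'
    obtain ⟨h, rfl⟩ := ha_surj y
    rw [← ha_mul, hB₀a, hB₀a, hB₀a, κ_mul_left hc, hι_mul _ (hc _ _) _ (hc _ _)]
  have hB₀_addr : ∀ x y y', B₀ x (y + y') = B₀ x y + B₀ x y' := by
    intro x y y'
    rw [hB₀_symm, hB₀_addl, hB₀_symm y, hB₀_symm y']
  let B : F →+ F →+ F :=
    AddMonoidHom.mk' (fun x => AddMonoidHom.mk' (fun y => B₀ x y) (hB₀_addr x))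
      (fun x x' => by ext y; exact hB₀_addl x x' y)
  have hBapp : ∀ x y, B x y = B₀ x y := fun _ _ => rfl
  have hB : ∀ x y, N (x + y) = N x + N y + B x y := by
    intro x y
    obtain ⟨g, rfl⟩ := ha_surj x
    obtain ⟨h, rfl⟩ := ha_surj y
    rw [hBapp, hB₀a, ← ha_mul, hN, hN, hN, sq_mul hc,
      hι_mul _ (mul_mem (D.hsq g) (D.hsq h)) _ (hc g h), hι_mul _ (D.hsq g) _ (D.hsq h)]
  have hB0 : ∃ x y, B x y ≠ 0 := by
    obtain ⟨g, h, hgh⟩ := D.hnc
    refine ⟨a g, a h, ?_⟩
    rw [hBapp, hB₀a]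
    intro h0
    have := hι_inj _ (hc g h) h0
    rw [κ_eq_one_iff] at this
    exact hgh this.symm
  obtain ⟨σ, φ, hσ, hφ1, hφodd⟩ := SuzFieldCore.core N hN_mul hN_inj B hB hB0
  refine ⟨φ,
    { Z := center P
      φ := (φ : F →+* F)
      α := fun g => σ (a g)
      ι := ι
      two := CharTwo.two_eq_zero
      α_mul := ?_
      α_Z := ?_
      α_ker := ?_
      ι_mul := hι_mul
      ι_inj := hι_inj
      central := ?_
      sq_mem := D.hsq
      comm_mem := ?_
      sq := ?_ }, rfl, hφ1, hφodd⟩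
  · intro g h
    show σ (a (g * h)) = σ (a g) + σ (a h)
    rw [ha_mul, map_add]
  · intro z hz
    show σ (a z) = 0
    rw [ha_Z z hz, map_zero]
  · intro g hg
    have hg' : σ (a g) = 0 := hg
    apply ha_ker
    have := congrArg σ.symm hg'
    rwa [RingEquiv.symm_apply_apply, map_zero] at this
  · intro z hz g
    exact (mem_center_iff.1 hz g).symm
  · intro g u
    exact hc g u
  · intro g
    show ι (g * g) = (φ : F →+* F) (σ (a g)) * σ (a g)
    rw [← hN, hσ, mul_comm]
    rfl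

end Cfsg.Agent.Lib.Helper68.SuzCoord
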