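import Mathlib
import Cfsg.Agent.Lib.Helper68.HigRed
import Cfsg.Agent.Lib.Helper68.SuzCoord

set_option autoImplicit false

/-! Higman's theorem on Suzuki 2-groups: coordinates when the second centre is abelian. -/

namespace Cfsg.Agent.Lib.Helper68.HigCoord

open Subgroup
open scoped commutatorElement
open Cfsg.Agent.Lib.Helper68.HigBase
open Cfsg.Agent.Lib.Helper68.HigRed
open Cfsg.Agent.Lib.Helper68.SuzStruct
open Cfsg.Agent.Lib.Helper68.RegField
open Cfsg.Agent.Lib.Helper68.SuzCoord (autZ autZ_apply autZ_pow_apply)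
open Cfsg.Agent.Lib.Helper31.SuzukiTwo

variable {P : Type*} [Group P]

theorem orderOf_pos_ξ [Finite P] (B : Base P) : 0 < orderOf B.ξ := by
  have hfinA : Finite (MulAut P) :=
    Finite.of_injective (fun e : MulAut P => (e : P → P)) DFunLike.coe_injective
  exact orderOf_pos_iff.2 (isOfFinOrder_of_finite B.ξ)

/-- transitivity from any base point -/
theorem trans' [Finite P] (B : Base P) {z₁ z : P} (hz₁ : z₁ ∈ center P) (hz₁1 : z₁ ≠ 1)
    (hz : z ∈ center P) (hz1 : z ≠ 1) : ∃ i : ℕ, (B.ξ ^ i) z₁ = z := by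
  obtain ⟨a, ha⟩ := B.htrans z₁ hz₁ hz₁1
  obtain ⟨b, hb⟩ := B.htrans z hz hz1
  have hm := orderOf_pos_ξ B
  refine ⟨b + a * (orderOf B.ξ - 1), ?_⟩
  rw [← ha]
  have h1 : (B.ξ ^ (b + a * (orderOf B.ξ - 1))) ((B.ξ ^ a) B.z₀) =
      (B.ξ ^ (b + a * (orderOf B.ξ - 1)) * B.ξ ^ a) B.z₀ := rfl
  rw [h1, ← pow_add]
  have h2 : b + a * (orderOf B.ξ - 1) + a = b + orderOf B.ξ * a := by
    have : orderOf B.ξ - 1 + 1 = orderOf B.ξ := Nat.sub_add_cancel hm
    calc b + a * (orderOf B.ξ - 1) + a = b + a * (orderOf B.ξ - 1 + 1) := by ring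
      _ = b + orderOf B.ξ * a := by rw [this]; ring
  rw [h2, pow_add, pow_mul, pow_orderOf_eq_one, one_pow, mul_one]
  exact hb

/-- every central element is the square of an element of the second centre -/
theorem exists_sqrt [Finite P] (B : Base P) (z : P) (hz : z ∈ center P) :
    ∃ t ∈ Z2 P, t * t = z := by
  by_cases hz1 : z = 1
  · exact ⟨1, one_mem _, by rw [hz1, mul_one]⟩
  obtain ⟨x, hxZ, hxx, hxc⟩ := exists_second_center_elt B.h2
    (by obtain ⟨g, h, hgh⟩ := B.hnc; exact ⟨g, h, hgh⟩)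
  have hx2 : x ∈ Z2 P := hxc
  have hxx1 : x * x ≠ 1 := fun h => hxZ (B.hinv x h)
  obtain ⟨i, hi⟩ := trans' B hxx hxx1 hz hz1
  refine ⟨(B.ξ ^ i) x, Z2_aut _ hx2, ?_⟩
  rw [← map_mul, hi]

/-- the regular datum on the centre -/
def datZ [Finite P] (B : Base P) : RegData (center P) where
  ξ := autZ B.ξ
  w₀ := ⟨B.z₀, B.hz₀⟩
  hexp := fun w => Subtype.ext (B.hZexp w w.2)
  hw₀ := fun h => B.hz₀1 (congrArg Subtype.val h)
  htrans := by
    intro w hw
    have hw1 : (w : P) ≠ 1 := fun h => hw (Subtype.ext h)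
    obtain ⟨i, hi⟩ := B.htrans w w.2 hw1
    refine ⟨i, Subtype.ext ?_⟩
    rw [autZ_pow_apply]
    exact hi
  hfree := by
    intro i hi w
    have h1 : (B.ξ ^ i) B.z₀ = B.z₀ := by
      have := congrArg Subtype.val hi
      rwa [autZ_pow_apply] at this
    have h2 := B.hfree i _ B.hz₀1 h1
    rw [← map_pow, h2, map_one]
    rfl

section coord
variable [Finite P] (B : Base P)

/-- the coordinate on the centre -/
noncomputable def ez (z : P) : (datZ B).Fld := by
  classical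
  exact if hz : z ∈ center P then (datZ B).inF ⟨z, hz⟩ else 0

/-- the multiplier of `ξ` -/
def lam : (datZ B).Fld := (datZ B).inF ((datZ B).ξ (datZ B).w₀)

theorem ez_of_mem {z : P} (hz : z ∈ center P) : ez B z = (datZ B).inF ⟨z, hz⟩ := by
  unfold ez
  rw [dif_pos hz]

theorem ez_mul {z z' : P} (hz : z ∈ center P) (hz' : z' ∈ center P) :
    ez B (z * z') = ez B z + ez B z' := by
  rw [ez_of_mem B (mul_mem hz hz'), ez_of_mem B hz, ez_of_mem B hz', ← (datZ B).inF_mul]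
  rfl

theorem ez_one : ez B 1 = 0 := by
  rw [ez_of_mem B (one_mem _)]
  rfl

theorem ez_inj {z : P} (hz : z ∈ center P) (h : ez B z = 0) : z = 1 := by
  rw [ez_of_mem B hz] at h
  have := ((datZ B).inF_eq_zero_iff _).1 h
  exact congrArg Subtype.val this

theorem ez_surj (u : (datZ B).Fld) : ∃ z ∈ center P, ez B z = u :=
  ⟨((datZ B).outF u : center P), ((datZ B).outF u).2, by rw [ez_of_mem B ((datZ B).outF u).2]; rfl⟩

theorem ez_ξ {z : P} (hz : z ∈ center P) : ez B (B.ξ z) = lam B * ez B z := by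
  rw [ez_of_mem B (aut_center B.ξ hz), ez_of_mem B hz]
  exact (datZ B).inF_ξ ⟨z, hz⟩

theorem ez_ξpow (i : ℕ) {z : P} (hz : z ∈ center P) :
    ez B ((B.ξ ^ i) z) = lam B ^ i * ez B z := by
  induction i with
  | zero => simp
  | succ i ih =>
    have h1 : (B.ξ ^ (i + 1)) z = B.ξ ((B.ξ ^ i) z) := by rw [pow_succ']; rfl
    rw [h1, ez_ξ B (aut_center _ hz), ih, pow_succ]
    ring

theorem ez_z₀ : ez B B.z₀ = 1 := by
  rw [ez_of_mem B B.hz₀]
  rfl

theorem lam_gen (x : (datZ B).Fld) (hx : x ≠ 0) : ∃ i : ℕ, x = lam B ^ i := (datZ B).exists_pow x hx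

theorem lam_pow_one {i : ℕ} (h : B.ξ ^ i = 1) : lam B ^ i = 1 := by
  have h1 := ez_ξpow B i B.hz₀
  rw [h, ez_z₀, mul_one] at h1
  rw [← h1]
  exact ez_z₀ B

theorem two_eq_zero : (2 : (datZ B).Fld) = 0 := by
  have h1 : (1 : (datZ B).Fld) + 1 = 0 := by
    rw [← ez_z₀ B, ← ez_mul B B.hz₀ B.hz₀, B.hZexp _ B.hz₀, ez_one]
  rw [← h1]
  norm_num

theorem charP : CharP (datZ B).Fld 2 :=
  CharTwo.of_one_ne_zero_of_two_eq_zero one_ne_zero (two_eq_zero B)

end coord

end Cfsg.Agent.Lib.Helper68.HigCoord
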