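import Mathlib
import Cfsg.Agent.Lib.Helper68.HigCoord

set_option autoImplicit false

/-! Higman's theorem on Suzuki 2-groups: the action on an abelian second centre in coordinates. -/

namespace Cfsg.Agent.Lib.Helper68.HigTheta

open Subgroup
open scoped commutatorElement
open Cfsg.Agent.Lib.Helper68.HigBase
open Cfsg.Agent.Lib.Helper68.HigRed
open Cfsg.Agent.Lib.Helper68.HigCoord
open Cfsg.Agent.Lib.Helper68.SuzStruct
open Cfsg.Agent.Lib.Helper68.RegField

variable {P : Type*} [Group P]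

theorem Z2_le_CZ (hTab : ∀ x ∈ Z2 P, ∀ y ∈ Z2 P, x * y = y * x) : Z2 P ≤ CZ P :=
  fun x hx => mem_CZ.2 (fun y hy => hTab y hy x hx)

theorem comm_eq_one_of_center {z : P} (hz : z ∈ center P) (g : P) : ⁅z, g⁆ = 1 := by
  rw [commutatorElement_eq_one_iff_commute]
  exact (mem_center_iff.1 hz g).symm

variable [Finite P]

/-- elements of the second centre with the same square have the same commutators -/
theorem comm_eq_of_sq_eq (B : Base P) (hTab : ∀ x ∈ Z2 P, ∀ y ∈ Z2 P, x * y = y * x)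
    {t t' : P} (ht : t ∈ Z2 P) (ht' : t' ∈ Z2 P) (h : t * t = t' * t') (g : P) :
    ⁅t, g⁆ = ⁅t', g⁆ := by
  have hcomm : t * t'⁻¹ = t'⁻¹ * t := hTab _ ht _ (inv_mem ht')
  have hz2 : (t * t'⁻¹) * (t * t'⁻¹) = 1 := by
    calc (t * t'⁻¹) * (t * t'⁻¹) = t * (t'⁻¹ * t) * t'⁻¹ := by group
      _ = t * (t * t'⁻¹) * t'⁻¹ := by rw [← hcomm]
      _ = (t * t) * (t' * t')⁻¹ := by group
      _ = 1 := by rw [h, mul_inv_cancel]
  have hz : t * t'⁻¹ ∈ center P := B.hinv _ hz2
  have ht_eq : t = (t * t'⁻¹) * t' := by group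
  conv_lhs => rw [ht_eq]
  rw [comm_mul_left (center_le_Z2 hz) ht' g, comm_eq_one_of_center hz, one_mul]

/-- a square root in the second centre -/
noncomputable def rt (B : Base P) (u : (datZ B).Fld) : P :=
  Classical.choose (exists_sqrt B (((datZ B).outF u : center P) : P) ((datZ B).outF u).2)

theorem rt_mem (B : Base P) (u : (datZ B).Fld) : rt B u ∈ Z2 P :=
  (Classical.choose_spec
    (exists_sqrt B (((datZ B).outF u : center P) : P) ((datZ B).outF u).2)).1

theorem rt_sq (B : Base P) (u : (datZ B).Fld) :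
    rt B u * rt B u = (((datZ B).outF u : center P) : P) :=
  (Classical.choose_spec
    (exists_sqrt B (((datZ B).outF u : center P) : P) ((datZ B).outF u).2)).2

theorem ez_rt_sq (B : Base P) (u : (datZ B).Fld) : ez B (rt B u * rt B u) = u := by
  rw [rt_sq, ez_of_mem B ((datZ B).outF u).2]
  rfl

/-- the action of `g` on the second centre, in coordinates -/
noncomputable def thetaFun (B : Base P) (g : P) (u : (datZ B).Fld) : (datZ B).Fld :=
  ez B ⁅rt B u, g⁆

theorem theta_spec (B : Base P) (hTab : ∀ x ∈ Z2 P, ∀ y ∈ Z2 P, x * y = y * x)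
    {t : P} (ht : t ∈ Z2 P) (g : P) : ez B ⁅t, g⁆ = thetaFun B g (ez B (t * t)) := by
  unfold thetaFun
  have h1 : rt B (ez B (t * t)) * rt B (ez B (t * t)) = t * t := by
    rw [rt_sq, ez_of_mem B (sq_mem_center B ht)]
    rfl
  rw [comm_eq_of_sq_eq B hTab (rt_mem B _) ht h1 g]

theorem thetaFun_add (B : Base P) (hTab : ∀ x ∈ Z2 P, ∀ y ∈ Z2 P, x * y = y * x) (g : P)
    (u u' : (datZ B).Fld) : thetaFun B g (u + u') = thetaFun B g u + thetaFun B g u' := by
  have ht : rt B u * rt B u' ∈ Z2 P := mul_mem (rt_mem B u) (rt_mem B u')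
  have hsq : (rt B u * rt B u') * (rt B u * rt B u') =
      (rt B u * rt B u) * (rt B u' * rt B u') := by
    have hc := hTab _ (rt_mem B u') _ (rt_mem B u)
    calc (rt B u * rt B u') * (rt B u * rt B u')
        = rt B u * (rt B u' * rt B u) * rt B u' := by group
      _ = rt B u * (rt B u * rt B u') * rt B u' := by rw [hc]
      _ = (rt B u * rt B u) * (rt B u' * rt B u') := by group
  have h1 : ez B ((rt B u * rt B u') * (rt B u * rt B u')) = u + u' := by
    rw [hsq, ez_mul B (sq_mem_center B (rt_mem B u)) (sq_mem_center B (rt_mem B u')),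
      ez_rt_sq, ez_rt_sq]
  have h2 := theta_spec B hTab ht g
  rw [h1] at h2
  rw [← h2, comm_mul_left (rt_mem B u) (rt_mem B u') g,
    ez_mul B (mem_Z2.1 (rt_mem B u) g) (mem_Z2.1 (rt_mem B u') g)]
  rfl

/-- the action of `g` on the second centre as an additive endomorphism of the field -/
noncomputable def theta (B : Base P) (hTab : ∀ x ∈ Z2 P, ∀ y ∈ Z2 P, x * y = y * x) (g : P) :
    (datZ B).Fld →+ (datZ B).Fld :=
  AddMonoidHom.mk' (thetaFun B g) (thetaFun_add B hTab g)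

section
variable (B : Base P) (hTab : ∀ x ∈ Z2 P, ∀ y ∈ Z2 P, x * y = y * x)

theorem theta_apply (g : P) (u : (datZ B).Fld) : theta B hTab g u = thetaFun B g u := rfl

theorem theta_spec' {t : P} (ht : t ∈ Z2 P) (g : P) :
    ez B ⁅t, g⁆ = theta B hTab g (ez B (t * t)) := theta_spec B hTab ht g

theorem theta_mul (g h : P) : theta B hTab (g * h) = theta B hTab g + theta B hTab h := by
  ext u
  show thetaFun B (g * h) u = thetaFun B g u + thetaFun B h u
  unfold thetaFun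
  rw [comm_mul_right (rt_mem B u) g h,
    ez_mul B (mem_Z2.1 (rt_mem B u) g) (mem_Z2.1 (rt_mem B u) h)]

theorem theta_eq_zero_iff (g : P) : theta B hTab g = 0 ↔ g ∈ CZ P := by
  constructor
  · intro h
    rw [mem_CZ]
    intro t ht
    have h1 := theta_spec' B hTab ht g
    rw [h, AddMonoidHom.zero_apply] at h1
    have h2 := ez_inj B (mem_Z2.1 ht g) h1
    exact (commutatorElement_eq_one_iff_commute.1 h2).eq
  · intro h
    ext u
    show thetaFun B g u = 0
    unfold thetaFun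
    have h1 : ⁅rt B u, g⁆ = 1 := by
      rw [commutatorElement_eq_one_iff_commute]
      exact mem_CZ.1 h _ (rt_mem B u)
    rw [h1, ez_one]

theorem theta_one : theta B hTab 1 = 0 := (theta_eq_zero_iff B hTab 1).2 (one_mem _)

theorem theta_inv (g : P) : theta B hTab g⁻¹ = - theta B hTab g := by
  have h1 := theta_mul B hTab g g⁻¹
  rw [mul_inv_cancel, theta_one] at h1
  exact eq_neg_of_add_eq_zero_right h1.symm

theorem theta_ξ (g : P) (u : (datZ B).Fld) :
    theta B hTab (B.ξ g) (lam B * u) = lam B * theta B hTab g u := by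
  have ht := rt_mem B u
  have hξt : B.ξ (rt B u) ∈ Z2 P := Z2_aut _ ht
  have h1 : ez B (B.ξ (rt B u) * B.ξ (rt B u)) = lam B * u := by
    rw [← map_mul, ez_ξ B (sq_mem_center B ht), ez_rt_sq]
  have h2 := theta_spec' B hTab hξt (B.ξ g)
  rw [h1, ← map_commutatorElement, ez_ξ B (mem_Z2.1 ht g)] at h2
  rw [← h2]
  rfl

theorem theta_ξpow (j : ℕ) (g : P) (u : (datZ B).Fld) :
    theta B hTab ((B.ξ ^ j) g) (lam B ^ j * u) = lam B ^ j * theta B hTab g u := by
  induction j generalizing u with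
  | zero => simp
  | succ j ih =>
    have h1 : (B.ξ ^ (j + 1)) g = B.ξ ((B.ξ ^ j) g) := by rw [pow_succ']; rfl
    have h2 : lam B ^ (j + 1) * u = lam B * (lam B ^ j * u) := by rw [pow_succ]; ring
    rw [h1, h2, theta_ξ, ih, pow_succ]
    ring

theorem lam_ne_zero : lam B ≠ 0 := by
  intro h
  have h1 := ((datZ B).inF_eq_zero_iff _).1 h
  have h2 : (datZ B).w₀ = 1 := by
    have := congrArg ((datZ B).ξ).symm h1
    rwa [MulEquiv.symm_apply_apply, map_one] at this
  exact (datZ B).hw₀ h2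

/-- the image of `theta` -/
noncomputable def DD : AddSubgroup ((datZ B).Fld →+ (datZ B).Fld) where
  carrier := Set.range (theta B hTab)
  zero_mem' := ⟨1, theta_one B hTab⟩
  add_mem' := by
    rintro _ _ ⟨g, rfl⟩ ⟨h, rfl⟩
    exact ⟨g * h, theta_mul B hTab g h⟩
  neg_mem' := by
    rintro _ ⟨g, rfl⟩
    exact ⟨g⁻¹, theta_inv B hTab g⟩

theorem mem_DD {θ : (datZ B).Fld →+ (datZ B).Fld} : θ ∈ DD B hTab ↔ ∃ g, theta B hTab g = θ :=
  Iff.rfl

theorem DD_conj : ∀ θ ∈ DD B hTab, ∃ θ' ∈ DD B hTab, ∀ x, θ' (lam B * x) = lam B * θ x := by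
  rintro _ ⟨g, rfl⟩
  exact ⟨theta B hTab (B.ξ g), ⟨B.ξ g, rfl⟩, fun x => theta_ξ B hTab g x⟩

theorem DD_free : ∀ θ ∈ DD B hTab, θ ≠ 0 → ∀ j : ℕ,
    (∀ x, θ (lam B ^ j * x) = lam B ^ j * θ x) → lam B ^ j = 1 := by
  rintro _ ⟨g, rfl⟩ hne j hj
  by_contra hlam
  have ha1 : B.ξ ^ j ≠ 1 := fun h => hlam (lam_pow_one B h)
  have hl0 : lam B ^ j ≠ 0 := pow_ne_zero _ (lam_ne_zero B)
  -- `theta (a g) = theta g`
  have h1 : theta B hTab ((B.ξ ^ j) g) = theta B hTab g := by
    ext x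
    have hx : x = lam B ^ j * ((lam B ^ j)⁻¹ * x) := by
      rw [← mul_assoc, mul_inv_cancel₀ hl0, one_mul]
    rw [hx, theta_ξpow, hj]
  have h2 : g⁻¹ * (B.ξ ^ j) g ∈ CZ P := by
    rw [← theta_eq_zero_iff B hTab, theta_mul, theta_inv, h1, neg_add_cancel]
  have hab := CZ_comm B
  -- the map `c ↦ c * (a c)⁻¹` on `CZ P`
  let φ : CZ P → CZ P := fun c =>
    ⟨(c : P) * ((B.ξ ^ j) (c : P))⁻¹, mul_mem c.2 (inv_mem (CZ_aut _ c.2))⟩
  have hφ : Function.Injective φ := by
    intro c c' hcc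
    have h3 : (c : P) * ((B.ξ ^ j) (c : P))⁻¹ = (c' : P) * ((B.ξ ^ j) (c' : P))⁻¹ :=
      congrArg Subtype.val hcc
    have hac : (B.ξ ^ j) (c : P) ∈ CZ P := CZ_aut _ c.2
    have hac' : (B.ξ ^ j) (c' : P) ∈ CZ P := CZ_aut _ c'.2
    -- `d = c'⁻¹ c` is fixed
    have hfix : (B.ξ ^ j) ((c' : P)⁻¹ * (c : P)) = (c' : P)⁻¹ * (c : P) := by
      rw [map_mul, map_inv]
      have e1 : (c : P) = (c' : P) * ((B.ξ ^ j) (c' : P))⁻¹ * (B.ξ ^ j) (c : P) := by
        rw [← h3]; group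
      calc ((B.ξ ^ j) (c' : P))⁻¹ * (B.ξ ^ j) (c : P)
          = (c' : P)⁻¹ * ((c' : P) * ((B.ξ ^ j) (c' : P))⁻¹ * (B.ξ ^ j) (c : P)) := by
            group
        _ = (c' : P)⁻¹ * (c : P) := by rw [← e1]
    have hd : (c' : P)⁻¹ * (c : P) = 1 := by
      by_contra hd1
      exact ha1 (B.hfree j _ hd1 hfix)
    apply Subtype.ext
    have := eq_inv_of_mul_eq_one_right hd
    rw [inv_inv] at this
    exact this
  have hφs : Function.Surjective φ := Finite.injective_iff_surjective.1 hφ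
  obtain ⟨c, hc⟩ := hφs ⟨g⁻¹ * (B.ξ ^ j) g, h2⟩
  have hc' : (c : P) * ((B.ξ ^ j) (c : P))⁻¹ = g⁻¹ * (B.ξ ^ j) g := congrArg Subtype.val hc
  have hfix : (B.ξ ^ j) (g * (c : P)) = g * (c : P) := by
    rw [map_mul]
    have e1 : (B.ξ ^ j) g = g * ((c : P) * ((B.ξ ^ j) (c : P))⁻¹) := by rw [hc']; group
    rw [e1]
    group
  have hgc : g * (c : P) = 1 := by
    by_contra h1'
    exact ha1 (B.hfree j _ h1' hfix)
  apply hne
  rw [theta_eq_zero_iff]
  have : g = (c : P)⁻¹ := eq_inv_of_mul_eq_one_left hgc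
  rw [this]
  exact inv_mem c.2

end

end Cfsg.Agent.Lib.Helper68.HigTheta
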