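import Mathlib
import Cfsg.Agent.Lib.Helper68.HigTheta
import Cfsg.Agent.Lib.Helper42.HigA

set_option autoImplicit false
set_option linter.unusedSectionVars false
set_option linter.unusedVariables false
set_option linter.style.haveILetI false

/-! Higman's theorem on Suzuki 2-groups: the second centre is not abelian. -/

namespace Cfsg.Agent.Lib.Helper68.HigCaseA

open Subgroup
open scoped commutatorElement
open Cfsg.Agent.Lib.Helper68.HigBase
open Cfsg.Agent.Lib.Helper68.HigRed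
open Cfsg.Agent.Lib.Helper68.HigCoord
open Cfsg.Agent.Lib.Helper68.HigTheta
open Cfsg.Agent.Lib.Helper68.SuzStruct
open Cfsg.Agent.Lib.Helper68.RegField

variable {P : Type*} [Group P] [Finite P]

/-- elements of `C_P(Z_2)` of order dividing four lie in `Z_2` -/
theorem mem_Z2_of_pow_four (B : Base P) (hTab : ∀ x ∈ Z2 P, ∀ y ∈ Z2 P, x * y = y * x)
    {c : P} (hc : c ∈ CZ P) (h : (c * c) * (c * c) = 1) : c ∈ Z2 P := by
  have hcc : c * c ∈ center P := B.hinv _ h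
  obtain ⟨t, ht, htt⟩ := exists_sqrt B (c * c) hcc
  have htC : t ∈ CZ P := Z2_le_CZ hTab ht
  have hcomm : c * t⁻¹ = t⁻¹ * c := CZ_comm B _ hc _ (inv_mem htC)
  have hz2 : (c * t⁻¹) * (c * t⁻¹) = 1 := by
    calc (c * t⁻¹) * (c * t⁻¹) = c * (t⁻¹ * c) * t⁻¹ := by group
      _ = c * (c * t⁻¹) * t⁻¹ := by rw [← hcomm]
      _ = (c * c) * (t * t)⁻¹ := by group
      _ = 1 := by rw [htt, mul_inv_cancel]
  have hz : c * t⁻¹ ∈ Z2 P := center_le_Z2 (B.hinv _ hz2)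
  have : c = (c * t⁻¹) * t := by group
  rw [this]
  exact mul_mem hz ht

theorem sq_mul_Z2 (hTab : ∀ x ∈ Z2 P, ∀ y ∈ Z2 P, x * y = y * x)
    {t t' : P} (ht : t ∈ Z2 P) (ht' : t' ∈ Z2 P) :
    (t * t') * (t * t') = (t * t) * (t' * t') := by
  have hc := hTab _ ht' _ ht
  calc (t * t') * (t * t') = t * (t' * t) * t' := by group
    _ = t * (t * t') * t' := by rw [hc]
    _ = (t * t) * (t' * t') := by group

/-- `a ↦ ⁅a, g⁆` is multiplicative on `C_P(Z_2)` -/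
theorem comm_mul_CZ (B : Base P) {a b : P} (ha : a ∈ CZ P) (hb : b ∈ CZ P) (g : P) :
    ⁅a * b, g⁆ = ⁅a, g⁆ * ⁅b, g⁆ := by
  have key : ⁅a * b, g⁆ = a * ⁅b, g⁆ * a⁻¹ * ⁅a, g⁆ := by
    simp only [commutatorElement_def]; group
  have h1 : a * ⁅b, g⁆ = ⁅b, g⁆ * a := CZ_comm B _ ha _ (comm_mem_CZ B b g)
  have h2 : ⁅b, g⁆ * ⁅a, g⁆ = ⁅a, g⁆ * ⁅b, g⁆ :=
    CZ_comm B _ (comm_mem_CZ B b g) _ (comm_mem_CZ B a g)
  rw [key, h1, mul_inv_cancel_right, h2]

theorem comm_inv_CZ (B : Base P) {a : P} (ha : a ∈ CZ P) (g : P) : ⁅a⁻¹, g⁆ = (⁅a, g⁆)⁻¹ := by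
  have h1 := comm_mul_CZ B (inv_mem ha) ha g
  rw [inv_mul_cancel, commutatorElement_one_left] at h1
  exact eq_inv_of_mul_eq_one_left h1.symm

/-- conjugation formula -/
theorem conj_eq (a g : P) : g * a * g⁻¹ = (⁅a, g⁆)⁻¹ * a := by
  rw [commutatorElement_def]; group

/-- if `g * g` is central then `⁅⁅a, g⁆, g⁆ = ⁅a, g⁆ * ⁅a, g⁆` -/
theorem comm_comm_of_sq_central {g : P} (hg : g * g ∈ center P) (a : P) :
    ⁅⁅a, g⁆, g⁆ = ⁅a, g⁆ * ⁅a, g⁆ := by
  have h1 : (g * g) * a * (g * g)⁻¹ = a := by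
    rw [← mem_center_iff.1 hg a, mul_inv_cancel_right]
  have h2 : (g * g) * a * (g * g)⁻¹ = (⁅a, g⁆)⁻¹ * ⁅⁅a, g⁆, g⁆ * (⁅a, g⁆)⁻¹ * a := by
    simp only [commutatorElement_def]; group
  rw [h2] at h1
  have h3 : (⁅a, g⁆)⁻¹ * ⁅⁅a, g⁆, g⁆ * (⁅a, g⁆)⁻¹ = 1 :=
    mul_right_cancel (b := a) (by rw [one_mul]; exact h1)
  calc ⁅⁅a, g⁆, g⁆ = ⁅a, g⁆ * ((⁅a, g⁆)⁻¹ * ⁅⁅a, g⁆, g⁆ * (⁅a, g⁆)⁻¹) * ⁅a, g⁆ := by group
    _ = ⁅a, g⁆ * ⁅a, g⁆ := by rw [h3, mul_one]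

/-! ### Step 1: elements whose action on the second centre is injective -/

theorem central_of_Z2_comm (B : Base P) (hTab : ∀ x ∈ Z2 P, ∀ y ∈ Z2 P, x * y = y * x)
    {g : P} (hinj : Function.Injective (theta B hTab g))
    {t : P} (ht : t ∈ Z2 P) (htg : t * g = g * t) : t ∈ center P := by
  have h1 := theta_spec' B hTab ht g
  have h2 : ⁅t, g⁆ = 1 := by rw [commutatorElement_eq_one_iff_commute]; exact htg
  rw [h2, ez_one] at h1
  have h3 : ez B (t * t) = 0 := hinj (by rw [← h1, map_zero])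
  exact B.hinv _ (ez_inj B (sq_mem_center B ht) h3)

theorem central_of_CZ_comm_aux (B : Base P) (hTab : ∀ x ∈ Z2 P, ∀ y ∈ Z2 P, x * y = y * x)
    {g : P} (hinj : Function.Injective (theta B hTab g)) :
    ∀ k : ℕ, ∀ y ∈ CZ P, y * g = g * y → y ^ (2 ^ k) = 1 → y ∈ center P := by
  intro k
  induction k with
  | zero =>
    intro y _ _ h
    rw [pow_zero, pow_one] at h
    rw [h]; exact one_mem _
  | succ k ih =>
    intro y hy hyg h
    have hyy : y * y ∈ center P := by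
      apply ih (y * y) (mul_mem hy hy)
      · rw [mul_assoc, hyg, ← mul_assoc, hyg, mul_assoc]
      · rw [← pow_two, ← pow_mul, ← pow_succ']; exact h
    have h4 : (y * y) * (y * y) = 1 := B.hZexp _ hyy
    exact central_of_Z2_comm B hTab hinj (mem_Z2_of_pow_four B hTab hy h4) hyg

theorem central_of_CZ_comm (B : Base P) (hTab : ∀ x ∈ Z2 P, ∀ y ∈ Z2 P, x * y = y * x)
    {g : P} (hinj : Function.Injective (theta B hTab g))
    {y : P} (hy : y ∈ CZ P) (hyg : y * g = g * y) : y ∈ center P := by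
  obtain ⟨k, hk⟩ := B.h2 y
  exact central_of_CZ_comm_aux B hTab hinj k y hy hyg hk

theorem sq_central_of_inj (B : Base P) (hTab : ∀ x ∈ Z2 P, ∀ y ∈ Z2 P, x * y = y * x)
    {g : P} (hinj : Function.Injective (theta B hTab g)) : g * g ∈ center P :=
  central_of_CZ_comm B hTab hinj (sq_mem_CZ B g) (by rw [mul_assoc])

/-! ### Step 2: `C_P(Z_2) ≤ Z_2` -/

theorem dagger (B : Base P) (hTab : ∀ x ∈ Z2 P, ∀ y ∈ Z2 P, x * y = y * x)
    {g : P} (hinj : Function.Injective (theta B hTab g)) {a : P} (ha : a ∈ CZ P) :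
    a * a * (⁅a, g⁆)⁻¹ ∈ center P := by
  have hd : ⁅a, g⁆ ∈ CZ P := comm_mem_CZ B a g
  have hgg := sq_central_of_inj B hTab hinj
  apply central_of_CZ_comm B hTab hinj (mul_mem (mul_mem ha ha) (inv_mem hd))
  have h1 : ⁅a * a * (⁅a, g⁆)⁻¹, g⁆ = 1 := by
    rw [comm_mul_CZ B (mul_mem ha ha) (inv_mem hd), comm_mul_CZ B ha ha, comm_inv_CZ B hd,
      comm_comm_of_sq_central hgg, mul_inv_cancel]
  exact (commutatorElement_eq_one_iff_commute.1 h1).eq

theorem sq_central_of_CZ (B : Base P) (hTab : ∀ x ∈ Z2 P, ∀ y ∈ Z2 P, x * y = y * x)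
    {g₁ g₂ : P} (h1 : Function.Injective (theta B hTab g₁))
    (h2 : Function.Injective (theta B hTab g₂))
    (h3 : Function.Injective (theta B hTab (g₁ * g₂))) {a : P} (ha : a ∈ CZ P) :
    a * a ∈ center P := by
  have hz₁ : a * a * (⁅a, g₁⁆)⁻¹ ∈ center P := dagger B hTab h1 ha
  have hz₂ : a * a * (⁅a, g₂⁆)⁻¹ ∈ center P := dagger B hTab h2 ha
  have hz₃ : a * a * (⁅a, g₁ * g₂⁆)⁻¹ ∈ center P := dagger B hTab h3 ha
  have e1 : ⁅a, g₁ * g₂⁆ = ⁅a, g₁⁆ * (g₁ * ⁅a, g₂⁆ * g₁⁻¹) := by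
    simp only [commutatorElement_def]; group
  have e2 : g₁ * ⁅a, g₂⁆ * g₁⁻¹ = (⁅⁅a, g₂⁆, g₁⁆)⁻¹ * ⁅a, g₂⁆ := conj_eq _ g₁
  have e3 : ⁅⁅a, g₂⁆, g₁⁆ = ⁅a, g₁⁆ * ⁅a, g₁⁆ := by
    have hd2 : ⁅a, g₂⁆ = (a * a * (⁅a, g₂⁆)⁻¹)⁻¹ * (a * a) := by group
    conv_lhs => rw [hd2]
    rw [comm_mul_CZ B (inv_mem (center_le_CZ hz₂)) (mul_mem ha ha),
      comm_eq_one_of_center (inv_mem hz₂), one_mul, comm_mul_CZ B ha ha]
  have e4 : ⁅a, g₁ * g₂⁆ = (⁅a, g₁⁆)⁻¹ * ⁅a, g₂⁆ := by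
    rw [e1, e2, e3]; group
  have e5 : (⁅a, g₁⁆)⁻¹ * ⁅a, g₂⁆ =
      (a * a)⁻¹ * ((a * a * (⁅a, g₁⁆)⁻¹) * (a * a * (⁅a, g₂⁆)⁻¹)⁻¹) * (a * a) := by group
  have hd3 : ⁅a, g₁ * g₂⁆ ∈ center P := by
    rw [e4, e5, conj_central' (mul_mem hz₁ (inv_mem hz₂))]
    exact mul_mem hz₁ (inv_mem hz₂)
  have : a * a = (a * a * (⁅a, g₁ * g₂⁆)⁻¹) * ⁅a, g₁ * g₂⁆ := by group
  rw [this]
  exact mul_mem hz₃ hd3

theorem CZ_le_Z2 (B : Base P) (hTab : ∀ x ∈ Z2 P, ∀ y ∈ Z2 P, x * y = y * x)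
    {g₁ g₂ : P} (h1 : Function.Injective (theta B hTab g₁))
    (h2 : Function.Injective (theta B hTab g₂))
    (h3 : Function.Injective (theta B hTab (g₁ * g₂))) : CZ P ≤ Z2 P := fun a ha =>
  mem_Z2_of_pow_four B hTab ha (B.hZexp _ (sq_central_of_CZ B hTab h1 h2 h3 ha))

/-! ### Step 3: the form `Bf` -/

/-- the square of the commutator, in coordinates -/
noncomputable def Bf (B : Base P) (g h : P) : (datZ B).Fld := ez B (⁅g, h⁆ * ⁅g, h⁆)

theorem comm_mem_Z2 (B : Base P) (hCZ : CZ P ≤ Z2 P) (g h : P) : ⁅g, h⁆ ∈ Z2 P :=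
  hCZ (comm_mem_CZ B g h)

theorem Bf_symm (B : Base P) (hCZ : CZ P ≤ Z2 P) (g h : P) : Bf B g h = Bf B h g := by
  unfold Bf
  have h1 : ⁅h, g⁆ = (⁅g, h⁆)⁻¹ := (commutatorElement_inv g h).symm
  have hc : ⁅g, h⁆ * ⁅g, h⁆ ∈ center P := sq_mem_center B (comm_mem_Z2 B hCZ g h)
  rw [h1, ← mul_inv_rev, inv_eq_self_of_center B hc]

theorem central_mul_sq (B : Base P) {c : P} (hc : c ∈ center P) (x : P) :
    (c * x) * (c * x) = x * x := by
  have h1 : x * c = c * x := mem_center_iff.1 hc x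
  calc (c * x) * (c * x) = c * (x * c) * x := by group
    _ = c * (c * x) * x := by rw [h1]
    _ = (c * c) * (x * x) := by group
    _ = x * x := by rw [B.hZexp c hc, one_mul]

theorem Bf_mul_right (B : Base P) (hTab : ∀ x ∈ Z2 P, ∀ y ∈ Z2 P, x * y = y * x)
    (hCZ : CZ P ≤ Z2 P) (g h h' : P) : Bf B g (h * h') = Bf B g h + Bf B g h' := by
  unfold Bf
  have hw : ⁅g, h⁆ ∈ Z2 P := comm_mem_Z2 B hCZ g h
  have hw' : ⁅g, h'⁆ ∈ Z2 P := comm_mem_Z2 B hCZ g h'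
  have hc : ⁅h, ⁅g, h'⁆⁆ ∈ center P := comm_symm_mem hw' h
  have e1 : ⁅g, h * h'⁆ = ⁅h, ⁅g, h'⁆⁆ * (⁅g, h⁆ * ⁅g, h'⁆) := by
    have e0 : ⁅g, h * h'⁆ = ⁅g, h⁆ * ⁅h, ⁅g, h'⁆⁆ * ⁅g, h'⁆ := by
      simp only [commutatorElement_def]; group
    rw [e0, mem_center_iff.1 hc ⁅g, h⁆, mul_assoc]
  rw [e1, central_mul_sq B hc, sq_mul_Z2 hTab hw hw',
    ez_mul B (sq_mem_center B hw) (sq_mem_center B hw')]

theorem Bf_right_Z2 (B : Base P) (g : P) {h : P} (hh : h ∈ Z2 P) : Bf B g h = 0 := by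
  unfold Bf
  rw [B.hZexp _ (comm_symm_mem hh g), ez_one]

theorem Bf_congr (B : Base P) (hTab : ∀ x ∈ Z2 P, ∀ y ∈ Z2 P, x * y = y * x)
    (hCZ : CZ P ≤ Z2 P) (x : P) {y y' : P} (h : theta B hTab y = theta B hTab y') :
    Bf B x y = Bf B x y' := by
  have h1 : y⁻¹ * y' ∈ Z2 P := by
    apply hCZ
    rw [← theta_eq_zero_iff B hTab, theta_mul, theta_inv, h, neg_add_cancel]
  have h2 : y' = y * (y⁻¹ * y') := by group
  rw [h2, Bf_mul_right B hTab hCZ, Bf_right_Z2 B x h1, add_zero]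

theorem Bf_self_theta (B : Base P) (hTab : ∀ x ∈ Z2 P, ∀ y ∈ Z2 P, x * y = y * x)
    (hCZ : CZ P ≤ Z2 P) {x : P} (hxx : x * x ∈ center P) (y : P) :
    Bf B y x = theta B hTab x (Bf B y x) := by
  unfold Bf
  have h1 := comm_comm_of_sq_central hxx y
  have h2 := theta_spec' B hTab (comm_mem_Z2 B hCZ y x) x
  rw [h1] at h2
  exact h2

/-! ### Step 4: the form vanishes on pairs of pure elements -/

/-- the field computation -/
theorem field_key {F : Type*} [Field F] [CharP F 2] (σ τ : F ≃+* F) (c d e v v' : F)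
    (hc : c ≠ 0) (hd : d ≠ 0) (he0 : e ≠ 0) (he1 : e ≠ 1)
    (hσ : ∀ u : F, σ u = u → u = 0 ∨ u = 1)
    (hv1 : v = c * σ v) (hv2 : v = d * τ v) (hv1' : v' = c * σ v') (hv2' : v' = (d * e) * τ v')
    (hsum : v + v' = (d + d * e) * τ (v + v')) : v = 0 := by
  by_contra hv
  -- `d τ v' = d e τ v`
  have h1 : d * τ v' + d * e * τ v = 0 := by
    have h2 : (d + d * e) * τ (v + v') = v + v' + (d * τ v' + d * e * τ v) := by
      calc (d + d * e) * τ (v + v')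
          = d * τ v + d * e * τ v' + (d * τ v' + d * e * τ v) := by rw [map_add]; ring
        _ = v + v' + (d * τ v' + d * e * τ v) := by rw [← hv2, ← hv2']
    rw [h2] at hsum
    exact left_eq_add.1 hsum
  have h3 : τ v' = e * τ v := by
    have h4 : d * (τ v' + e * τ v) = 0 := by rw [← h1]; ring
    have h5 : τ v' + e * τ v = 0 := (mul_eq_zero.1 h4).resolve_left hd
    have h6 := eq_neg_of_add_eq_zero_left h5
    rw [h6, CharTwo.neg_eq]
  -- `v' = e² v`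
  have h7 : v' = e * e * v := by
    conv_lhs => rw [hv2', h3]
    conv_rhs => rw [hv2]
    ring
  -- `σ (e²) = e²`
  have hσv : σ v ≠ 0 := fun h => hv (by rw [hv1, h, mul_zero])
  have h8 : σ (e * e) = e * e := by
    have h9 : c * σ (e * e) * σ v = c * (e * e) * σ v := by
      calc c * σ (e * e) * σ v = c * σ (e * e * v) := by rw [map_mul σ (e * e) v]; ring
        _ = c * σ v' := by rw [h7]
        _ = v' := hv1'.symm
        _ = e * e * v := h7
        _ = e * e * (c * σ v) := by rw [← hv1]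
        _ = c * (e * e) * σ v := by ring
    have h10 := mul_right_cancel₀ hσv h9
    exact mul_left_cancel₀ hc h10
  rcases hσ _ h8 with h | h
  · exact he0 (mul_self_eq_zero.1 h)
  · apply he1
    have h11 : (e + 1) * (e + 1) = 0 := by
      have : (e + 1) * (e + 1) = e * e + 1 + 2 * e := by ring
      rw [this, h, CharTwo.two_eq_zero, zero_mul, add_zero, CharTwo.add_self_eq_zero]
    have h12 := mul_self_eq_zero.1 h11
    have h13 := eq_neg_of_add_eq_zero_left h12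
    rw [h13, CharTwo.neg_eq]

theorem inj_of_pure {F : Type*} [Field F] (θ : F →+ F) (c : F) (σ : F ≃+* F) (hc : c ≠ 0)
    (h : ∀ u, θ u = c * σ u) : Function.Injective θ := by
  intro u u' huu
  rw [h, h] at huu
  exact σ.injective (mul_left_cancel₀ hc huu)

/-- an element of the centre which is not `0` or `1` in coordinates -/
theorem exists_e (B : Base P) : ∃ e : (datZ B).Fld, e ≠ 0 ∧ e ≠ 1 := by
  obtain ⟨z, hz, hz1, hz0⟩ := B.hfour
  refine ⟨ez B z, fun h => hz1 (ez_inj B hz h), fun h => hz0 ?_⟩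
  haveI := charP B
  have h1 : ez B (z * B.z₀) = 0 := by
    rw [ez_mul B hz B.hz₀, h, ez_z₀, CharTwo.add_self_eq_zero]
  have h2 := ez_inj B (mul_mem hz B.hz₀) h1
  have h3 : z = B.z₀⁻¹ := eq_inv_of_mul_eq_one_left h2
  rw [h3, inv_eq_self_of_center B B.hz₀]

theorem Bf_pure_pure (B : Base P) (hTab : ∀ x ∈ Z2 P, ∀ y ∈ Z2 P, x * y = y * x)
    (hCZ : CZ P ≤ Z2 P) {x y : P} {c d : (datZ B).Fld}
    {σ τ : (datZ B).Fld ≃+* (datZ B).Fld} (hc : c ≠ 0) (hd : d ≠ 0)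
    (hx : ∀ u, theta B hTab x u = c * σ u) (hσ : ∀ u, σ u = u → u = 0 ∨ u = 1)
    (hy : ∀ u, theta B hTab y u = d * τ u)
    (hline : ∀ c' : (datZ B).Fld, ∃ θ' ∈ DD B hTab, ∀ u, θ' u = c' * τ u) :
    Bf B x y = 0 := by
  haveI := charP B
  obtain ⟨e, he0, he1⟩ := exists_e B
  obtain ⟨_, ⟨y', rfl⟩, hy'⟩ := hline (d * e)
  have hde : d * e ≠ 0 := mul_ne_zero hd he0
  have hde1 : d + d * e ≠ 0 := by
    have : d + d * e = d * (1 + e) := by ring
    rw [this]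
    refine mul_ne_zero hd (fun h => he1 ?_)
    have := eq_neg_of_add_eq_zero_right h
    rw [this, CharTwo.neg_eq]
  have hyy' : ∀ u, theta B hTab (y * y') u = (d + d * e) * τ u := by
    intro u
    rw [theta_mul, AddMonoidHom.add_apply, hy, hy']
    ring
  have hxx : x * x ∈ center P := sq_central_of_inj B hTab (inj_of_pure _ c σ hc hx)
  have hyy : y * y ∈ center P := sq_central_of_inj B hTab (inj_of_pure _ d τ hd hy)
  have hy'y' : y' * y' ∈ center P := sq_central_of_inj B hTab (inj_of_pure _ (d * e) τ hde hy')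
  have hyyyy : (y * y') * (y * y') ∈ center P :=
    sq_central_of_inj B hTab (inj_of_pure _ (d + d * e) τ hde1 hyy')
  have hv1 : Bf B x y = c * σ (Bf B x y) := by
    have := Bf_self_theta B hTab hCZ hxx y
    rw [hx, Bf_symm B hCZ y x] at this
    exact this
  have hv2 : Bf B x y = d * τ (Bf B x y) := by
    have := Bf_self_theta B hTab hCZ hyy x
    rw [hy] at this
    exact this
  have hv1' : Bf B x y' = c * σ (Bf B x y') := by
    have := Bf_self_theta B hTab hCZ hxx y'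
    rw [hx, Bf_symm B hCZ y' x] at this
    exact this
  have hv2' : Bf B x y' = (d * e) * τ (Bf B x y') := by
    have := Bf_self_theta B hTab hCZ hy'y' x
    rw [hy'] at this
    exact this
  have hsum : Bf B x y + Bf B x y' = (d + d * e) * τ (Bf B x y + Bf B x y') := by
    have := Bf_self_theta B hTab hCZ hyyyy x
    rw [hyy', Bf_mul_right B hTab hCZ] at this
    exact this
  exact field_key σ τ c d e _ _ hc hd he0 he1 hσ hv1 hv2 hv1' hv2' hsum

/-! ### Step 5: the form vanishes identically -/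

theorem Bf_zero_of_gen (B : Base P) (hTab : ∀ x ∈ Z2 P, ∀ y ∈ Z2 P, x * y = y * x)
    (hCZ : CZ P ≤ Z2 P) (S : Set ((datZ B).Fld →+ (datZ B).Fld))
    (hS : S ⊆ (DD B hTab : Set ((datZ B).Fld →+ (datZ B).Fld)))
    (hspan : DD B hTab ≤ AddSubgroup.closure S) (x₀ : P)
    (h : ∀ y, theta B hTab y ∈ S → Bf B x₀ y = 0) : ∀ y, Bf B x₀ y = 0 := by
  haveI := charP B
  have hle : AddSubgroup.closure S ≤ DD B hTab := (AddSubgroup.closure_le _).2 hS
  have key : ∀ θ' ∈ AddSubgroup.closure S, ∀ y, theta B hTab y = θ' → Bf B x₀ y = 0 := by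
    intro θ' hθ'
    induction hθ' using AddSubgroup.closure_induction with
    | mem θ' hm =>
      intro y hy
      exact h y (hy ▸ hm)
    | zero =>
      intro y hy
      exact Bf_right_Z2 B x₀ (hCZ ((theta_eq_zero_iff B hTab y).1 hy))
    | add a b ha hb iha ihb =>
      intro y hy
      obtain ⟨ya, hya⟩ := hle ha
      obtain ⟨yb, hyb⟩ := hle hb
      have h1 : theta B hTab y = theta B hTab (ya * yb) := by rw [hy, theta_mul, hya, hyb]
      rw [Bf_congr B hTab hCZ x₀ h1, Bf_mul_right B hTab hCZ, iha ya hya, ihb yb hyb, add_zero]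
    | neg a ha iha =>
      intro y hy
      apply iha y
      rw [hy]
      ext u
      rw [AddMonoidHom.neg_apply, CharTwo.neg_eq]
  intro y
  exact key _ (hspan ⟨y, rfl⟩) y rfl

/-- **Case A is impossible**: the second centre of a Suzuki 2-group is not abelian. -/
theorem caseA_false (B : Base P) (hTab : ∀ x ∈ Z2 P, ∀ y ∈ Z2 P, x * y = y * x) : False := by
  classical
  haveI : Fintype (datZ B).Fld := Fintype.ofFinite _
  haveI := charP B
  have hspan := Cfsg.Agent.Lib.Helper42.Hig.pure_span (lam B) (lam_gen B) (DD B hTab)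
    (DD_conj B hTab) (DD_free B hTab)
  set S : Set ((datZ B).Fld →+ (datZ B).Fld) :=
    {θ | θ ∈ DD B hTab ∧ ∃ (c : (datZ B).Fld) (σ : (datZ B).Fld ≃+* (datZ B).Fld), c ≠ 0 ∧
      (∀ x, θ x = c * σ x) ∧ (∀ u : (datZ B).Fld, σ u = u → u = 0 ∨ u = 1) ∧
      ∀ c' : (datZ B).Fld, ∃ θ' ∈ DD B hTab, ∀ x, θ' x = c' * σ x} with hSdef
  have hS : S ⊆ (DD B hTab : Set ((datZ B).Fld →+ (datZ B).Fld)) := fun θ hθ => hθ.1
  obtain ⟨g₀, h₀, hgh⟩ := B.hnc
  -- `S` is non-empty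
  have hne : S.Nonempty := by
    by_contra hemp
    rw [Set.not_nonempty_iff_eq_empty] at hemp
    rw [hemp, AddSubgroup.closure_empty] at hspan
    have hall : ∀ g : P, g ∈ CZ P := by
      intro g
      rw [← theta_eq_zero_iff B hTab]
      exact (AddSubgroup.mem_bot).1 (hspan ⟨g, rfl⟩)
    exact hgh (CZ_comm B _ (hall g₀) _ (hall h₀))
  obtain ⟨θ₀, -, c₀, σ, hc₀, -, -, hline⟩ := hne
  obtain ⟨e, he0, he1⟩ := exists_e B
  obtain ⟨_, ⟨g₁, rfl⟩, hg₁⟩ := hline 1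
  obtain ⟨_, ⟨g₂, rfl⟩, hg₂⟩ := hline e
  have h1e : (1 : (datZ B).Fld) + e ≠ 0 := by
    intro h
    apply he1
    have := eq_neg_of_add_eq_zero_right h
    rw [this, CharTwo.neg_eq]
  have hg₁₂ : ∀ u, theta B hTab (g₁ * g₂) u = (1 + e) * σ u := by
    intro u
    rw [theta_mul, AddMonoidHom.add_apply, hg₁, hg₂]
    ring
  have hCZ : CZ P ≤ Z2 P :=
    CZ_le_Z2 B hTab (inj_of_pure _ 1 σ one_ne_zero hg₁) (inj_of_pure _ e σ he0 hg₂)
      (inj_of_pure _ (1 + e) σ h1e hg₁₂)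
  -- the form vanishes on pure pairs
  have hpp : ∀ x y, theta B hTab x ∈ S → theta B hTab y ∈ S → Bf B x y = 0 := by
    intro x y hx hy
    obtain ⟨-, c, σx, hc, hxθ, hσx, -⟩ := hx
    obtain ⟨-, d, τ, hd, hyθ, -, hl⟩ := hy
    exact Bf_pure_pure B hTab hCZ hc hd hxθ hσx hyθ hl
  have hp : ∀ x, theta B hTab x ∈ S → ∀ y, Bf B x y = 0 := fun x hx =>
    Bf_zero_of_gen B hTab hCZ S hS hspan x (fun y hy => hpp x y hx hy)
  have hall : ∀ y₀ x, Bf B y₀ x = 0 := fun y₀ =>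
    Bf_zero_of_gen B hTab hCZ S hS hspan y₀ (fun x hx => by rw [Bf_symm B hCZ]; exact hp x hx y₀)
  -- so every commutator is central
  have hcomm : ∀ g h : P, ⁅g, h⁆ ∈ center P := by
    intro g h
    have h1 := hall g h
    unfold Bf at h1
    exact B.hinv _ (ez_inj B (sq_mem_center B (comm_mem_Z2 B hCZ g h)) h1)
  exact hgh (hTab g₀ (mem_Z2.2 (fun k => hcomm g₀ k)) h₀ (mem_Z2.2 (fun k => hcomm h₀ k)))

end Cfsg.Agent.Lib.Helper68.HigCaseA
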