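import Mathlib
import Cfsg.Agent.Lib.Helper68.HigCaseA
import Cfsg.Agent.Lib.Helper19.HigB

set_option autoImplicit false
set_option linter.unusedSectionVars false
set_option linter.unusedVariables false
set_option linter.style.haveILetI false
set_option linter.unusedSimpArgs false

/-! Higman's theorem on Suzuki 2-groups: the order and the exponent. -/

namespace Cfsg.Agent.Lib.Helper68.HigFinal

open Subgroup
open scoped commutatorElement
open Cfsg.Agent.Lib.Helper68.HigBase
open Cfsg.Agent.Lib.Helper68.HigRed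
open Cfsg.Agent.Lib.Helper68.HigCoord
open Cfsg.Agent.Lib.Helper68.HigTheta
open Cfsg.Agent.Lib.Helper68.HigCaseA
open Cfsg.Agent.Lib.Helper68.SuzStruct
open Cfsg.Agent.Lib.Helper68.RegField

/-- multiplicative form of the keystone on anisotropic quadratic maps -/
theorem card_le_sq_mul {V W : Type*} [CommGroup V] [CommGroup W] [Finite V] [Finite W]
    (hV : ∀ v : V, v * v = 1) (hW : ∀ w : W, w * w = 1) (s : V → W) (β : V → V → W)
    (hs : ∀ v v', s (v * v') = s v * s v' * β v v')
    (hβl : ∀ v v' v'', β (v * v') v'' = β v v'' * β v' v'')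
    (hβr : ∀ v v' v'', β v (v' * v'') = β v v' * β v v'')
    (haniso : ∀ v, s v = 1 → v = 1) : Nat.card V ≤ Nat.card W ^ 2 :=
  Cfsg.Agent.Lib.Helper19.Hig.card_le_sq_of_anisotropic (V := Additive V) (W := Additive W)
    hV hW s β hs hβl hβr haniso

/-- Burnside's lemma for an action which is free away from one fixed point -/
theorem card_dvd_of_free {G X : Type*} [Group G] [MulAction G X] [Finite G] [Finite X] (x₀ : X)
    (hfix : ∀ g : G, g • x₀ = x₀) (hfree : ∀ g : G, ∀ x : X, x ≠ x₀ → g • x = x → g = 1) :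
    Nat.card G ∣ Nat.card X - 1 := by
  classical
  haveI : Fintype G := Fintype.ofFinite G
  haveI : Fintype X := Fintype.ofFinite X
  have hB := MulAction.sum_card_fixedBy_eq_card_orbits_mul_card_group G X
  have hfb : ∀ g : G, Fintype.card (MulAction.fixedBy X g) =
      1 + (if g = 1 then Nat.card X - 1 else 0) := by
    intro g
    rw [Fintype.card_eq_nat_card]
    split_ifs with hg
    · have h1 : MulAction.fixedBy X g = Set.univ := by
        ext x; simp [MulAction.mem_fixedBy, hg]
      rw [h1, Nat.card_congr (Equiv.Set.univ X)]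
      have : 0 < Nat.card X := Nat.card_pos_iff.2 ⟨⟨x₀⟩, inferInstance⟩
      omega
    · have h1 : MulAction.fixedBy X g = {x₀} := by
        ext x
        simp only [MulAction.mem_fixedBy, Set.mem_singleton_iff]
        constructor
        · intro h; by_contra hx; exact hg (hfree g x hx h)
        · rintro rfl; exact hfix g
      rw [h1, add_zero]
      simp
  have hsum : ∑ g : G, Fintype.card (MulAction.fixedBy X g) = Nat.card G + (Nat.card X - 1) := by
    rw [Finset.sum_congr rfl (fun g _ => hfb g), Finset.sum_add_distrib]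
    simp [Nat.card_eq_fintype_card]
  rw [hsum] at hB
  exact (Nat.dvd_add_right (dvd_refl (Nat.card G))).1
    ⟨Fintype.card (Quotient (MulAction.orbitRel G X)), by
      rw [hB, Nat.card_eq_fintype_card, mul_comm]⟩

variable {P : Type*} [Group P] [Finite P]

/-- **Higman**: in a Suzuki 2-group squares and commutators are central. -/
theorem central_props (B : Base P) :
    (∀ x : P, x * x ∈ center P) ∧ (∀ x y : P, ⁅x, y⁆ ∈ center P) := by
  by_cases hTab : ∀ x ∈ Z2 P, ∀ y ∈ Z2 P, x * y = y * x
  · exact (caseA_false B hTab).elim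
  · push Not at hTab
    obtain ⟨x, hx, y, hy, hxy⟩ := hTab
    have hC := caseB B ⟨x, hx, y, hy, hxy⟩
    exact ⟨fun g => hC (sq_mem_CZ B g), fun g h => hC (comm_mem_CZ B g h)⟩

theorem ez_eq (B : Base P) {z z' : P} (hz : z ∈ center P) (hz' : z' ∈ center P)
    (h : ez B z = ez B z') : z = z' := by
  haveI := charP B
  have h1 : ez B (z * z') = 0 := by
    rw [ez_mul B hz hz', h, CharTwo.add_self_eq_zero]
  have h2 := ez_inj B (mul_mem hz hz') h1
  have h3 : z = z'⁻¹ := eq_inv_of_mul_eq_one_left h2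
  rw [h3, inv_eq_self_of_center B hz']

theorem orderOf_lam (B : Base P) : orderOf (lam B) = Nat.card (center P) - 1 := by
  let u : ((datZ B).Fld)ˣ := Units.mk0 (lam B) (lam_ne_zero B)
  have hgen : ∀ x : ((datZ B).Fld)ˣ, x ∈ Subgroup.zpowers u := by
    intro x
    obtain ⟨i, hi⟩ := lam_gen B (x : (datZ B).Fld) x.ne_zero
    refine ⟨(i : ℤ), ?_⟩
    apply Units.ext
    simp [hi, u]
  have h1 := orderOf_eq_card_of_forall_mem_zpowers hgen
  have h2 : orderOf (lam B) = orderOf u := orderOf_units (y := u)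
  rw [h2, h1, Nat.card_units]
  rfl

theorem orderOf_ξ_eq (B : Base P) : orderOf B.ξ = Nat.card (center P) - 1 := by
  rw [← orderOf_lam B]
  apply orderOf_eq_orderOf_iff.2
  intro n
  constructor
  · exact fun h => lam_pow_one B h
  · intro h
    have h1 := ez_ξpow B n B.hz₀
    rw [h, one_mul] at h1
    have hz : (B.ξ ^ n) B.z₀ ∈ center P := aut_center _ B.hz₀
    exact B.hfree n _ B.hz₀1 (ez_eq B hz B.hz₀ h1)

theorem orderOf_ξ_dvd (B : Base P) : orderOf B.ξ ∣ Nat.card P - 1 := by
  haveI : Finite (MulAut P) :=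
    Finite.of_injective (fun e : MulAut P => (e : P → P)) DFunLike.coe_injective
  rw [← Nat.card_zpowers]
  apply card_dvd_of_free (G := Subgroup.zpowers B.ξ) (X := P) 1
  · intro g
    exact map_one (g : MulAut P)
  · intro g x hx h
    have h1 : (g : MulAut P) ∈ Submonoid.powers B.ξ :=
      (IsOfFinOrder.mem_powers_iff_mem_zpowers (isOfFinOrder_of_finite B.ξ)).2 g.2
    obtain ⟨i, hi⟩ := (Submonoid.mem_powers_iff _ _).1 h1
    have h2 : (B.ξ ^ i) x = x := by rw [hi]; exact h
    have h3 := B.hfree i x hx h2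
    apply Subtype.ext
    rw [← hi, h3]
    rfl

theorem card_quot_le (B : Base P) (hsq : ∀ x : P, x * x ∈ center P)
    (hcm : ∀ x y : P, ⁅x, y⁆ ∈ center P) :
    Nat.card (P ⧸ center P) ≤ Nat.card (center P) ^ 2 := by
  classical
  have hZ2 : ∀ x : P, x ∈ Z2 P := fun x => mem_Z2.2 (hcm x)
  letI : CommGroup (P ⧸ center P) :=
    { (inferInstance : Group (P ⧸ center P)) with
      mul_comm := by
        intro a b
        induction a using QuotientGroup.induction_on with
        | H x =>
          induction b using QuotientGroup.induction_on with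
          | H y =>
            rw [← QuotientGroup.mk_mul, ← QuotientGroup.mk_mul, QuotientGroup.eq]
            have : (x * y)⁻¹ * (y * x) = ⁅y⁻¹, x⁻¹⁆ := by rw [commutatorElement_def]; group
            rw [this]; exact hcm _ _ }
  letI : CommGroup (center P) :=
    { (inferInstance : Group (center P)) with
      mul_comm := fun a b => Subtype.ext (mem_center_iff.1 b.2 a) }
  have hout : ∀ v v' : P ⧸ center P, ∃ z ∈ center P, (v * v').out = v.out * v'.out * z := by
    intro v v'
    obtain ⟨h, hh⟩ := QuotientGroup.mk_out_eq_mul (center P) (v.out * v'.out)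
    refine ⟨h, h.2, ?_⟩
    rw [← hh]
    congr 1
    rw [QuotientGroup.mk_mul, QuotientGroup.out_eq', QuotientGroup.out_eq']
  -- facts on representatives
  have F1 : ∀ x z : P, z ∈ center P → (x * z) * (x * z) = x * x := by
    intro x z hz
    rw [mem_center_iff.1 hz x, central_mul_sq B hz]
  have F2 : ∀ x y : P, (x * y) * (x * y) = (x * x) * (y * y) * ⁅y, x⁆ := by
    intro x y
    have e : (x * y) * (x * y) = x * ⁅y, x⁆ * x * (y * y) := by
      rw [commutatorElement_def]; group
    have hc := hcm y x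
    rw [e, mem_center_iff.1 hc x, mem_center_iff.1 hc ((x * x) * (y * y))]
    group
  have F3 : ∀ w x x' z : P, z ∈ center P → ⁅w, x * x' * z⁆ = ⁅w, x⁆ * ⁅w, x'⁆ := by
    intro w x x' z hz
    have h1 : ⁅w, z⁆ = 1 := by
      rw [commutatorElement_eq_one_iff_commute]
      exact mem_center_iff.1 hz w
    rw [comm_mul_right (hZ2 w), comm_mul_right (hZ2 w), h1, mul_one]
  have F4 : ∀ y y' z x : P, z ∈ center P → ⁅y * y' * z, x⁆ = ⁅y, x⁆ * ⁅y', x⁆ := by
    intro y y' z x hz
    rw [comm_mul_left (hZ2 _) (hZ2 z), comm_mul_left (hZ2 y) (hZ2 y'),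
      comm_eq_one_of_center hz, mul_one]
  let s : P ⧸ center P → center P := fun v => ⟨v.out * v.out, hsq _⟩
  let β : P ⧸ center P → P ⧸ center P → center P := fun v v' => ⟨⁅v'.out, v.out⁆, hcm _ _⟩
  apply card_le_sq_mul (V := P ⧸ center P) (W := center P) ?_ ?_ s β
  · intro v v'
    apply Subtype.ext
    show (v * v').out * (v * v').out = (v.out * v.out) * (v'.out * v'.out) * ⁅v'.out, v.out⁆
    obtain ⟨z, hz, e⟩ := hout v v'
    rw [e, F1 _ _ hz, F2]
  · intro v v' v''
    apply Subtype.ext
    show ⁅v''.out, (v * v').out⁆ = ⁅v''.out, v.out⁆ * ⁅v''.out, v'.out⁆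
    obtain ⟨z, hz, e⟩ := hout v v'
    rw [e, F3 _ _ _ _ hz]
  · intro v v' v''
    apply Subtype.ext
    show ⁅(v' * v'').out, v.out⁆ = ⁅v'.out, v.out⁆ * ⁅v''.out, v.out⁆
    obtain ⟨z, hz, e⟩ := hout v' v''
    rw [e, F4 _ _ _ _ hz]
  · intro v h
    have h1 : v.out * v.out = 1 := congrArg Subtype.val h
    have h2 : v.out ∈ center P := B.hinv _ h1
    rw [← QuotientGroup.out_eq' v]
    exact (QuotientGroup.eq_one_iff _).2 h2
  · intro v
    induction v using QuotientGroup.induction_on with
    | H x =>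
      rw [← QuotientGroup.mk_mul]
      exact (QuotientGroup.eq_one_iff _).2 (hsq x)
  · intro w
    exact Subtype.ext (B.hZexp w w.2)

theorem card_cases (B : Base P) (hsq : ∀ x : P, x * x ∈ center P)
    (hcm : ∀ x y : P, ⁅x, y⁆ ∈ center P) :
    Nat.card P = Nat.card (center P) ^ 2 ∨ Nat.card P = Nat.card (center P) ^ 3 := by
  haveI : Fact (Nat.Prime 2) := ⟨Nat.prime_two⟩
  obtain ⟨n, hn⟩ := (IsPGroup.iff_card).1 B.h2
  obtain ⟨m, hm⟩ := (IsPGroup.iff_card).1 (B.h2.to_subgroup (center P))
  have hV := card_quot_le B hsq hcm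
  have hmul : Nat.card P = Nat.card (P ⧸ center P) * Nat.card (center P) :=
    Subgroup.card_eq_card_quotient_mul_card_subgroup _
  have hd := orderOf_ξ_dvd B
  rw [orderOf_ξ_eq B, hn, hm] at hd
  obtain ⟨g₀, h₀, hgh⟩ := B.hnc
  have hm1 : 1 ≤ m := by
    by_contra h
    have h0 : m = 0 := by omega
    subst h0
    rw [pow_zero] at hm
    have hsub : Subsingleton (center P) := (Nat.card_eq_one_iff_unique.1 hm).1
    exact B.hz₀1 (congrArg Subtype.val (Subsingleton.elim (⟨B.z₀, B.hz₀⟩ : center P) 1))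
  have hmn : m ∣ n := by
    have h1 := Nat.pow_sub_one_mod_pow_sub_one 2 m n
    rw [Nat.mod_eq_zero_of_dvd hd] at h1
    have h3 : n % m = 0 := by
      by_contra h
      have : 2 ^ 1 ≤ 2 ^ (n % m) := Nat.pow_le_pow_right (by norm_num) (by omega)
      omega
    exact Nat.dvd_of_mod_eq_zero h3
  obtain ⟨k, rfl⟩ := hmn
  have hP : Nat.card P = Nat.card (center P) ^ k := by rw [hn, hm, pow_mul]
  have hq2 : 1 < Nat.card (center P) := by
    rw [hm]
    exact Nat.one_lt_two_pow (by omega)
  have hk3 : k ≤ 3 := by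
    have h1 : Nat.card (center P) ^ k ≤ Nat.card (center P) ^ 3 := by
      calc Nat.card (center P) ^ k = Nat.card (P ⧸ center P) * Nat.card (center P) := by
            rw [← hP, hmul]
        _ ≤ Nat.card (center P) ^ 2 * Nat.card (center P) := Nat.mul_le_mul_right _ hV
        _ = Nat.card (center P) ^ 3 := by ring
    exact (Nat.pow_le_pow_iff_right hq2).1 h1
  have hk2 : 2 ≤ k := by
    by_contra h
    have hk : k = 0 ∨ k = 1 := by omega
    rcases hk with rfl | rfl
    · rw [pow_zero] at hP
      have hsub : Subsingleton P := (Nat.card_eq_one_iff_unique.1 hP).1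
      exact hgh (Subsingleton.elim _ _)
    · rw [pow_one] at hP
      have htop : center P = ⊤ := (Subgroup.card_eq_iff_eq_top _).1 hP.symm
      have hg : g₀ ∈ center P := by rw [htop]; exact mem_top _
      exact hgh (mem_center_iff.1 hg h₀).symm
  have hk : k = 2 ∨ k = 3 := by omega
  rcases hk with rfl | rfl
  · exact Or.inl hP
  · exact Or.inr hP

theorem exponent_eq (B : Base P) (hsq : ∀ x : P, x * x ∈ center P) : Monoid.exponent P = 4 := by
  haveI : Fact (Nat.Prime 2) := ⟨Nat.prime_two⟩
  have h4 : ∀ x : P, x ^ 4 = 1 := by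
    intro x
    have h1 := B.hZexp _ (hsq x)
    rw [← h1]
    simp only [pow_succ, pow_zero, one_mul, mul_assoc]
  have hd : Monoid.exponent P ∣ 4 := Monoid.exponent_dvd_of_forall_pow_eq_one h4
  obtain ⟨g, h, hgh⟩ := B.hnc
  have hg : g * g ≠ 1 := by
    intro h1
    have h2 := B.hinv g h1
    exact hgh (mem_center_iff.1 h2 h).symm
  have ho : orderOf g = 2 ^ (1 + 1) := by
    apply orderOf_eq_prime_pow
    · rw [pow_one, pow_two]; exact hg
    · exact h4 g
  have h5 : 4 ∣ Monoid.exponent P := by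
    have h6 := Monoid.order_dvd_exponent g
    rw [ho] at h6
    exact h6
  exact Nat.dvd_antisymm hd h5

theorem comm_form (hcm : ∀ x y : P, ⁅x, y⁆ ∈ center P) (x y : P) :
    x⁻¹ * y⁻¹ * x * y ∈ center P := by
  have h : x⁻¹ * y⁻¹ * x * y = ⁅x⁻¹, y⁻¹⁆ := by
    rw [commutatorElement_def, inv_inv, inv_inv]
  rw [h]
  exact hcm _ _

end Cfsg.Agent.Lib.Helper68.HigFinal
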