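import Mathlib

/-!
# K-LC-A2bis (keystone 640607, S0406, architect helper94; parallel hand): a self-orthogonal binary code of
length 24 and dimension 12 is self-dual
-/

set_option autoImplicit false
open Matrix

namespace Cfsg.Agent.Lib.Helper68.LC

/-- **LEAF A2bis (640607).** -/
theorem mem_of_orth (C : Submodule (ZMod 2) (Fin 24 → ZMod 2)) (hdim : Module.finrank (ZMod 2) C = 12)
    (horth : ∀ v ∈ C, ∀ w ∈ C, ∑ i, v i * w i = 0) (c : Fin 24 → ZMod 2)
    (hc : ∀ w ∈ C, ∑ i, c i * w i = 0) : c ∈ C := by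
  have : Fact (Nat.Prime 2) := ⟨Nat.prime_two⟩
  let B : LinearMap.BilinForm (ZMod 2) (Fin 24 → ZMod 2) :=
    Matrix.toBilin' (1 : Matrix (Fin 24) (Fin 24) (ZMod 2))
  have hBapp : ∀ v w : Fin 24 → ZMod 2, B v w = ∑ i, v i * w i := by
    intro v w
    show Matrix.toBilin' (1 : Matrix (Fin 24) (Fin 24) (ZMod 2)) v w = _
    rw [Matrix.toBilin'_apply', Matrix.one_mulVec]
    rfl
  have hBnd : B.Nondegenerate :=
    LinearMap.BilinForm.nondegenerate_toBilin'_of_det_ne_zero' _
      (by rw [Matrix.det_one]; exact one_ne_zero)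
  have hle : C ≤ B.orthogonal C := by
    intro v hv
    rw [LinearMap.BilinForm.mem_orthogonal_iff]
    intro w hw
    show B w v = 0
    rw [hBapp]
    exact horth w hw v hv
  have hfr : Module.finrank (ZMod 2) (B.orthogonal C) = 12 := by
    rw [LinearMap.BilinForm.finrank_orthogonal hBnd, hdim, Module.finrank_fintype_fun_eq_card,
      Fintype.card_fin]
  have heq : C = B.orthogonal C :=
    Submodule.eq_of_le_of_finrank_eq hle (by rw [hdim, hfr])
  rw [heq, LinearMap.BilinForm.mem_orthogonal_iff]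
  intro w hw
  show B w c = 0
  rw [hBapp, ← hc w hw]
  apply Finset.sum_congr rfl
  intro i _
  exact mul_comm _ _

end Cfsg.Agent.Lib.Helper68.LC
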