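import Cfsg.Agent.Lib.Helper68.LCA8bCore
import Cfsg.Agent.Lib.Helper68.LCA2bis
import Cfsg.Agent.Lib.Helper54.LCA1

/-!
# K-LC-A8b (keystone 640616, S0406, architect helper94): odd vectors of `L` are in `StdLeech (codeOf L)`,
exact spec signature
-/

set_option autoImplicit false
open Matrix

namespace Cfsg.Agent.Lib.Helper68.LC

open Cfsg.Agent.Lib.Helper94.LC

variable (L : AddSubgroup (Fin 24 → ℤ))

/-- **LEAF A8b (640616).** -/
theorem std_of_mem_odd (hL : CoordLattice L) (hG : IsGolayType (codeOf L)) (ε : Fin 24 → ℤ)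
    (hε : ∀ i, ε i = 1 ∨ ε i = -1)
    (hsum : ∀ v ∈ L, (∀ i, (2 : ℤ) ∣ v i) → (8 : ℤ) ∣ ∑ i, ε i * v i)
    (x : Fin 24 → ℤ) (hx : x ∈ L) (hodd : ∀ i, ¬ (2 : ℤ) ∣ x i) :
    (fun i => ε i * x i) ∈ StdLeech (codeOf L) :=
  std_of_mem_odd_of hL hG
    (fun w hw => Cfsg.Agent.Lib.Helper54.LC.exists_pm_lift L hL w hw)
    (fun c hc => mem_of_orth (codeOf L) hG.hdim hG.horth c hc)
    ε hε hsum x hx hodd

end Cfsg.Agent.Lib.Helper68.LC
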