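import Cfsg.Agent.Lib.Helper94.LCDefs

/-!
# K-LC-A8b core (keystone 640616, S0406, architect helper94): odd vectors of `L` are in `StdLeech (codeOf L)`

`std_of_mem_odd_of` takes LEAF A1 (`exists_pm_lift`) and LEAF A2bis (`mem_of_orth`) as hypotheses `hLift`, `hOrth`;
LEAF A0(2) (`eight_dvd_dot`) is proved here (`eight_dvd_dot'`).
-/

set_option autoImplicit false
open Matrix

namespace Cfsg.Agent.Lib.Helper68.LC

open Cfsg.Agent.Lib.Helper94.LC

/-- LEAF A0(2): polarisation of `16 ∣ ssq`. -/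
theorem eight_dvd_dot' {L : AddSubgroup (Fin 24 → ℤ)} (hL : CoordLattice L) (x v : Fin 24 → ℤ)
    (hx : x ∈ L) (hv : v ∈ L) : (8 : ℤ) ∣ ∑ i, x i * v i := by
  have h1 := hL.h16 x hx
  have h2 := hL.h16 v hv
  have h3 := hL.h16 (x + v) (L.add_mem hx hv)
  have h4 : ssq (x + v) = ssq x + ssq v + 2 * ∑ i, x i * v i := by
    unfold ssq
    rw [Finset.mul_sum, ← Finset.sum_add_distrib, ← Finset.sum_add_distrib]
    apply Finset.sum_congr rfl
    intro i _
    simp only [Pi.add_apply]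
    ring
  rw [h4] at h3
  omega

/-- the arithmetic of one coordinate, modulo 8 -/
theorem aux_coord (e yy cc zz wz : ℤ) (he : e = 1 ∨ e = -1) (hc : cc = 0 ∨ cc = 1)
    (hy : (yy = 0 ∧ wz = 0) ∨ ((yy = 1 ∨ yy = -1) ∧ wz = 1)) :
    (e * (1 + 2 * cc + 4 * zz)) * (2 * yy) ≡ e * (2 * yy) + 4 * (cc * wz) [ZMOD 8] := by
  unfold Int.ModEq
  rcases he with rfl | rfl <;> rcases hc with rfl | rfl <;>
    rcases hy with ⟨rfl, rfl⟩ | ⟨rfl | rfl, rfl⟩ <;> ring_nf <;> omega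

/-- the square of one coordinate, modulo 16 -/
theorem aux_sq (cc zz : ℤ) (hc : cc = 0 ∨ cc = 1) :
    (1 + 2 * cc + 4 * zz) ^ 2 ≡ 1 + 8 * cc + 8 * zz [ZMOD 16] := by
  rcases hc with rfl | rfl
  · have h : (1 + 2 * 0 + 4 * zz) ^ 2 = 1 + 8 * 0 + 8 * zz + 16 * (zz ^ 2) := by ring
    rw [h]
    unfold Int.ModEq
    omega
  · have h : (1 + 2 * 1 + 4 * zz) ^ 2 = 1 + 8 * 1 + 8 * zz + 16 * (zz + zz ^ 2) := by ring
    rw [h]
    unfold Int.ModEq
    omega

theorem zmod2_cases (a : ZMod 2) : a = 0 ∨ a = 1 := by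
  revert a
  decide

/-- **core of LEAF A8b.** -/
theorem std_of_mem_odd_of {L : AddSubgroup (Fin 24 → ℤ)} (hL : CoordLattice L)
    (hG : IsGolayType (codeOf L))
    (hLift : ∀ w ∈ codeOf L, ∃ y : Fin 24 → ℤ, (fun i => 2 * y i) ∈ L ∧ (∀ i, w i = 0 → y i = 0) ∧
      (∀ i, w i ≠ 0 → y i = 1 ∨ y i = -1))
    (hOrth : ∀ c : Fin 24 → ZMod 2, (∀ w ∈ codeOf L, ∑ i, c i * w i = 0) → c ∈ codeOf L)
    (ε : Fin 24 → ℤ) (hε : ∀ i, ε i = 1 ∨ ε i = -1)
    (hsum : ∀ v ∈ L, (∀ i, (2 : ℤ) ∣ v i) → (8 : ℤ) ∣ ∑ i, ε i * v i)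
    (x : Fin 24 → ℤ) (hx : x ∈ L) (hodd : ∀ i, ¬ (2 : ℤ) ∣ x i) :
    (fun i => ε i * x i) ∈ StdLeech (codeOf L) := by
  classical
  have hεsq : ∀ i, ε i * ε i = 1 := by
    intro i
    rcases hε i with h | h <;> rw [h] <;> norm_num
  -- the coordinates `X i = ε i * x i = 1 + 2 cz i + 4 z i`
  have hXodd : ∀ i, (ε i * x i) % 2 = 1 := by
    intro i
    have h1 := hodd i
    rcases hε i with h | h
    · rw [h, one_mul]
      omega
    · rw [h]
      omega
  let cz : Fin 24 → ℤ := fun i => if (ε i * x i) % 4 = 3 then 1 else 0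
  let z : Fin 24 → ℤ := fun i => (ε i * x i) / 4
  have hcz : ∀ i, cz i = 0 ∨ cz i = 1 := by
    intro i
    show (if (ε i * x i) % 4 = 3 then (1 : ℤ) else 0) = 0 ∨
      (if (ε i * x i) % 4 = 3 then (1 : ℤ) else 0) = 1
    split_ifs
    · right; rfl
    · left; rfl
  have hF1 : ∀ i, ε i * x i = 1 + 2 * cz i + 4 * z i := by
    intro i
    have h1 := hXodd i
    show ε i * x i = 1 + 2 * (if (ε i * x i) % 4 = 3 then (1 : ℤ) else 0) + 4 * ((ε i * x i) / 4)
    split_ifs with h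
    · omega
    · omega
  have hxi : ∀ i, x i = ε i * (1 + 2 * cz i + 4 * z i) := by
    intro i
    rw [← hF1, ← mul_assoc, hεsq, one_mul]
  let c : Fin 24 → ZMod 2 := fun i => ((cz i : ℤ) : ZMod 2)
  have hcval : ∀ i, (((c i).val : ℕ) : ℤ) = cz i := by
    intro i
    show ((((cz i : ℤ) : ZMod 2).val : ℕ) : ℤ) = cz i
    rcases hcz i with h | h
    · rw [h]
      rfl
    · rw [h]
      rfl
  -- (I) `c` is a code word
  have hc : c ∈ codeOf L := by
    apply hOrth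
    intro w hw
    obtain ⟨y, hyL, hy0, hy1⟩ := hLift w hw
    have hD1 : (8 : ℤ) ∣ ∑ i, x i * (2 * y i) := eight_dvd_dot' hL x _ hx hyL
    have hD2 : (8 : ℤ) ∣ ∑ i, ε i * (2 * y i) := hsum _ hyL (fun i => ⟨y i, rfl⟩)
    let wz : Fin 24 → ℤ := fun i => if w i = 0 then 0 else 1
    have hwz : ∀ i, w i = ((wz i : ℤ) : ZMod 2) := by
      intro i
      show w i = (((if w i = 0 then (0 : ℤ) else 1) : ℤ) : ZMod 2)
      split_ifs with h
      · rw [h]
        simp
      · rcases zmod2_cases (w i) with h' | h'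
        · exact absurd h' h
        · rw [h']
          simp
    have hcoord : ∀ i ∈ (Finset.univ : Finset (Fin 24)),
        x i * (2 * y i) ≡ ε i * (2 * y i) + 4 * (cz i * wz i) [ZMOD 8] := by
      intro i _
      rw [hxi i]
      apply aux_coord _ _ _ _ _ (hε i) (hcz i)
      show (y i = 0 ∧ (if w i = 0 then (0 : ℤ) else 1) = 0) ∨
        ((y i = 1 ∨ y i = -1) ∧ (if w i = 0 then (0 : ℤ) else 1) = 1)
      split_ifs with h
      · left
        exact ⟨hy0 i h, rfl⟩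
      · right
        exact ⟨hy1 i h, rfl⟩
    have hS := Int.ModEq.sum hcoord
    rw [Finset.sum_add_distrib, ← Finset.mul_sum] at hS
    have h2 : (2 : ℤ) ∣ ∑ i, cz i * wz i := by
      unfold Int.ModEq at hS
      omega
    have h3 : ∑ i, c i * w i = (((∑ i, cz i * wz i : ℤ)) : ZMod 2) := by
      rw [Int.cast_sum]
      apply Finset.sum_congr rfl
      intro i _
      rw [Int.cast_mul, ← hwz i]
    rw [h3]
    exact (ZMod.intCast_zmod_eq_zero_iff_dvd _ 2).2 (by exact_mod_cast h2)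
  -- (II) membership
  refine ⟨1, c, hc, ?_, ?_⟩
  · intro i
    show ε i * x i ≡ 1 + 2 * (((c i).val : ℕ) : ℤ) [ZMOD 4]
    rw [hcval, hF1 i]
    unfold Int.ModEq
    omega
  · show ∑ i, ε i * x i ≡ 4 * 1 [ZMOD 8]
    -- the sum of the squares
    have h16 := hL.h16 x hx
    have hssq : ssq x = ∑ i, (1 + 2 * cz i + 4 * z i) ^ 2 := by
      unfold ssq
      apply Finset.sum_congr rfl
      intro i _
      rw [← hF1 i, mul_pow, pow_two (ε i), hεsq, one_mul]
    have hsq : ∑ i, (1 + 2 * cz i + 4 * z i) ^ 2 ≡ ∑ i, (1 + 8 * cz i + 8 * z i) [ZMOD 16] :=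
      Int.ModEq.sum (fun i _ => aux_sq (cz i) (z i) (hcz i))
    have hsumA : ∑ i : Fin 24, (1 + 8 * cz i + 8 * z i) = 24 + 8 * ∑ i, cz i + 8 * ∑ i, z i := by
      rw [Finset.sum_add_distrib, Finset.sum_add_distrib, ← Finset.mul_sum, ← Finset.mul_sum,
        Finset.sum_const, Finset.card_univ, Fintype.card_fin]
      norm_num
    have hsumX : ∑ i, ε i * x i = 24 + 2 * ∑ i, cz i + 4 * ∑ i, z i := by
      have h1 : ∑ i, ε i * x i = ∑ i : Fin 24, (1 + 2 * cz i + 4 * z i) :=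
        Finset.sum_congr rfl (fun i _ => hF1 i)
      rw [h1, Finset.sum_add_distrib, Finset.sum_add_distrib, ← Finset.mul_sum, ← Finset.mul_sum,
        Finset.sum_const, Finset.card_univ, Fintype.card_fin]
      norm_num
    -- the weight of `c`
    have hwt : ((hammingNorm c : ℕ) : ℤ) = ∑ i, cz i := by
      unfold hammingNorm
      rw [Finset.card_filter, Nat.cast_sum]
      apply Finset.sum_congr rfl
      intro i _
      show (((if ((cz i : ℤ) : ZMod 2) ≠ 0 then 1 else 0 : ℕ)) : ℤ) = cz i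
      rcases hcz i with h | h
      · rw [h]
        simp
      · rw [h]
        simp
    have h4 : (4 : ℤ) ∣ ∑ i, cz i := by
      rw [← hwt]
      exact_mod_cast hG.h4 c hc
    rw [hssq] at h16
    rw [hsumA] at hsq
    rw [hsumX]
    unfold Int.ModEq at hsq ⊢
    omega

end Cfsg.Agent.Lib.Helper68.LC
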