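import Mathlib
import Cfsg.Agent.Lib.Helper68.Conj
import Cfsg.Agent.Lib.Helper68.Soft
import Cfsg.Agent.Lib.Helper32.CoprimeDecomp
import Cfsg.Agent.Lib.Helper32.Class2

set_option autoImplicit false

namespace Cfsg.Agent.Lib.Helper68

open scoped commutatorElement

/-- subgroups of every intermediate order between `R` and a `p`-subgroup `P` -/
theorem exists_subgroup_between {X : Type*} [Group X] [Finite X] {p : ℕ} [Fact p.Prime]
    {P : Subgroup X} (hP : IsPGroup p P) {R : Subgroup X} (hR : R ≤ P) (m : ℕ)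
    (hm1 : Nat.card R ≤ p ^ m) (hm2 : p ^ m ≤ Nat.card P) :
    ∃ F : Subgroup X, R ≤ F ∧ F ≤ P ∧ Nat.card F = p ^ m := by
  have hp : p.Prime := Fact.out
  obtain ⟨n, hn⟩ := hP.exists_card_eq
  have hRp : IsPGroup p R := hP.to_le hR
  obtain ⟨k, hk⟩ := hRp.exists_card_eq
  have hkm : k ≤ m := by
    rw [hk] at hm1
    exact (Nat.pow_le_pow_iff_right hp.one_lt).1 hm1
  have hmn : m ≤ n := by
    rw [hn] at hm2
    exact (Nat.pow_le_pow_iff_right hp.one_lt).1 hm2
  have hdvd : p ^ m ∣ Nat.card ↥P := by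
    rw [hn]; exact pow_dvd_pow p hmn
  have hcardR : Nat.card (R.subgroupOf P) = p ^ k := by
    rw [← hk]
    exact Nat.card_congr (Subgroup.subgroupOfEquivOfLe hR).toEquiv
  obtain ⟨K, hK, hRK⟩ := Sylow.exists_subgroup_card_pow_prime_le p hdvd (R.subgroupOf P) hcardR hkm
  refine ⟨K.map P.subtype, ?_, Subgroup.map_subtype_le K, ?_⟩
  · intro r hr
    exact ⟨⟨r, hR hr⟩, hRK (Subgroup.mem_subgroupOf.2 hr), rfl⟩
  · rw [← hK]
    exact Nat.card_congr (K.equivMapOfInjective P.subtype P.subtype_injective).toEquiv.symm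

/-- a `2`-group on which an odd-order group acts so that all proper invariant subgroups and all
elements of order dividing `4` are centralized, is centralized -/
theorem le_centralizer_of_critical {X : Type*} [Group X] [Finite X] (P A : Subgroup X)
    (hP : IsPGroup 2 P) (hA : Odd (Nat.card A)) (hAP : A ≤ Subgroup.normalizer (P : Set X))
    (hstar : ∀ R : Subgroup X, R ≤ P → R ≠ P → A ≤ Subgroup.normalizer (R : Set X) →
      R ≤ Subgroup.centralizer (A : Set X))
    (h4 : ∀ x ∈ P, x ^ 4 = 1 → x ∈ Subgroup.centralizer (A : Set X)) :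
    P ≤ Subgroup.centralizer (A : Set X) := by
  have hcop : (Nat.card P).Coprime (Nat.card A) := by
    obtain ⟨n, hn⟩ := hP.exists_card_eq
    rw [hn]
    exact Nat.Coprime.pow_left _ (Nat.coprime_two_left.2 hA)
  haveI : Group.IsNilpotent ↥P := hP.isNilpotent
  have hdecomp := Cfsg.Agent.Lib.Helper32.le_centralizer_sup_commutator hAP hcop (Or.inl inferInstance)
  have hKP : ⁅P, A⁆ ≤ P := Subgroup.le_normalizer_iff_commutator_le_left.1 hAP
  have hAK : A ≤ Subgroup.normalizer ((⁅P, A⁆ : Subgroup X) : Set X) :=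
    Subgroup.normalizer_commutator_ge_right P A
  suffices hKC : ⁅P, A⁆ ≤ Subgroup.centralizer (A : Set X) from
    hdecomp.trans (sup_le inf_le_right hKC)
  by_cases hK : ⁅P, A⁆ = P
  swap
  · exact hstar _ hKP hK hAK
  by_cases hPbot : P = ⊥
  · rw [hK, hPbot]; exact bot_le
  -- the subgroup generated by squares
  set S := Subgroup.closure {z : X | ∃ x ∈ P, z = x ^ 2} with hS
  have hSP : S ≤ P := by
    rw [hS, Subgroup.closure_le]
    rintro _ ⟨x, hx, rfl⟩
    exact P.pow_mem hx 2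
  have hsq : ∀ x ∈ P, x ^ 2 ∈ S := fun x hx => Subgroup.subset_closure ⟨x, hx, rfl⟩
  have hSne : S ≠ P := by
    obtain ⟨n, hn⟩ := hP.exists_card_eq
    have hn0 : n ≠ 0 := by
      rintro rfl
      apply hPbot
      rw [pow_zero] at hn
      exact Subgroup.card_eq_one.1 hn
    obtain ⟨M, _, hMP, hMc⟩ := exists_subgroup_between hP (bot_le : (⊥ : Subgroup X) ≤ P) (n - 1)
      (by rw [Subgroup.card_bot]; exact Nat.one_le_two_pow)
      (by rw [hn]; exact Nat.pow_le_pow_right (by norm_num) (by omega))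
    have hidx : (M.subgroupOf P).index = 2 := by
      have h1 := Subgroup.card_mul_index (M.subgroupOf P)
      rw [Nat.card_congr (Subgroup.subgroupOfEquivOfLe hMP).toEquiv, hMc, hn] at h1
      have h2 : 2 ^ n = 2 ^ (n - 1) * 2 := by
        rw [← pow_succ]; congr 1; omega
      rw [h2] at h1
      exact Nat.eq_of_mul_eq_mul_left (by positivity) h1
    have hSM : S ≤ M := by
      rw [hS, Subgroup.closure_le]
      rintro _ ⟨x, hx, rfl⟩
      have := Subgroup.sq_mem_of_index_two hidx ⟨x, hx⟩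
      exact Subgroup.mem_subgroupOf.1 this
    intro h
    rw [h] at hSM
    have : M = P := le_antisymm hMP hSM
    rw [this, hn] at hMc
    have : n = n - 1 := Nat.pow_right_injective (le_refl 2) hMc
    omega
  have hnorm : ∀ B : Subgroup X, B ≤ Subgroup.normalizer (P : Set X) →
      B ≤ Subgroup.normalizer (S : Set X) := by
    intro B hB
    rw [hS, Subgroup.le_normalizer_closure_iff]
    rintro b hb _ ⟨x, hx, rfl⟩
    apply Subgroup.subset_closure
    refine ⟨b * x * b⁻¹, ((Subgroup.mem_normalizer_iff.1 (hB hb)) x).1 hx, ?_⟩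
    rw [conj_pow]
  have hAS : A ≤ Subgroup.normalizer (S : Set X) := hnorm A hAP
  have hPS : P ≤ Subgroup.normalizer (S : Set X) := hnorm P Subgroup.le_normalizer
  have hSC : S ≤ Subgroup.centralizer (A : Set X) := hstar S hSP hSne hAS
  -- three subgroups lemma: `S` is central in `P`
  have hPcS : P ≤ Subgroup.centralizer (S : Set X) := by
    rw [← Subgroup.commutator_eq_bot_iff_le_centralizer]
    have h1 : ⁅⁅P, S⁆, A⁆ = ⊥ := by
      rw [eq_bot_iff]
      have h3 : ⁅P, S⁆ ≤ S := by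
        rw [Subgroup.commutator_comm]
        exact Subgroup.le_normalizer_iff_commutator_le_left.1 hPS
      calc ⁅⁅P, S⁆, A⁆ ≤ ⁅S, A⁆ := Subgroup.commutator_mono h3 le_rfl
        _ = ⊥ := Subgroup.commutator_eq_bot_iff_le_centralizer.2 hSC
    have h2 : ⁅⁅S, A⁆, P⁆ = ⊥ := by
      rw [Subgroup.commutator_eq_bot_iff_le_centralizer.2 hSC, Subgroup.commutator_bot_left]
    have h3 := Subgroup.commutator_commutator_eq_bot_of_rotate h1 h2
    rwa [Subgroup.commutator_comm A P, hK] at h3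
  have hcomm : ∀ s ∈ S, ∀ x ∈ P, Commute s x := by
    intro s hs x hx
    exact (Subgroup.mem_centralizer_iff.1 (hPcS hx) s hs)
  -- commutators of elements of `P` lie in `S`
  have hcS : ∀ x ∈ P, ∀ y ∈ P, ⁅x, y⁆ ∈ S := by
    intro x hx y hy
    have h1 : ⁅x, y⁆ = x ^ 2 * (x⁻¹ * y) ^ 2 * (y⁻¹) ^ 2 := by
      rw [commutatorElement_def, pow_two, pow_two, pow_two]; group
    rw [h1]
    exact S.mul_mem (S.mul_mem (hsq x hx) (hsq _ (P.mul_mem (P.inv_mem hx) hy)))
      (hsq _ (P.inv_mem hy))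
  -- generators of `⁅P, A⁆` have fourth power one
  rw [Subgroup.commutator_le]
  intro x hx a ha
  have hy : a * x⁻¹ * a⁻¹ ∈ P := ((Subgroup.mem_normalizer_iff.1 (hAP ha)) x⁻¹).1 (P.inv_mem hx)
  have hg : ⁅x, a⁆ = x * (a * x⁻¹ * a⁻¹) := by rw [commutatorElement_def]; group
  rw [hg]
  apply h4 _ (P.mul_mem hx hy)
  set y := a * x⁻¹ * a⁻¹ with hydef
  have hc := hcS y hy x hx
  have hzu : Commute ⁅y, x⁆ x := hcomm _ hc x hx
  have hzv : Commute ⁅y, x⁆ y := hcomm _ hc y hy
  rw [Cfsg.Agent.Lib.Helper32.mul_pow_of_central x y hzu hzv 4]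
  have hc2 : ⁅y, x⁆ ^ 2 = 1 := by
    rw [← Cfsg.Agent.Lib.Helper32.commutator_pow_left_of_central x y hzv 2,
      commutatorElement_eq_one_iff_commute]
    exact hcomm _ (hsq y hy) x hx
  have hc6 : ⁅y, x⁆ ^ (4 * (4 - 1) / 2) = 1 := by
    have : 4 * (4 - 1) / 2 = 2 * 3 := by norm_num
    rw [this, pow_mul, hc2, one_pow]
  rw [hc6, mul_one]
  have hx4 : x ^ 4 ∈ S := by
    have : x ^ 4 = (x ^ 2) ^ 2 := by rw [← pow_mul]
    rw [this]
    exact S.pow_mem (hsq x hx) 2
  have hy4 : y ^ 4 = (x ^ 4)⁻¹ := by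
    rw [hydef, conj_pow, inv_pow]
    have h5 := Subgroup.mem_centralizer_iff.1 (hSC (S.inv_mem hx4)) a ha
    rw [mul_inv_eq_iff_eq_mul]
    exact h5
  rw [hy4, mul_inv_cancel]

end Cfsg.Agent.Lib.Helper68
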