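import Mathlib
import Cfsg.Agent.Lib.Helper68.MetaSub
import Cfsg.Agent.Lib.Helper68.OddAct

/-! Chermak–Delgado measure in metacyclic `p`-groups: `|R| |C_G(R)| = |G| |Z(G)|` for `R ≥ Z(G)`. -/

namespace Cfsg.Agent.Lib.Helper68
namespace MC

open Subgroup
open scoped commutatorElement

theorem centralizer_sup_eq {G : Type*} [Group G] (A B : Subgroup G) :
    centralizer ((A ⊔ B : Subgroup G) : Set G) = centralizer (A : Set G) ⊓ centralizer (B : Set G) := by
  apply le_antisymm
  · exact le_inf (centralizer_le (SetLike.coe_subset_coe.mpr le_sup_left))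
      (centralizer_le (SetLike.coe_subset_coe.mpr le_sup_right))
  · rintro c ⟨hcA, hcB⟩
    have h1 : A ⊔ B ≤ centralizer ({c} : Set G) := by
      apply sup_le
      · intro x hx
        rw [mem_centralizer_singleton]
        exact (mem_centralizer_iff.mp hcA x hx)
      · intro x hx
        rw [mem_centralizer_singleton]
        exact (mem_centralizer_iff.mp hcB x hx)
    rw [mem_centralizer_iff]
    intro y hy
    exact mem_centralizer_singleton.mp (h1 hy)

theorem centralizer_sup_zpowers {G : Type*} [Group G] (A : Subgroup G) (x : G) :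
    centralizer ((A ⊔ zpowers x : Subgroup G) : Set G) =
      centralizer (A : Set G) ⊓ centralizer ({x} : Set G) := by
  rw [centralizer_sup_eq]
  congr 1
  apply le_antisymm
  · intro c hc
    rw [mem_centralizer_singleton]
    exact (mem_centralizer_iff.mp hc x (mem_zpowers x)).symm
  · intro c hc
    rw [mem_centralizer_singleton] at hc
    rw [mem_centralizer_iff]
    intro y hy
    obtain ⟨k, rfl⟩ := mem_zpowers_iff.mp hy
    have : Commute c x := hc
    exact (this.zpow_right k).eq.symm

namespace Data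

variable {p : ℕ} [hp : Fact p.Prime] {G : Type*} [Group G] [Finite G]

omit [Finite G] in
/-- regular-type property: if `x ^ p` commutes with `c` then `[c, x] ^ p = 1`. -/
theorem comm_pow_eq_one (D : Data p G) (hodd : Odd p) (x c : G) (h : Commute (x ^ p) c) :
    (c * x * c⁻¹ * x⁻¹) ^ p = 1 := by
  obtain ⟨i, j, rfl⟩ := D.hgen x
  obtain ⟨i', j', rfl⟩ := D.hgen c
  have hR1 : 1 ≤ D.r ^ j := Nat.one_le_pow _ _ D.one_le_r
  have hRp : p ∣ D.r ^ j - 1 := dvd_pow_sub_one D.hrp D.one_le_r j
  set S := gs (D.r ^ j) p with hS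
  have hv : padicValNat p S = 1 := by
    rw [hS, padicValNat_gs hodd hR1 hRp hp.out.ne_zero, padicValNat_self]
  have hS0 : S ≠ 0 := gs_ne_zero hR1 hp.out.ne_zero
  obtain ⟨σ, hσ⟩ : p ∣ S := dvd_of_one_le_padicValNat (by omega)
  have hσp : ¬ p ∣ σ := by
    intro hd
    have h2 : p ^ 2 ∣ S := by
      rw [hσ, sq]; exact Nat.mul_dvd_mul_left _ hd
    rw [padicValNat_dvd_iff_le hS0] at h2
    omega
  rw [pow_formula D.hconj, commute_iff D.hconj D.one_le_r] at h
  have e1 : D.r ^ (j * p) - 1 = S * (D.r ^ j - 1) := by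
    rw [pow_mul, pow_sub_one_eq _ _ hR1]
  rw [e1, pow_eq_pow_iff_modEq, D.ha] at h
  have h3 : σ * (p * (i' * (D.r ^ j - 1))) ≡ σ * (p * (i * (D.r ^ j' - 1))) [MOD p ^ D.m] := by
    have a1 : σ * (p * (i' * (D.r ^ j - 1))) = i' * (S * (D.r ^ j - 1)) := by rw [hσ]; ring
    have a2 : σ * (p * (i * (D.r ^ j' - 1))) = i * S * (D.r ^ j' - 1) := by rw [hσ]; ring
    rw [a1, a2]; exact h
  have hcop : Nat.gcd (p ^ D.m) σ = 1 :=
    Nat.Coprime.pow_left _ ((Nat.Prime.coprime_iff_not_dvd hp.out).mpr hσp)
  have h4 := Nat.ModEq.cancel_left_of_coprime hcop h3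
  rw [← D.ha, ← pow_eq_pow_iff_modEq] at h4
  rw [comm_formula D.hconj D.one_le_r]
  have hc : Commute (D.a ^ (i * (D.r ^ j' - 1))) (D.a ^ (i' * (D.r ^ j - 1)))⁻¹ :=
    ((Commute.refl D.a).pow_pow _ _).inv_right
  rw [hc.mul_pow, inv_pow, ← pow_mul, ← pow_mul, mul_comm _ p, mul_comm _ p, h4, mul_inv_cancel]

/-- the elements of order dividing `p` in `G'` -/
theorem exists_omega (D : Data p G) (hodd : Odd p) :
    ∃ Ω : Subgroup G, Nat.card Ω ≤ p ∧ ∀ x c : G, Commute (x ^ p) c → c * x * c⁻¹ * x⁻¹ ∈ Ω := by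
  refine ⟨zpowers ((D.a ^ (D.r - 1)) ^ p ^ (D.n - 1)), ?_, ?_⟩
  · rw [card_zpowers_pow_of_le D.hn (Nat.sub_le _ _)]
    calc p ^ (D.n - (D.n - 1)) ≤ p ^ 1 := Nat.pow_le_pow_right hp.out.pos (by omega)
      _ = p := pow_one p
  · intro x c h
    have h1 := D.comm_pow_eq_one hodd x c h
    have h2 : c * x * c⁻¹ * x⁻¹ ∈ commutator G := by
      rw [← commutatorElement_def]
      exact commutator_mem_commutator (mem_top _) (mem_top _)
    rw [D.commutator_eq] at h2
    obtain ⟨k, hk⟩ := exists_nat_pow_of_mem_zpowers h2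
    rw [← hk, ← pow_mul, ← orderOf_dvd_iff_pow_eq_one, D.hn] at h1
    have h3 : p ^ (D.n - 1) ∣ k := by
      rcases Nat.eq_zero_or_pos D.n with h0 | hpos
      · rw [h0]; simp
      · have : p ^ D.n = p ^ (D.n - 1) * p := by rw [← pow_succ]; congr 1; omega
        rw [this] at h1
        exact Nat.dvd_of_mul_dvd_mul_right hp.out.pos h1
    obtain ⟨w, rfl⟩ := h3
    rw [← hk, pow_mul]
    exact Subgroup.pow_mem _ (mem_zpowers _) _

/-- one step of the chain -/
theorem measure_step (D : Data p G) (hodd : Odd p) {R R₁ : Subgroup G} (hle : R ≤ R₁)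
    (hcard : Nat.card R₁ = p * Nat.card R) :
    Nat.card R * Nat.card (centralizer (R : Set G)) ≤
      Nat.card R₁ * Nat.card (centralizer (R₁ : Set G)) := by
  -- normality of R in R₁
  have hrel : R.relIndex R₁ = p := by
    have h1 := relIndex_mul_relIndex (H := ⊥) (K := R) (L := R₁) bot_le hle
    rw [relIndex_bot_left, relIndex_bot_left, hcard, mul_comm] at h1
    exact Nat.eq_of_mul_eq_mul_right Nat.card_pos h1
  have hnorm : (R.subgroupOf R₁).Normal := by
    apply normal_of_index_eq_minFac_card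
    have h2 : Nat.card R₁ = p ^ ((Nat.card R).factorization p + 1) := by
      obtain ⟨c, hc⟩ := IsPGroup.iff_card.mp (IsPGroup.of_card (n := D.m + (D.exists_e hodd).choose)
        (D.card_eq (D.exists_e hodd).choose_spec.1) : IsPGroup p G)
      obtain ⟨c', hc'⟩ := IsPGroup.iff_card.mp ((IsPGroup.of_card (n := D.m + (D.exists_e hodd).choose)
        (D.card_eq (D.exists_e hodd).choose_spec.1) : IsPGroup p G).to_subgroup R)
      rw [hcard, hc', Nat.Prime.factorization_pow hp.out]
      simp [pow_succ, mul_comm]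
    show R.relIndex R₁ = _
    rw [hrel, h2, Nat.Prime.pow_minFac hp.out (by omega)]
  -- choose x
  have hne : ¬ R₁ ≤ R := by
    intro h
    have : Nat.card R₁ ≤ Nat.card R := card_le_of_le h
    rw [hcard] at this
    have h1 := hp.out.one_lt
    have h2 : 0 < Nat.card R := Nat.card_pos
    nlinarith
  obtain ⟨x, hx1, hx⟩ := SetLike.not_le_iff_exists.mp hne
  have hxp : x ^ p ∈ R := by
    have := pow_index_mem (R.subgroupOf R₁) (⟨x, hx1⟩ : R₁)
    rw [show (R.subgroupOf R₁).index = R.relIndex R₁ from rfl, hrel, mem_subgroupOf] at this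
    simpa using this
  have hsup : R ⊔ zpowers x = R₁ := by
    have hle2 : R ⊔ zpowers x ≤ R₁ := sup_le hle (zpowers_le.mpr hx1)
    apply eq_of_le_of_card_ge hle2
    have hlt : R < R ⊔ zpowers x := by
      refine lt_of_le_of_ne le_sup_left ?_
      intro h
      apply hx
      rw [h]
      exact le_sup_right (a := R) (mem_zpowers x)
    have hd1 : Nat.card R ∣ Nat.card ↥(R ⊔ zpowers x) := card_dvd_of_le le_sup_left
    have hd2 : Nat.card ↥(R ⊔ zpowers x) ∣ p * Nat.card R := by
      rw [← hcard]; exact card_dvd_of_le hle2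
    obtain ⟨k, hk⟩ := hd1
    rw [hk, mul_comm] at hd2
    have hk' : k ∣ p := Nat.dvd_of_mul_dvd_mul_right Nat.card_pos hd2
    have hk1 : k ≠ 1 := by
      intro h1
      rw [h1, mul_one] at hk
      exact absurd (eq_of_le_of_card_ge le_sup_left hk.le) hlt.ne
    rcases (Nat.dvd_prime hp.out).mp hk' with h | h
    · exact absurd h hk1
    · rw [hcard, hk, h, mul_comm]
  obtain ⟨Ω, hΩ, hΩmem⟩ := D.exists_omega hodd
  have hstep : (centralizer ({x} : Set G)).relIndex (centralizer (R : Set G)) ≤ p := by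
    refine le_trans (relIndex_centralizer_le _ Ω x ?_) hΩ
    intro c hc
    apply hΩmem
    exact ((mem_centralizer_iff.mp hc) _ hxp)
  have hC : centralizer (R₁ : Set G) = centralizer (R : Set G) ⊓ centralizer ({x} : Set G) := by
    rw [← hsup, centralizer_sup_zpowers]
  have h5 := relIndex_mul_relIndex (H := ⊥)
    (K := centralizer (R : Set G) ⊓ centralizer ({x} : Set G)) (L := centralizer (R : Set G))
    bot_le inf_le_left
  rw [relIndex_bot_left, relIndex_bot_left, inf_comm, inf_relIndex_right, inf_comm, ← hC] at h5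
  rw [hcard, ← h5]
  calc Nat.card R * (Nat.card (centralizer (R₁ : Set G)) *
        (centralizer ({x} : Set G)).relIndex (centralizer (R : Set G)))
      ≤ Nat.card R * (Nat.card (centralizer (R₁ : Set G)) * p) :=
        Nat.mul_le_mul_left _ (Nat.mul_le_mul_left _ hstep)
    _ = p * Nat.card R * Nat.card (centralizer (R₁ : Set G)) := by ring

theorem isPGroup (D : Data p G) (hodd : Odd p) : IsPGroup p G := by
  obtain ⟨e, he, -⟩ := D.exists_e hodd
  exact IsPGroup.of_card (D.card_eq he)

theorem measure_mono (D : Data p G) (hodd : Odd p) : ∀ d : ℕ, ∀ R S : Subgroup G, R ≤ S →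
    Nat.card S = p ^ d * Nat.card R →
    Nat.card R * Nat.card (centralizer (R : Set G)) ≤
      Nat.card S * Nat.card (centralizer (S : Set G)) := by
  have hG := D.isPGroup hodd
  intro d
  induction d with
  | zero =>
    intro R S hle hcard
    rw [pow_zero, one_mul] at hcard
    have : R = S := eq_of_le_of_card_ge hle hcard.le
    rw [this]
  | succ d ih =>
    intro R S hle hcard
    obtain ⟨c, hc⟩ := IsPGroup.iff_card.mp (hG.to_subgroup R)
    have hS : Nat.card S = p ^ (d + 1 + c) := by rw [hcard, hc, ← pow_add]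
    obtain ⟨F, hRF, hFS, hF⟩ := exists_subgroup_between (hG.to_subgroup S) hle (c + 1)
      (by rw [hc]; exact Nat.pow_le_pow_right hp.out.pos (by omega))
      (by rw [hS]; exact Nat.pow_le_pow_right hp.out.pos (by omega))
    have h1 : Nat.card F = p * Nat.card R := by rw [hF, hc, pow_succ, mul_comm]
    have h2 : Nat.card S = p ^ d * Nat.card F := by
      rw [hS, hF, ← pow_add]; congr 1; omega
    exact le_trans (D.measure_step hodd hRF h1) (ih F S hFS h2)

theorem measure_le_of_le (D : Data p G) (hodd : Odd p) {R S : Subgroup G} (hle : R ≤ S) :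
    Nat.card R * Nat.card (centralizer (R : Set G)) ≤
      Nat.card S * Nat.card (centralizer (S : Set G)) := by
  have hG := D.isPGroup hodd
  obtain ⟨c, hc⟩ := IsPGroup.iff_card.mp (hG.to_subgroup R)
  obtain ⟨c', hc'⟩ := IsPGroup.iff_card.mp (hG.to_subgroup S)
  have hcc : c ≤ c' := by
    have := card_le_of_le hle
    rw [hc, hc'] at this
    exact (Nat.pow_le_pow_iff_right hp.out.one_lt).mp this
  apply D.measure_mono hodd (c' - c) R S hle
  rw [hc, hc', ← pow_add]; congr 1; omega

theorem measure_eq (D : Data p G) (hodd : Odd p) {R : Subgroup G} (hZ : center G ≤ R) :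
    Nat.card R * Nat.card (centralizer (R : Set G)) = Nat.card G * Nat.card (center G) := by
  apply le_antisymm
  · have h := D.measure_le_of_le hodd (le_top : R ≤ ⊤)
    rw [coe_top, centralizer_univ, card_top] at h
    exact h
  · have h := D.measure_le_of_le hodd hZ
    have h2 : centralizer ((center G : Subgroup G) : Set G) = ⊤ := by
      rw [centralizer_eq_top_iff_subset]
    rw [h2, card_top, mul_comm] at h
    exact h

end Data
end MC
end Cfsg.Agent.Lib.Helper68
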