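import Mathlib
import Cfsg.Agent.Lib.Helper68.MetaSub

/-! Centrally large subgroups of metacyclic `p`-groups: `|R| |Z(R)|`. -/

namespace Cfsg.Agent.Lib.Helper68
namespace MC
namespace Data

open Subgroup

variable {p : ℕ} [hp : Fact p.Prime] {G : Type*} [Group G] [Finite G]

theorem card_mul_card_center_sub (D : Data p G) (hodd : Odd p) (L : Subgroup G)
    (hL : ¬ IsMulCommutative ↥L) :
    Nat.card L * Nat.card (center ↥L) = (commutator G).index ^ 2 := by
  obtain ⟨e, he, -⟩ := D.exists_e hodd
  obtain ⟨F⟩ := D.exists_subForm L he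
  rw [F.comm_iff hodd, not_le] at hL
  obtain ⟨DL, hDL⟩ := exists_data_sub hodd he F hL.le
  have h1 := card_mul_index L
  rw [F.index_eq he] at h1
  have h2 := card_mul_index (center ↥L)
  rw [DL.index_center hodd, hDL] at h2
  have h3 := card_mul_index (commutator G)
  rw [D.card_commutator] at h3
  set x := F.α + F.β with hx
  set cL := Nat.card L
  set zL := Nat.card (center ↥L)
  set c' := (commutator G).index
  set g := Nat.card G
  have hpn : 0 < p ^ (2 * D.n) := pow_pos hp.out.pos _
  apply Nat.eq_of_mul_eq_mul_right hpn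
  have e1 : p ^ (2 * D.n) = p ^ (2 * (D.n - x)) * p ^ x * p ^ x := by
    rw [← pow_add, ← pow_add]; congr 1; omega
  have e2 : p ^ (2 * D.n) = p ^ D.n * p ^ D.n := by rw [← pow_add]; congr 1; omega
  calc cL * zL * p ^ (2 * D.n) = cL * p ^ x * ((zL * p ^ (2 * (D.n - x))) * p ^ x) := by
        rw [e1]; ring
    _ = g * g := by rw [h2, h1]
    _ = (p ^ D.n * c') * (p ^ D.n * c') := by rw [h3]
    _ = c' ^ 2 * p ^ (2 * D.n) := by rw [e2]; ring

omit [Finite G] in
theorem card_center_of_comm (L : Subgroup G) (hL : IsMulCommutative ↥L) :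
    Nat.card (center ↥L) = Nat.card L := by
  have : center ↥L = ⊤ := by
    rw [eq_top_iff]
    intro z _
    rw [mem_center_iff]
    intro g
    exact (IsMulCommutative.is_comm (M := ↥L)).comm g z
  rw [this, card_top]

end Data
end MC
end Cfsg.Agent.Lib.Helper68
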