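import Mathlib
import Cfsg.Agent.Lib.Helper68.MetaIndex

/-! A metacyclic `p`-group (`p` odd) is the product of two cyclic subgroups with trivial intersection. -/

namespace Cfsg.Agent.Lib.Helper68
namespace MC

open Subgroup

variable {p : ℕ} [hp : Fact p.Prime] {G : Type*} [Group G] [Finite G]

theorem exists_pow_mul_add {a : G} {m : ℕ} (ha : orderOf a = p ^ m) {S c τ : ℕ} (hS : S ≠ 0)
    (hτ : padicValNat p S = τ) (hc : p ^ τ ∣ c) : ∃ i : ℕ, a ^ (i * S + c) = 1 := by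
  obtain ⟨σ, hσ⟩ : p ^ τ ∣ S := hτ ▸ pow_padicValNat_dvd
  have hσp : ¬ p ∣ σ := by
    intro hd
    have h2 : p ^ (padicValNat p S + 1) ∣ S := by
      rw [hτ, pow_succ, hσ]
      exact Nat.mul_dvd_mul_left _ hd
    exact pow_succ_padicValNat_not_dvd hS h2
  set y := a ^ p ^ τ with hy
  have hyo : orderOf y ∣ p ^ m := by rw [← ha]; exact orderOf_pow_dvd _
  obtain ⟨x, -, hx⟩ := (Nat.dvd_prime_pow hp.out).mp hyo
  have hcop : (orderOf y).Coprime σ := by
    rw [hx]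
    exact Nat.Coprime.pow_left _ ((Nat.Prime.coprime_iff_not_dvd hp.out).mpr hσp)
  have h1 : orderOf (y ^ σ) = orderOf y := hcop.orderOf_pow
  have h2 : zpowers (y ^ σ) = zpowers y := by
    apply eq_of_le_of_card_ge (zpowers_le.mpr (Subgroup.pow_mem _ (mem_zpowers _) _))
    rw [Nat.card_zpowers, Nat.card_zpowers, h1]
  obtain ⟨c', hc'⟩ := hc
  have h3 : (a ^ c)⁻¹ ∈ zpowers (y ^ σ) := by
    rw [h2]
    apply inv_mem
    rw [hc', pow_mul]
    exact Subgroup.pow_mem _ (mem_zpowers _) _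
  obtain ⟨i, hi⟩ := exists_nat_pow_of_mem_zpowers h3
  refine ⟨i, ?_⟩
  rw [pow_add]
  have : a ^ (i * S) = (y ^ σ) ^ i := by
    rw [hy, ← pow_mul, ← pow_mul, hσ]; congr 1; ring
  rw [this, hi, inv_mul_cancel]

namespace Data

theorem split_case (D : Data p G) (hodd : Odd p) {e c : ℕ} (he : orderOf D.bbar = p ^ e)
    (hc : D.b ^ p ^ e = D.a ^ c) (hec : p ^ e ∣ c) :
    ∃ A B : Subgroup G, IsCyclic A ∧ IsCyclic B ∧ A ⊓ B = ⊥ ∧ Nat.card A * Nat.card B = Nat.card G := by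
  have hS0 : gs D.r (p ^ e) ≠ 0 := gs_ne_zero D.one_le_r (pow_ne_zero _ hp.out.ne_zero)
  have hv : padicValNat p (gs D.r (p ^ e)) = e := by
    rw [padicValNat_gs hodd D.one_le_r D.hrp (pow_ne_zero _ hp.out.ne_zero), padicValNat.prime_pow]
  obtain ⟨i, hi⟩ := exists_pow_mul_add D.ha hS0 hv hec
  set y := D.a ^ i * D.b ^ 1 with hy
  have hyp : y ^ p ^ e = 1 := by
    rw [hy, pow_formula D.hconj, one_mul, pow_one, hc, ← pow_add]
    exact hi
  have hmk : (QuotientGroup.mk y : G ⧸ zpowers D.a) = D.bbar := by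
    rw [hy, D.mk_eq, pow_one]
  have hyo : orderOf y = p ^ e := by
    apply Nat.dvd_antisymm (orderOf_dvd_of_pow_eq_one hyp)
    rw [← he, ← hmk]
    exact orderOf_map_dvd (QuotientGroup.mk' (zpowers D.a)) y
  refine ⟨zpowers D.a, zpowers y, inferInstance, inferInstance, ?_, ?_⟩
  · rw [eq_bot_iff]
    rintro x ⟨hx1, hx2⟩
    obtain ⟨l, rfl⟩ := exists_nat_pow_of_mem_zpowers hx2
    have h1 : (QuotientGroup.mk (y ^ l) : G ⧸ zpowers D.a) = 1 :=
      (QuotientGroup.eq_one_iff _).mpr hx1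
    rw [QuotientGroup.mk_pow, hmk, ← orderOf_dvd_iff_pow_eq_one, he] at h1
    obtain ⟨l', rfl⟩ := h1
    rw [mem_bot, pow_mul, hyp, one_pow]
  · rw [Nat.card_zpowers, Nat.card_zpowers, D.ha, hyo, D.card_eq he, pow_add]

theorem nonsplit_case (D : Data p G) (hodd : Odd p) {e c t : ℕ} (he : orderOf D.bbar = p ^ e)
    (hc : D.b ^ p ^ e = D.a ^ c) (hc0 : c ≠ 0) (ht : padicValNat p c = t) (htm : t < D.m)
    (hte : t < e) :
    ∃ A B : Subgroup G, IsCyclic A ∧ IsCyclic B ∧ A ⊓ B = ⊥ ∧ Nat.card A * Nat.card B = Nat.card G := by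
  set R := D.r ^ p ^ (e - t) with hR
  have hR1 : 1 ≤ R := Nat.one_le_pow _ _ D.one_le_r
  have hRp : p ∣ R - 1 := dvd_pow_sub_one D.hrp D.one_le_r _
  have hpt0 : p ^ t ≠ 0 := pow_ne_zero _ hp.out.ne_zero
  have hS0 : gs R (p ^ t) ≠ 0 := gs_ne_zero hR1 hpt0
  have hv : padicValNat p (gs R (p ^ t)) = t := by
    rw [padicValNat_gs hodd hR1 hRp hpt0, padicValNat.prime_pow]
  have htc : p ^ t ∣ c := ht ▸ pow_padicValNat_dvd
  obtain ⟨i, hi⟩ := exists_pow_mul_add D.ha hS0 hv htc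
  set y := D.a ^ i * D.b ^ p ^ (e - t) with hy
  have hpe : p ^ (e - t) * p ^ t = p ^ e := by rw [← pow_add]; congr 1; omega
  have hyp : y ^ p ^ t = 1 := by
    rw [hy, pow_formula D.hconj, hpe, hc, ← pow_add]
    exact hi
  have hpi : ¬ p ∣ i := by
    intro hd
    rw [← orderOf_dvd_iff_pow_eq_one, D.ha] at hi
    have h1 : p ^ (t + 1) ∣ i * gs R (p ^ t) + c :=
      (pow_dvd_pow p (by omega)).trans hi
    have h2 : p ^ (t + 1) ∣ i * gs R (p ^ t) := by
      rw [pow_succ, mul_comm (p ^ t)]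
      exact Nat.mul_dvd_mul hd ((pow_dvd_gs_iff hodd hR1 hRp t (p ^ t)).mpr dvd_rfl)
    have h3 : p ^ (t + 1) ∣ c := (Nat.dvd_add_right h2).mp h1
    rw [← ht] at h3
    exact pow_succ_padicValNat_not_dvd hc0 h3
  have hcop : (p ^ t).Coprime i :=
    Nat.Coprime.pow_left _ ((Nat.Prime.coprime_iff_not_dvd hp.out).mpr hpi)
  have key : ∀ l : ℕ, y ^ l ∈ zpowers D.b → p ^ t ∣ l := by
    intro l hl
    rw [hy, pow_formula D.hconj] at hl
    have h1 : D.a ^ (i * gs R l) ∈ zpowers D.b := by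
      have := mul_mem hl (inv_mem (Subgroup.pow_mem _ (mem_zpowers D.b) (p ^ (e - t) * l)))
      simpa using this
    obtain ⟨j, hj⟩ := exists_nat_pow_of_mem_zpowers h1
    have h2 : (QuotientGroup.mk (D.b ^ j) : G ⧸ zpowers D.a) = 1 := by
      rw [QuotientGroup.eq_one_iff, hj]
      exact Subgroup.pow_mem _ (mem_zpowers _) _
    rw [QuotientGroup.mk_pow] at h2
    change D.bbar ^ j = 1 at h2
    rw [← orderOf_dvd_iff_pow_eq_one, he] at h2
    obtain ⟨j', rfl⟩ := h2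
    rw [pow_mul, hc, ← pow_mul, pow_eq_pow_iff_modEq, D.ha] at hj
    have h3 : p ^ t ∣ i * gs R l := by
      rw [← Nat.ModEq.dvd_iff hj (pow_dvd_pow p htm.le)]
      exact Dvd.dvd.mul_right htc _
    rw [pow_dvd_mul_gs_iff hodd hR1 hRp] at h3
    exact hcop.dvd_of_dvd_mul_left h3
  have hyo : orderOf y = p ^ t := by
    apply Nat.dvd_antisymm (orderOf_dvd_of_pow_eq_one hyp)
    apply key
    rw [pow_orderOf_eq_one]
    exact one_mem _
  -- order of b
  have hef : e ≤ D.f := by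
    have h1 : orderOf D.bbar ∣ orderOf D.b := orderOf_map_dvd (QuotientGroup.mk' (zpowers D.a)) D.b
    rw [he, D.hb] at h1
    exact (Nat.pow_dvd_pow_iff_le_right hp.out.one_lt).mp h1
  have hbo : D.f = e + (D.m - t) := by
    have h1 : orderOf (D.b ^ p ^ e) = p ^ (D.f - e) := orderOf_pow_pow_of_le D.hb hef
    obtain ⟨w, hw⟩ := htc
    have hwp : ¬ p ∣ w := by
      intro hd
      have h3 : p ^ (padicValNat p c + 1) ∣ c := by
        rw [ht, pow_succ, hw]
        exact Nat.mul_dvd_mul_left _ hd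
      exact pow_succ_padicValNat_not_dvd hc0 h3
    have h2 : orderOf (D.a ^ c) = p ^ (D.m - t) := by
      rw [hw, pow_mul]
      have h4 : orderOf (D.a ^ p ^ t) = p ^ (D.m - t) := orderOf_pow_pow_of_le D.ha htm.le
      have hcop2 : (orderOf (D.a ^ p ^ t)).Coprime w := by
        rw [h4]
        exact Nat.Coprime.pow_left _ ((Nat.Prime.coprime_iff_not_dvd hp.out).mpr hwp)
      rw [hcop2.orderOf_pow, h4]
    rw [hc, h2] at h1
    have := Nat.pow_right_injective hp.out.two_le h1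
    omega
  refine ⟨zpowers y, zpowers D.b, inferInstance, inferInstance, ?_, ?_⟩
  · rw [eq_bot_iff]
    rintro x ⟨hx1, hx2⟩
    obtain ⟨l, rfl⟩ := exists_nat_pow_of_mem_zpowers hx1
    obtain ⟨l', rfl⟩ := key l hx2
    rw [mem_bot, pow_mul, hyp, one_pow]
  · rw [Nat.card_zpowers, Nat.card_zpowers, hyo, D.hb, D.card_eq he, hbo, ← pow_add]
    congr 1; omega

theorem exists_factorization (D : Data p G) (hodd : Odd p) :
    ∃ A B : Subgroup G, IsCyclic A ∧ IsCyclic B ∧ A ⊓ B = ⊥ ∧ Nat.card A * Nat.card B = Nat.card G := by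
  obtain ⟨e, he, -⟩ := D.exists_e hodd
  have h1 : D.b ^ p ^ e ∈ zpowers D.a := by
    rw [← QuotientGroup.eq_one_iff, QuotientGroup.mk_pow]
    have := pow_orderOf_eq_one D.bbar
    rw [he] at this
    exact this
  obtain ⟨c, hc⟩ := (D.mem_zpowers_a_iff _).mp h1
  by_cases hac : D.a ^ c = 1
  · exact D.split_case hodd he (c := 0) (by rw [hc, hac, pow_zero]) (dvd_zero _)
  · have hc0 : c ≠ 0 := by
      rintro rfl
      exact hac (pow_zero _)
    have htm : padicValNat p c < D.m := by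
      by_contra hcon
      rw [not_lt] at hcon
      apply hac
      rw [← orderOf_dvd_iff_pow_eq_one, D.ha]
      exact (pow_dvd_pow p hcon).trans pow_padicValNat_dvd
    by_cases hte : e ≤ padicValNat p c
    · exact D.split_case hodd he hc ((pow_dvd_pow p hte).trans pow_padicValNat_dvd)
    · exact D.nonsplit_case hodd he hc hc0 rfl htm (not_le.mp hte)

end Data
end MC
end Cfsg.Agent.Lib.Helper68
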