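import Mathlib

set_option autoImplicit false

namespace Cfsg.Agent.Lib.Helper68

variable {X : Type*} [Group X]

theorem exists_injective_prod (A B : Subgroup X) :
    ∃ f : A × B → ↥(A ⊔ B) × ↥(A ⊓ B), Function.Injective f ∧
      ∀ p, (((f p).1 : ↥(A ⊔ B)) : X) = (p.1 : X) * (p.2 : X) := by
  classical
  have hex : ∀ g : X, ∃ p : A × B, (∃ h : A, ∃ k : B, (h : X) * k = g) → (p.1 : X) * p.2 = g := by
    intro g
    by_cases hg : ∃ h : A, ∃ k : B, (h : X) * k = g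
    · obtain ⟨h, k, hk⟩ := hg
      exact ⟨(h, k), fun _ => hk⟩
    · exact ⟨(1, 1), fun h => absurd h hg⟩
  choose r hr using hex
  have key : ∀ h : A, ∀ k : B, ((r ((h : X) * k)).1 : X)⁻¹ * h ∈ A ⊓ B := by
    intro h k
    have h1 := hr ((h : X) * k) ⟨h, k, rfl⟩
    refine ⟨A.mul_mem (A.inv_mem (r _).1.2) h.2, ?_⟩
    have : ((r ((h : X) * k)).1 : X)⁻¹ * h = (r ((h : X) * k)).2 * (k : X)⁻¹ := by
      rw [inv_mul_eq_iff_eq_mul, ← mul_assoc, h1]; group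
    rw [this]
    exact B.mul_mem (r _).2.2 (B.inv_mem k.2)
  have hmem : ∀ h : A, ∀ k : B, (h : X) * k ∈ A ⊔ B := fun h k =>
    Subgroup.mul_mem_sup h.2 k.2
  let f : A × B → ↥(A ⊔ B) × ↥(A ⊓ B) := fun p => (⟨(p.1 : X) * p.2, hmem p.1 p.2⟩, ⟨_, key p.1 p.2⟩)
  refine ⟨f, ?_, fun p => rfl⟩
  rintro ⟨h, k⟩ ⟨h', k'⟩ heq
  simp only [f, Prod.mk.injEq, Subtype.mk.injEq] at heq
  obtain ⟨h1, h2⟩ := heq
  rw [h1] at h2
  have h3 : (h : X) = h' := mul_left_cancel h2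
  have h4 : (k : X) = k' := by rw [h3] at h1; exact mul_left_cancel h1
  exact Prod.ext (Subtype.ext h3) (Subtype.ext h4)

/-- `|A| |B| ≤ |A ⊔ B| |A ⊓ B|` -/
theorem card_mul_card_le_sup_inf [Finite X] (A B : Subgroup X) :
    Nat.card A * Nat.card B ≤ Nat.card ↥(A ⊔ B) * Nat.card ↥(A ⊓ B) := by
  obtain ⟨f, hf, _⟩ := exists_injective_prod A B
  have := Nat.card_le_card_of_injective f hf
  rwa [Nat.card_prod, Nat.card_prod] at this

/-- in case of equality `A ⊔ B = A B` -/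
theorem exists_mul_of_card_eq [Finite X] (A B : Subgroup X)
    (h : Nat.card ↥(A ⊔ B) * Nat.card ↥(A ⊓ B) ≤ Nat.card A * Nat.card B) :
    ∀ x ∈ A ⊔ B, ∃ a ∈ A, ∃ b ∈ B, x = a * b := by
  obtain ⟨f, hf, hf1⟩ := exists_injective_prod A B
  have hbij : Function.Bijective f := by
    apply hf.bijective_of_nat_card_le
    rwa [Nat.card_prod, Nat.card_prod]
  intro x hx
  obtain ⟨p, hp⟩ := hbij.2 (⟨x, hx⟩, 1)
  refine ⟨p.1, p.1.2, p.2, p.2.2, ?_⟩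
  rw [← hf1 p, hp]

end Cfsg.Agent.Lib.Helper68
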