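import Mathlib
import Cfsg.Agent.Lib.Helper48.RSpDefs

set_option autoImplicit false

/-! K-RSp leaf M5 (S2281): the conjugators `X` with `U X Uᵀ = X + l E_00`. -/

namespace Cfsg.Agent.Lib.Helper68.RSp

open Matrix Cfsg.Agent.Lib.Helper48.RSp

theorem m5_sum_shift {n : ℕ} {F : Type*} [Field F] (f : ℕ → F) (hf : ∀ a, n ≤ a → f a = 0)
    (i : Fin n) : ∑ k : Fin n, (if i.val + 1 = k.val then f k.val else 0) = f (i.val + 1) := by
  by_cases h : i.val + 1 < n
  · rw [Finset.sum_eq_single (⟨i.val + 1, h⟩ : Fin n)]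
    · simp
    · intro b _ hb
      rw [if_neg]
      intro e
      exact hb (Fin.ext e.symm)
    · intro h'
      exact absurd (Finset.mem_univ _) h'
  · rw [hf _ (by omega)]
    apply Finset.sum_eq_zero
    intro k _
    rw [if_neg]
    have := k.isLt
    omega

theorem m5_Uup_apply (m : ℕ) (F : Type*) [Field F] (i k : Fin (m + 2)) :
    Uup m F i k = (if i = k then 1 else 0) + (if i.val + 1 = k.val then 1 else 0) := by
  show (1 + Nup m F) i k = _
  rw [Matrix.add_apply, Matrix.one_apply]
  rfl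

theorem m5_conj (m : ℕ) {F : Type*} [Field F] (x : ℕ → ℕ → F)
    (hx : ∀ a b, m + 2 ≤ a ∨ m + 2 ≤ b → x a b = 0) (i j : Fin (m + 2)) :
    (Uup m F * (Matrix.of fun a b : Fin (m + 2) => x a.val b.val) * (Uup m F)ᵀ) i j =
      x i.val j.val + x (i.val + 1) j.val + x i.val (j.val + 1) + x (i.val + 1) (j.val + 1) := by
  have h1 : ∀ (a l : Fin (m + 2)),
      (Uup m F * (Matrix.of fun a b : Fin (m + 2) => x a.val b.val)) a l =
        x a.val l.val + x (a.val + 1) l.val := by
    intro a l
    rw [Matrix.mul_apply]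
    simp only [m5_Uup_apply, Matrix.of_apply, add_mul, ite_mul, one_mul, zero_mul,
      Finset.sum_add_distrib]
    rw [Finset.sum_ite_eq, if_pos (Finset.mem_univ _)]
    rw [m5_sum_shift (fun k => x k l.val) (fun k hk => hx _ _ (Or.inl hk)) a]
  rw [Matrix.mul_apply]
  simp only [h1, Matrix.transpose_apply, m5_Uup_apply, mul_add, mul_ite, mul_one, mul_zero,
    Finset.sum_add_distrib]
  rw [Finset.sum_ite_eq, if_pos (Finset.mem_univ _)]
  rw [m5_sum_shift (fun k => x i.val k + x (i.val + 1) k) (fun k hk => by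
    rw [hx _ _ (Or.inr hk), hx _ _ (Or.inr hk), add_zero]) j]
  ring

theorem m5_E00_apply (m : ℕ) (F : Type*) [Field F] (i j : Fin (m + 2)) :
    E00 m F i j = if i.val = 0 ∧ j.val = 0 then 1 else 0 := by
  unfold E00
  rw [Matrix.single_apply]
  apply if_congr _ rfl rfl
  rw [Fin.ext_iff, Fin.ext_iff]
  simp [eq_comm]

theorem exists_X_odd (m : ℕ) {F : Type*} [Field F] (h2 : (2 : F) ≠ 0) (l : F) :
    ∃ X : SM m F, Xᵀ = X ∧ Uup m F * X * (Uup m F)ᵀ = X + l • E00 m F := by
  obtain ⟨c, hc⟩ : ∃ c : F, c + c = l := ⟨l / 2, by field_simp; ring⟩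
  set x : ℕ → ℕ → F := fun a b => if (a = 0 ∧ b = 1) ∨ (a = 1 ∧ b = 0) then c else 0 with hxdef
  have hx : ∀ a b, m + 2 ≤ a ∨ m + 2 ≤ b → x a b = 0 := by
    intro a b hab
    simp only [hxdef]
    rw [if_neg]
    omega
  refine ⟨Matrix.of fun a b : Fin (m + 2) => x a.val b.val, ?_, ?_⟩
  · ext i j
    simp only [Matrix.transpose_apply, Matrix.of_apply, hxdef]
    split_ifs <;> first | rfl | (exfalso; omega)
  · ext i j
    rw [m5_conj m x hx]
    simp only [Matrix.add_apply, Matrix.smul_apply, Matrix.of_apply, m5_E00_apply, smul_eq_mul,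
      hxdef]
    split_ifs <;> first
      | (exfalso; omega)
      | (exfalso; simp only [false_and, and_false, or_false, false_or] at *; omega)
      | (exfalso; simp only [false_and, and_false, or_false, false_or] at *; done)
      | linear_combination hc
      | linear_combination (0 : F) * hc

theorem exists_X_even (m : ℕ) (hm : 1 ≤ m) {F : Type*} [Field F] (h2 : (2 : F) = 0) (l : F) :
    ∃ X : SM m F, Xᵀ = X ∧ Uup m F * X * (Uup m F)ᵀ = X + l • E00 m F := by
  set x : ℕ → ℕ → F := fun a b =>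
    if (a = 1 ∧ b = 1) ∨ (a = 0 ∧ b = 2) ∨ (a = 2 ∧ b = 0) then l else 0 with hxdef
  have hx : ∀ a b, m + 2 ≤ a ∨ m + 2 ≤ b → x a b = 0 := by
    intro a b hab
    simp only [hxdef]
    rw [if_neg]
    omega
  refine ⟨Matrix.of fun a b : Fin (m + 2) => x a.val b.val, ?_, ?_⟩
  · ext i j
    simp only [Matrix.transpose_apply, Matrix.of_apply, hxdef]
    split_ifs <;> first | rfl | (exfalso; omega)
  · ext i j
    rw [m5_conj m x hx]
    simp only [Matrix.add_apply, Matrix.smul_apply, Matrix.of_apply, m5_E00_apply, smul_eq_mul,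
      hxdef]
    split_ifs <;> first
      | (exfalso; omega)
      | (exfalso; simp only [false_and, and_false, or_false, false_or] at *; omega)
      | (exfalso; simp only [false_and, and_false, or_false, false_or] at *; done)
      | linear_combination (0 : F) * h2
      | linear_combination l * h2

end Cfsg.Agent.Lib.Helper68.RSp
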