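import Mathlib
import Cfsg.Agent.Lib.Helper40.NF2Aut

/-!
# K-Ree2-N core (keystone 115205, S1157, architect helper76): `|N(P)| = 168` for a self-centralising
elementary abelian Sylow 2-subgroup `P` of order 8 normalised by an element of order 3 outside `P`.
LEAF R2-T (no non-trivial element of `P` is fixed by `N(P)`) is the hypothesis `hT` here.
-/

set_option autoImplicit false

namespace Cfsg.Agent.Lib.Helper68.Ree2

theorem prod_eq_168 : ∏ i ∈ Finset.range 3, (2 ^ 3 - 2 ^ i) = 168 := by
  decide

/-- arithmetic: an odd divisor of 168 divisible by 3 is 3 or 21 -/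
theorem k_cases {k : ℕ} (h168 : k ∣ 168) (hcop : Nat.Coprime 8 k) (h3 : 3 ∣ k) : k = 3 ∨ k = 21 := by
  obtain ⟨j, rfl⟩ := h3
  have hj : j ∣ 56 := Nat.dvd_of_mul_dvd_mul_left (by norm_num : 0 < 3) (by simpa using h168)
  have h2 : Nat.Coprime 2 (3 * j) := Nat.Coprime.coprime_dvd_left (by norm_num : 2 ∣ 8) hcop
  have h2' : ¬ 2 ∣ 3 * j := (Nat.Prime.coprime_iff_not_dvd Nat.prime_two).1 h2
  have hle : j ≤ 56 := Nat.le_of_dvd (by norm_num) hj
  interval_cases j <;> omega

/-- **core of LEAF R2-N.** -/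
theorem card_normalizer_eq_of {G : Type*} [Group G] [Finite G] (P : Sylow 2 G)
    (hcard : Nat.card ↥(P : Subgroup G) = 8) (hexp : ∀ x ∈ P, x * x = 1)
    (hC : Subgroup.centralizer ((P : Subgroup G) : Set G) = (P : Subgroup G))
    (hT : ∀ z ∈ P, (∀ n ∈ Subgroup.normalizer ((P : Subgroup G) : Set G), n * z * n⁻¹ = z) → z = 1)
    (t : G) (ht3 : t ^ 3 = 1) (htP : t ∉ P) (htN : t ∈ Subgroup.normalizer ((P : Subgroup G) : Set G)) :
    Nat.card ↥(Subgroup.normalizer ((P : Subgroup G) : Set G)) = 168 := by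
  classical
  have hPN : (P : Subgroup G) ≤ Subgroup.normalizer ((P : Subgroup G) : Set G) :=
    Subgroup.le_normalizer
  -- `P` is abelian
  have hab : ∀ x ∈ P, ∀ y ∈ P, x * y = y * x := by
    intro x hx y hy
    have h1 : (x * y)⁻¹ = x * y := inv_eq_of_mul_eq_one_right (hexp (x * y) (mul_mem hx hy))
    have h2 : x⁻¹ = x := inv_eq_of_mul_eq_one_right (hexp x hx)
    have h3 : y⁻¹ = y := inv_eq_of_mul_eq_one_right (hexp y hy)
    calc x * y = (x * y)⁻¹ := h1.symm
      _ = y⁻¹ * x⁻¹ := mul_inv_rev _ _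
      _ = y * x := by rw [h2, h3]
  -- the conjugation homomorphism
  have hker : (P : Subgroup G).normalizerMonoidHom.ker =
      (P : Subgroup G).subgroupOf (Subgroup.normalizer ((P : Subgroup G) : Set G)) := by
    rw [Subgroup.normalizerMonoidHom_ker, hC]
  have hkercard : Nat.card (P : Subgroup G).normalizerMonoidHom.ker = 8 := by
    rw [hker, ← hcard]
    exact Nat.card_congr (Subgroup.subgroupOfEquivOfLe hPN).toEquiv
  have hNcard : Nat.card ↥(Subgroup.normalizer ((P : Subgroup G) : Set G)) =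
      8 * Nat.card (P : Subgroup G).normalizerMonoidHom.range := by
    rw [← Subgroup.card_mul_index (P : Subgroup G).normalizerMonoidHom.ker, hkercard,
      Subgroup.index_ker]
  -- `k` divides 168
  have h168 : Nat.card (P : Subgroup G).normalizerMonoidHom.range ∣ 168 := by
    refine (Subgroup.card_subgroup_dvd_card _).trans ?_
    let _ : CommGroup ↥(P : Subgroup G) :=
      { (inferInstance : Group ↥(P : Subgroup G)) with
        mul_comm := fun a b => Subtype.ext (hab a a.2 b b.2) }
    have h := Cfsg.Agent.Lib.Helper40.NF2.card_mulAut_dvd (X := ↥(P : Subgroup G)) 2 3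
      Nat.prime_two (fun x => by
        rw [pow_two]
        exact Subtype.ext (hexp x x.2)) (by rw [hcard]; norm_num)
    rw [prod_eq_168] at h
    exact h
  -- `k` is odd
  have hcop : Nat.Coprime 8 (Nat.card (P : Subgroup G).normalizerMonoidHom.range) := by
    have h1 : Nat.Coprime 8 (P : Subgroup G).index := by
      rw [← hcard]
      exact P.card_coprime_index
    have h2 : Nat.card ↥(Subgroup.normalizer ((P : Subgroup G) : Set G)) ∣ Nat.card G :=
      Subgroup.card_subgroup_dvd_card _
    rw [hNcard, ← Subgroup.card_mul_index (P : Subgroup G), hcard] at h2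
    exact Nat.Coprime.coprime_dvd_right (Nat.dvd_of_mul_dvd_mul_left (by norm_num) h2) h1
  -- `3 ∣ k`
  have h3 : 3 ∣ Nat.card (P : Subgroup G).normalizerMonoidHom.range := by
    have : Fact (Nat.Prime 3) := ⟨Nat.prime_three⟩
    have hτ1 : (P : Subgroup G).normalizerMonoidHom ⟨t, htN⟩ ≠ 1 := by
      intro h
      have h1 : (⟨t, htN⟩ : ↥(Subgroup.normalizer ((P : Subgroup G) : Set G))) ∈
          (P : Subgroup G).normalizerMonoidHom.ker := h
      rw [hker, Subgroup.mem_subgroupOf] at h1
      exact htP h1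
    have hτ3 : ((P : Subgroup G).normalizerMonoidHom ⟨t, htN⟩) ^ 3 = 1 := by
      rw [← map_pow]
      have : (⟨t, htN⟩ : ↥(Subgroup.normalizer ((P : Subgroup G) : Set G))) ^ 3 = 1 := by
        apply Subtype.ext
        rw [SubgroupClass.coe_pow]
        exact ht3
      rw [this, map_one]
    have ho := orderOf_eq_prime hτ3 hτ1
    rw [← ho]
    exact Subgroup.orderOf_dvd_natCard _ ⟨_, rfl⟩
  rcases k_cases h168 hcop h3 with hk | hk
  · -- `k = 3` is impossible
    exfalso
    have hN24 : Nat.card ↥(Subgroup.normalizer ((P : Subgroup G) : Set G)) = 24 := by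
      rw [hNcard, hk]
    have : Fact (Nat.Prime 3) := ⟨Nat.prime_three⟩
    have : Fintype ↥(P : Subgroup G) := Fintype.ofFinite _
    -- conjugation by `t` on `P`
    have h3' : t * t * t = 1 := by rw [← ht3, pow_succ, pow_two]
    have h3i : t⁻¹ * t⁻¹ * t⁻¹ = 1 := by
      rw [← mul_inv_rev, ← mul_inv_rev, ← mul_assoc, h3', inv_one]
    let f : Function.End ↥(P : Subgroup G) :=
      fun x => ⟨t * x * t⁻¹, (Subgroup.mem_normalizer_iff.1 htN x).1 x.2⟩
    have hf : f ^ 3 ^ 1 = 1 := by
      rw [pow_one]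
      funext x
      apply Subtype.ext
      show t * (t * (t * (x : G) * t⁻¹) * t⁻¹) * t⁻¹ = x
      calc t * (t * (t * (x : G) * t⁻¹) * t⁻¹) * t⁻¹
          = (t * t * t) * x * (t⁻¹ * t⁻¹ * t⁻¹) := by simp only [mul_assoc]
        _ = x := by rw [h3', h3i, one_mul, mul_one]
    have hmod := Equiv.Perm.card_fixedPoints_modEq (p := 3) (n := 1) hf
    have hP8 : Fintype.card ↥(P : Subgroup G) = 8 := by
      rw [← Nat.card_eq_fintype_card]
      exact hcard
    rw [hP8] at hmod
    have hgt : 1 < Fintype.card ↥(Function.fixedPoints f) := by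
      unfold Nat.ModEq at hmod
      omega
    have h1fix : (1 : ↥(P : Subgroup G)) ∈ Function.fixedPoints f := by
      show f 1 = 1
      apply Subtype.ext
      show t * ((1 : ↥(P : Subgroup G)) : G) * t⁻¹ = ((1 : ↥(P : Subgroup G)) : G)
      rw [Subgroup.coe_one, mul_one, mul_inv_cancel]
    obtain ⟨z, hz⟩ := Fintype.exists_ne_of_one_lt_card hgt ⟨1, h1fix⟩
    have hz1 : (z.1 : G) ≠ 1 := by
      intro h
      apply hz
      apply Subtype.ext
      apply Subtype.ext
      exact h
    have hzfix : t * (z.1 : G) * t⁻¹ = z.1 := by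
      have := z.2
      exact congrArg Subtype.val this
    have hzP : (z.1 : G) ∈ (P : Subgroup G) := z.1.2
    -- the centralizer of `z` in `N`
    have hPL : (P : Subgroup G) ≤ Subgroup.normalizer ((P : Subgroup G) : Set G) ⊓
        Subgroup.centralizer {(z.1 : G)} := by
      intro x hx
      refine Subgroup.mem_inf.2 ⟨hPN hx, Subgroup.mem_centralizer_iff.2 ?_⟩
      intro y hy
      rw [Set.mem_singleton_iff] at hy
      rw [hy]
      exact hab _ hzP x hx
    have htL : t ∈ Subgroup.normalizer ((P : Subgroup G) : Set G) ⊓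
        Subgroup.centralizer {(z.1 : G)} := by
      refine Subgroup.mem_inf.2 ⟨htN, Subgroup.mem_centralizer_iff.2 ?_⟩
      intro y hy
      rw [Set.mem_singleton_iff] at hy
      rw [hy]
      calc (z.1 : G) * t = (t * (z.1 : G) * t⁻¹) * t := by rw [hzfix]
        _ = t * z.1 := by group
    have h8L : 8 ∣ Nat.card ↥(Subgroup.normalizer ((P : Subgroup G) : Set G) ⊓
        Subgroup.centralizer {(z.1 : G)} : Subgroup G) := by
      rw [← hcard]
      exact Subgroup.card_dvd_of_le hPL
    have hL24 : Nat.card ↥(Subgroup.normalizer ((P : Subgroup G) : Set G) ⊓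
        Subgroup.centralizer {(z.1 : G)} : Subgroup G) ∣ 24 := by
      rw [← hN24]
      exact Subgroup.card_dvd_of_le inf_le_left
    have hLne8 : Nat.card ↥(Subgroup.normalizer ((P : Subgroup G) : Set G) ⊓
        Subgroup.centralizer {(z.1 : G)} : Subgroup G) ≠ 8 := by
      intro h
      have heq := Subgroup.eq_of_le_of_card_ge hPL (by rw [h, hcard])
      apply htP
      have h2 : t ∈ (P : Subgroup G) := by
        rw [heq]
        exact htL
      exact h2
    have hL : Nat.card ↥(Subgroup.normalizer ((P : Subgroup G) : Set G) ⊓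
        Subgroup.centralizer {(z.1 : G)} : Subgroup G) = 24 := by
      obtain ⟨c, hc⟩ := h8L
      rw [hc] at hL24 hLne8 ⊢
      have hc3 : c ∣ 3 := Nat.dvd_of_mul_dvd_mul_left (by norm_num : 0 < 8) (by simpa using hL24)
      have hcle : c ≤ 3 := Nat.le_of_dvd (by norm_num) hc3
      interval_cases c <;> omega
    have hLN := Subgroup.eq_of_le_of_card_ge
      (inf_le_left : Subgroup.normalizer ((P : Subgroup G) : Set G) ⊓
        Subgroup.centralizer {(z.1 : G)} ≤ Subgroup.normalizer ((P : Subgroup G) : Set G))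
      (by rw [hL, hN24])
    apply hz1
    apply hT _ hzP
    intro n hn
    rw [← hLN] at hn
    have h := Subgroup.mem_centralizer_iff.1 (Subgroup.mem_inf.1 hn).2
    have h2 := h (z.1 : G) rfl
    calc n * (z.1 : G) * n⁻¹ = ((z.1 : G) * n) * n⁻¹ := by rw [h2]
      _ = z.1 := by group
  · rw [hNcard, hk]

end Cfsg.Agent.Lib.Helper68.Ree2
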