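import Mathlib
import Cfsg.Agent.Lib.Helper68.Ree2NCore
import Cfsg.Agent.Lib.Helper62.Ree2T

/-!
# K-Ree2-N (keystone 115205, S1157, architect helper76): `|N(P)| = 168`.
Wrapper combining the core `card_normalizer_eq_of` with LEAF R2-T (`Helper62.Ree2.sylow_fixed_eq_one`).
-/

set_option autoImplicit false

namespace Cfsg.Agent.Lib.Helper68.Ree2

/-- **LEAF R2-N.** -/
theorem card_normalizer_eq {G : Type*} [Group G] [Finite G] (hperf : commutator G = ⊤) (P : Sylow 2 G)
    (hcard : Nat.card ↥(P : Subgroup G) = 8) (hexp : ∀ x ∈ P, x * x = 1)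
    (hC : Subgroup.centralizer ((P : Subgroup G) : Set G) = (P : Subgroup G))
    (t : G) (ht3 : t ^ 3 = 1) (htP : t ∉ P) (htN : t ∈ Subgroup.normalizer ((P : Subgroup G) : Set G)) :
    Nat.card ↥(Subgroup.normalizer ((P : Subgroup G) : Set G)) = 168 := by
  have hab : ∀ x ∈ P, ∀ y ∈ P, x * y = y * x := by
    intro x hx y hy
    have h1 : (x * y)⁻¹ = x * y := inv_eq_of_mul_eq_one_right (hexp (x * y) (mul_mem hx hy))
    have h2 : x⁻¹ = x := inv_eq_of_mul_eq_one_right (hexp x hx)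
    have h3 : y⁻¹ = y := inv_eq_of_mul_eq_one_right (hexp y hy)
    calc x * y = (x * y)⁻¹ := h1.symm
      _ = y⁻¹ * x⁻¹ := mul_inv_rev _ _
      _ = y * x := by rw [h2, h3]
  have : Fact (Nat.Prime 2) := ⟨Nat.prime_two⟩
  exact card_normalizer_eq_of P hcard hexp hC
    (fun z hz hfix => Cfsg.Agent.Lib.Helper62.Ree2.sylow_fixed_eq_one hperf P hab z hz hfix)
    t ht3 htP htN

end Cfsg.Agent.Lib.Helper68.Ree2
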