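import Mathlib
import Cfsg.Agent.Lib.Helper72.SNCDefs

/-!
# K-SNC pack (S4073 converse half), leaf SNC-13 `sn_of_equiv` (keystone 407313)
-/

set_option autoImplicit false

namespace Cfsg.Agent.Lib.Helper68.SNC

open Cfsg.Agent.Lib.Helper72.SNC

universe u v

/-- 407313 SNC-13: the self-normalizing property transports along an isomorphism. -/
theorem sn_of_equiv {G : Type u} {G' : Type v} [Group G] [Group G'] (e : G ≃* G')
    (h : ∀ H : Subgroup G', ¬ IsMulCommutative ↥H → Subgroup.normalizer (H : Set G') = H) :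
    ∀ H : Subgroup G, ¬ IsMulCommutative ↥H → Subgroup.normalizer (H : Set G) = H := by
  intro H hH
  have hH' : ¬ IsMulCommutative ↥(H.map e.toMonoidHom) := by
    intro hc
    apply hH
    refine ⟨⟨fun a b => ?_⟩⟩
    have ha : e (a : G) ∈ H.map e.toMonoidHom := ⟨a, a.2, rfl⟩
    have hb : e (b : G) ∈ H.map e.toMonoidHom := ⟨b, b.2, rfl⟩
    have hab := hc.is_comm.comm (⟨_, ha⟩ : ↥(H.map e.toMonoidHom)) ⟨_, hb⟩
    have hab' : e (a : G) * e (b : G) = e (b : G) * e (a : G) := congrArg Subtype.val hab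
    apply Subtype.ext
    apply e.injective
    simpa using hab'
  have h1 := h _ hH'
  have h2 := Subgroup.map_equiv_normalizer_eq H e
  rw [h1] at h2
  exact Subgroup.map_injective e.injective h2

end Cfsg.Agent.Lib.Helper68.SNC
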