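import Cfsg.Agent.Lib.Helper68.SQChev
import Cfsg.Agent.Lib.Helper68.SQOdd
import Cfsg.Agent.Lib.Helper68.SQOdd2
import Cfsg.Agent.Lib.Helper24.Ord_E7

/-!
# K-SQ pack (S4625, architect helper38), LEAF E7 (keystone 462510), safety copy
-/

set_option autoImplicit false

namespace Cfsg.Agent.Lib.Helper68.SQ

open Cfsg Cfsg.Lie Cfsg.Agent.Lib.Helper24 Cfsg.Agent.Lib.Helper38.SQ

/-- **LEAF E7 (462510)** -/
theorem sylSq_e7 (F : Type) [Field F] [Fintype F] [CharP F 2] :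
    SylSq (Cfsg.Lie.chevE7.group F) := by
  obtain ⟨E⟩ := env_of_facts (F := F) chevE7 (by simp) nTabE7 orbTabE7 nfacts_E7 hnfacts_E7 cfacts_E7
  have hq2 : 2 ∣ Fintype.card F := two_dvd_card_of_charTwo F
  have hq0 : 0 < Fintype.card F := Fintype.card_pos
  have hX := ord_E7 (F := F) (q := Fintype.card F) rfl
  have e : chevE7.nroots / 2 = 63 := by decide
  have h := fun d (hd : d ≠ 0) => not_two_dvd_pow_sub_one hq2 hq0 hd
  have hP : ¬ 2 ∣ (Fintype.card F ^ 2 - 1) * ((Fintype.card F ^ 6 - 1) * ((Fintype.card F ^ 8 - 1) *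
      ((Fintype.card F ^ 10 - 1) * ((Fintype.card F ^ 12 - 1) * ((Fintype.card F ^ 14 - 1) *
      (Fintype.card F ^ 18 - 1)))))) :=
    not_two_dvd_mul (h 2 (by norm_num)) (not_two_dvd_mul (h 6 (by norm_num))
      (not_two_dvd_mul (h 8 (by norm_num)) (not_two_dvd_mul (h 10 (by norm_num))
      (not_two_dvd_mul (h 12 (by norm_num)) (not_two_dvd_mul (h 14 (by norm_num))
      (h 18 (by norm_num)))))))
  obtain ⟨e2, he2⟩ := card_eq_two_pow F 63
  simp only [mul_assoc] at hX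
  obtain ⟨m, hm, hXm⟩ := twoPart_of_mul_eq (not_two_dvd_gcd_two_pred hq2 hq0) hP he2 hX
  refine sylSq_of_env E m hm ?_
  rw [e]
  exact hXm

end Cfsg.Agent.Lib.Helper68.SQ
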