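import Mathlib
import Cfsg.Prelude.Def_SolvableStructure
import Cfsg.Prelude.Def_Transfer
import Cfsg.Agent.S0529
import Cfsg.Agent.Lib.Helper26.Rank2Solv

/-!
# K-S3033-B1: a supersolvable group has a normal `p`-complement for the smallest prime `p`
-/

set_option autoImplicit false

namespace Cfsg.Agent.Lib.Helper68.SS33

open Cfsg

universe u

/-- K-S3033-B1. -/
theorem hasNormalPComplement_of_isSupersolvable {G : Type u} [Group G] [Finite G]
    (hG : IsSupersolvable G) (p : ℕ) [hp : Fact p.Prime]
    (hmin : ∀ r : ℕ, r.Prime → r ∣ Nat.card G → p ≤ r) : HasNormalPComplement p G := by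
  obtain ⟨n, H, h0, hlast, hnorm, hstep, hmono⟩ := Cfsg.Agent.S0529.result hG
  -- the steps are primes `≥ p`
  have hidx_ge : ∀ i : Fin n, p ≤ (H i.castSucc).relIndex (H i.succ) := by
    intro i
    refine hmin _ (hstep i).2 ?_
    exact (Subgroup.relIndex_dvd_card _ _).trans (Subgroup.card_subgroup_dvd_card _)
  -- minimal index with `p`-power index
  have hex : ∃ j : ℕ, ∃ h : j < n + 1, ∃ a : ℕ, (H ⟨j, h⟩).index = p ^ a := by
    refine ⟨n, Nat.lt_succ_self n, 0, ?_⟩
    have : (⟨n, Nat.lt_succ_self n⟩ : Fin (n + 1)) = Fin.last n := rfl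
    rw [this, hlast]
    simp
  classical
  obtain ⟨hk, a, ha⟩ := Nat.find_spec hex
  set k : Fin (n + 1) := ⟨Nat.find hex, hk⟩ with hkdef
  have hkmin : ∀ i : Fin (n + 1), (∃ b : ℕ, (H i).index = p ^ b) → k ≤ i := by
    intro i hi
    have : Nat.find hex ≤ (i : ℕ) := Nat.find_min' hex ⟨i.2, hi⟩
    exact this
  -- the steps below `k` are not `p`
  have hne : ∀ i : Fin n, i.succ ≤ k → (H i.castSucc).relIndex (H i.succ) ≠ p := by
    intro i hik
    have hk0 : k ≠ 0 := by
      intro h0'
      rw [h0'] at hik
      exact absurd hik (by simp)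
    obtain ⟨k', hk'⟩ := Fin.exists_succ_eq.2 hk0
    have hk'ne : (H k'.castSucc).relIndex (H k'.succ) ≠ p := by
      intro hp'
      have h1 : (H k'.castSucc).index = p ^ (a + 1) := by
        rw [← Subgroup.relIndex_mul_index (hstep k').1, hp', hk', ha, pow_succ, mul_comm]
      have h2 : k ≤ k'.castSucc := hkmin _ ⟨a + 1, h1⟩
      rw [← hk'] at h2
      exact absurd h2 (by simp [Fin.le_def])
    have hlt : p < (H k'.castSucc).relIndex (H k'.succ) :=
      lt_of_le_of_ne (hidx_ge k') (Ne.symm hk'ne)
    have hik' : i ≤ k' := by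
      rw [← hk'] at hik
      exact Fin.succ_le_succ_iff.1 hik
    have := hmono i k' hik'
    omega
  -- hence the orders up to `k` are prime to `p`
  have hcop : ∀ j : Fin (n + 1), j ≤ k → (Nat.card (H j)).Coprime p := by
    intro j
    induction j using Fin.induction with
    | zero =>
      intro _
      rw [h0]
      simp
    | succ i ih =>
      intro hik
      have h1 : i.castSucc ≤ k := le_trans (Fin.castSucc_lt_succ (i := i)).le hik
      have h2 := ih h1
      have h3 : Nat.card (H i.succ) =
          Nat.card (H i.castSucc) * (H i.castSucc).relIndex (H i.succ) := by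
        have := Subgroup.relIndex_mul_relIndex (⊥ : Subgroup G) (H i.castSucc) (H i.succ) bot_le
          (hstep i).1
        rw [Subgroup.relIndex_bot_left, Subgroup.relIndex_bot_left] at this
        exact this.symm
      rw [h3]
      refine Nat.Coprime.mul_left h2 ?_
      rw [Nat.coprime_primes (hstep i).2 hp.out]
      exact hne i hik
  have : (H k).Normal := hnorm k
  exact Cfsg.Agent.Lib.Helper26.Rank2Solv.hasNormalPComplement_of (H k) (hcop k le_rfl) a ha

end Cfsg.Agent.Lib.Helper68.SS33
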