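import Mathlib
import Cfsg.Prelude.Def_GeometricClasses
import Cfsg.Agent.Lib.Helper73.SU6Defs
import Cfsg.Agent.Lib.Helper19.UnitaryDet
import Cfsg.Agent.Lib.Helper40.GUConj

/-!
# K-SU6-F1 (helper68): over `F_4` every non-degenerate decomposition into lines is the image of the standard
frame under a unitary matrix.
-/

set_option autoImplicit false

namespace Cfsg.Agent.Lib.Helper68.SU6K

open Cfsg Cfsg.Geo Cfsg.Agent.Lib.Helper73.SU6
open scoped Matrix MatrixGroups

variable {F : Type*} [Field F]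

/-- the action of an invertible matrix on subspaces -/
theorem map_mul_gl {n : ℕ} (a b : GL (Fin n) F) (W : Submodule F (Fin n → F)) :
    W.map (Matrix.toLin' ((a * b : GL (Fin n) F) : Matrix (Fin n) (Fin n) F)) =
      (W.map (Matrix.toLin' (b : Matrix (Fin n) (Fin n) F))).map
        (Matrix.toLin' (a : Matrix (Fin n) (Fin n) F)) := by
  rw [Units.val_mul, Matrix.toLin'_mul, Submodule.map_comp]

theorem map_inv_map_gl {n : ℕ} (a : GL (Fin n) F) (W : Submodule F (Fin n → F)) :
    (W.map (Matrix.toLin' (a : Matrix (Fin n) (Fin n) F))).map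
        (Matrix.toLin' ((a⁻¹ : GL (Fin n) F) : Matrix (Fin n) (Fin n) F)) = W := by
  rw [← map_mul_gl, inv_mul_cancel, Units.val_one, Matrix.toLin'_one, Submodule.map_id]

/-- conjugating a decomposition stabiliser -/
theorem mem_decompositionStabilizer_conj_iff {n t : ℕ} (g : GL (Fin n) F)
    (D D' : Fin t → Submodule F (Fin n → F))
    (h : ∀ i, (D' i).map (Matrix.toLin' (g : Matrix (Fin n) (Fin n) F)) = D i) (x : GL (Fin n) F) :
    x ∈ decompositionStabilizer D ↔ g⁻¹ * x * g ∈ decompositionStabilizer D' := by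
  have h' : ∀ i, (D i).map (Matrix.toLin' ((g⁻¹ : GL (Fin n) F) : Matrix (Fin n) (Fin n) F)) = D' i := by
    intro i
    rw [← h i, map_inv_map_gl]
  constructor
  · rintro ⟨σ, hσ⟩
    refine ⟨σ, fun i => ?_⟩
    rw [map_mul_gl, map_mul_gl, h i, hσ i, h' (σ i)]
  · rintro ⟨σ, hσ⟩
    refine ⟨σ, fun i => ?_⟩
    have e : x * g = g * (g⁻¹ * x * g) := by group
    rw [← h i, ← map_mul_gl, e, map_mul_gl, hσ i, h (σ i)]

variable [Fintype F] {q : ℕ}

/-- **K-SU6-F1.** -/
theorem exists_conj_stdFrame (hF : Fintype.card F = q ^ 2) (hq : q = 2) {n : ℕ}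
    (D : Fin n → Submodule F (Fin n → F)) (hD : IsNondegenerateMDecomposition (hermForm n F q) 1 D) :
    ∃ g ∈ GU n F q, ∀ x : GL (Fin n) F,
      x ∈ decompositionStabilizer D ↔ g⁻¹ * x * g ∈ decompositionStabilizer (stdFrame F n) := by
  classical
  set φ : F →+* F := Cfsg.Agent.Lib.Helper19.frobQ hF with hφdef
  have hφ : ∀ x, φ x = x ^ q := Cfsg.Agent.Lib.Helper19.frobQ_apply hF
  -- generators of the lines
  have h1 : ∀ i, ∃ d : Fin n → F, d ∈ D i ∧ d ≠ 0 ∧ ∀ w ∈ D i, ∃ c : F, w = c • d := by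
    intro i
    obtain ⟨v, hv0, hv⟩ := finrank_eq_one_iff'.1 (hD.decomp.finrank_eq i)
    refine ⟨(v : Fin n → F), v.2, ?_, ?_⟩
    · intro h0
      apply hv0
      exact Subtype.ext h0
    · intro w hw
      obtain ⟨c, hc⟩ := hv ⟨w, hw⟩
      refine ⟨c, ?_⟩
      have := congrArg Subtype.val hc
      simpa using this.symm
  choose d hdD hd0 hdspan using h1
  -- the generators are orthonormal
  have horth : ∀ i j, hermForm n F q (d i) (d j) = if i = j then 1 else 0 := by
    intro i j
    by_cases hij : i = j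
    · subst hij
      rw [if_pos rfl]
      obtain ⟨⟨x, hx, hxne⟩, -⟩ := hD.nondegenerate i (d i) (hdD i) (hd0 i)
      obtain ⟨c, rfl⟩ := hdspan i x hx
      rw [Cfsg.Agent.Lib.Helper19.hermForm_smul_left] at hxne
      have ha0 : hermForm n F q (d i) (d i) ≠ 0 := fun h0 => hxne (by rw [h0, mul_zero])
      have ha : hermForm n F q (d i) (d i) ^ q = hermForm n F q (d i) (d i) :=
        Cfsg.Agent.Lib.Helper19.hermForm_conj hF (d i) (d i)
      rw [hq, sq] at ha
      have h2 : hermForm n F 2 (d i) (d i) * (hermForm n F 2 (d i) (d i) - 1) = 0 := by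
        rw [mul_sub, mul_one, ha, sub_self]
      rw [hq] at ha0 ⊢
      rcases mul_eq_zero.1 h2 with h3 | h3
      · exact absurd h3 ha0
      · exact sub_eq_zero.1 h3
    · rw [if_neg hij]
      exact hD.orthogonal i j hij (d i) (hdD i) (d j) (hdD j)
  -- the matrix with columns `d i`
  set M : Matrix (Fin n) (Fin n) F := Matrix.of (fun a i => d i a) with hMdef
  have hMcol : ∀ i, M *ᵥ Pi.single i 1 = d i := by
    intro i
    rw [Matrix.mulVec_single_one]
    funext a
    rfl
  have hM : Mᵀ * M.map φ = 1 := by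
    ext i j
    rw [Matrix.one_apply, ← horth i j, Matrix.mul_apply]
    unfold hermForm
    apply Finset.sum_congr rfl
    intro a _
    rw [Matrix.transpose_apply, Matrix.map_apply, hφ]
    rfl
  have hdet : M.det ≠ 0 := by
    intro h0
    have h2 := congrArg Matrix.det hM
    rw [Matrix.det_mul, Matrix.det_transpose, h0, zero_mul, Matrix.det_one] at h2
    exact zero_ne_one h2
  set g : GL (Fin n) F := Matrix.GeneralLinearGroup.mkOfDetNeZero M hdet with hgdef
  have hgM : (g : Matrix (Fin n) (Fin n) F) = M := rfl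
  refine ⟨g, ?_, ?_⟩
  · rw [Cfsg.Agent.Lib.Helper19.mem_GU_iff]
    intro x y
    rw [hgM, Cfsg.Agent.Lib.Helper40.GUConj.hermForm_mulVec_eq φ hφ, hM, Matrix.one_mulVec,
      ← Cfsg.Agent.Lib.Helper40.GUConj.hermForm_eq_dot φ hφ]
  · apply mem_decompositionStabilizer_conj_iff g D (stdFrame F n)
    intro i
    unfold stdFrame
    rw [Submodule.map_span, Set.image_singleton, Matrix.toLin'_apply, hgM, hMcol]
    apply le_antisymm
    · rw [Submodule.span_le, Set.singleton_subset_iff]
      exact hdD i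
    · intro w hw
      obtain ⟨c, rfl⟩ := hdspan i w hw
      exact Submodule.smul_mem _ _ (Submodule.subset_span rfl)

end Cfsg.Agent.Lib.Helper68.SU6K
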