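import Mathlib
import Cfsg.Agent.Lib.Helper68.Soft

set_option autoImplicit false

namespace Cfsg.Agent.Lib.Helper68

universe u

section Quot

variable {P : Type*} [Group P] (W : Subgroup P) [W.Normal]

theorem mem_normalizer_of_mk_mem_centralizer [Finite P] {E : Subgroup P} (hWE : W ≤ E) {g : P}
    (hg : (QuotientGroup.mk' W) g ∈
      Subgroup.centralizer ((E.map (QuotientGroup.mk' W) : Subgroup (P ⧸ W)) : Set (P ⧸ W))) :
    g ∈ Subgroup.normalizer (E : Set P) := by
  apply mem_normalizer_of_cj_le
  intro y hy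
  rw [mem_cj] at hy
  obtain ⟨a, ha, rfl⟩ := hy
  have h1 := Subgroup.mem_centralizer_iff.1 hg ((QuotientGroup.mk' W) a)
    (Subgroup.mem_map_of_mem _ ha)
  have h3 : (g * a * g⁻¹ * a⁻¹) ∈ W := by
    rw [← QuotientGroup.eq_one_iff]
    have h4 : ((g * a * g⁻¹ * a⁻¹ : P) : P ⧸ W) =
        (QuotientGroup.mk' W) g * (QuotientGroup.mk' W) a * ((QuotientGroup.mk' W) g)⁻¹ *
          ((QuotientGroup.mk' W) a)⁻¹ := by
      simp
    rw [h4, ← h1]
    group
  have h5 : g * a * g⁻¹ = (g * a * g⁻¹ * a⁻¹) * a := by group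
  rw [h5]
  exact E.mul_mem (hWE h3) ha

end Quot

theorem le_centralizer_singleton_of_mem {G : Type*} [Group G] (A : Subgroup G) [IsMulCommutative ↥A]
    {x : G} (hx : x ∈ A) : A ≤ Subgroup.centralizer ({x} : Set G) :=
  (Subgroup.le_centralizer_iff_isMulCommutative.2 inferInstance).trans
    (Subgroup.centralizer_le (Set.singleton_subset_iff.2 hx))

/-- a soft subgroup and a conjugate by an element outside the maximal subgroup generate it -/
theorem Soft.sup_cj_eq {P : Type u} [Group P] [Finite P] {p : ℕ} [Fact p.Prime]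
    (hP : IsPGroup p P) {E : Subgroup P} (hE : Soft p E) {K : Subgroup P} [hKn : K.Normal]
    (hEK : E ≤ K) {g : P} (hg : g ∉ K) : E ⊔ cj g E = K := by
  classical
  have hp : p.Prime := Fact.out
  have hKt : K ≠ ⊤ := by
    intro h; apply hg; rw [h]; trivial
  have hcjK : cj g E ≤ K := by
    rw [← cj_normal g K]
    exact cj_mono g hEK
  have hJK : E ⊔ cj g E ≤ K := sup_le hEK hcjK
  by_contra hne
  have hJlt : E ⊔ cj g E < K := lt_of_le_of_ne hJK hne
  let 𝒞 : Set (Subgroup P) := {X | E ⊔ cj g E ≤ X ∧ X < K}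
  have hfin : 𝒞.Finite := Set.toFinite _
  have hne' : 𝒞.Nonempty := ⟨E ⊔ cj g E, le_rfl, hJlt⟩
  obtain ⟨M, hM, hmax⟩ := Set.exists_max_image 𝒞 (fun X : Subgroup P => Nat.card X) hfin hne'
  obtain ⟨hJM, hMK⟩ := hM
  have hEM : E ≤ M := le_sup_left.trans hJM
  have hMt : M ≠ ⊤ := fun h => by
    rw [h] at hMK
    exact not_top_lt hMK
  haveI : Group.IsNilpotent P := hP.isNilpotent
  have hnc : NormalizerCondition P := Group.normalizerCondition_of_isNilpotent
  have hMN : M < Subgroup.normalizer (M : Set P) := hnc M (lt_top_iff_ne_top.2 hMt)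
  have hKN : K ≤ Subgroup.normalizer (M : Set P) := by
    rcases hE.le_total hP (hEK) (hEM.trans hMN.le) with h | h
    · exact h
    · rcases eq_or_lt_of_le h with h' | h'
      · exact h'.ge
      · exfalso
        have h1 := hmax (Subgroup.normalizer (M : Set P)) ⟨hJM.trans hMN.le, h'⟩
        have h2 : Nat.card M < Nat.card (Subgroup.normalizer (M : Set P)) := by
          by_contra hge
          exact hMN.not_ge (Subgroup.eq_of_le_of_card_ge hMN.le (Nat.not_lt.1 hge)).ge
        exact absurd h1 (Nat.not_le.2 h2)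
  have hKeq : K = Subgroup.normalizer (M : Set P) :=
    eq_of_lt_of_relIndex_prime hp (hE.relIndex_normalizer hP hEM hMt) hMK hKN
  have hEM' : E ≤ cj g⁻¹ M := by
    have := cj_mono g⁻¹ (le_sup_right.trans hJM : cj g E ≤ M)
    rwa [cj_inv_cj] at this
  have hcjM : cj g⁻¹ M = M := by
    rcases hE.le_total hP hEM' hEM with h | h
    · exact Subgroup.eq_of_le_of_card_ge h (by rw [card_cj])
    · exact (Subgroup.eq_of_le_of_card_ge h (by rw [card_cj])).symm
  have hginv : g⁻¹ ∈ K := by
    rw [hKeq]
    exact cj_eq_self_iff.1 hcjM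
  exact hg (by simpa using K.inv_mem hginv)

/-- the centre of `K` as a subgroup of the ambient group -/
abbrev zOf {P : Type*} [Group P] (K : Subgroup P) : Subgroup P :=
  K ⊓ Subgroup.centralizer (K : Set P)

instance zOf_normal {P : Type*} [Group P] (K : Subgroup P) [K.Normal] : (zOf K).Normal :=
  inferInstanceAs (K ⊓ Subgroup.centralizer (K : Set P)).Normal

/-- key step: modulo the centre of the maximal subgroup `K` over a soft subgroup `E`,
the normalizer of `E` becomes soft -/
theorem Soft.map_mk_zOf {P : Type u} [Group P] [Finite P] {p : ℕ} [Fact p.Prime]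
    (hP : IsPGroup p P) {E : Subgroup P} (hE : Soft p E) {K : Subgroup P} [hKn : K.Normal]
    (hEK : E < K) (hKt : K ≠ ⊤) :
    zOf K ≤ E ∧ Soft p ((Subgroup.normalizer (E : Set P)).map (QuotientGroup.mk' (zOf K))) := by
  classical
  have hp : p.Prime := Fact.out
  haveI := hE.comm
  set N1 := Subgroup.normalizer (E : Set P) with hN1
  set Z := zOf K with hZ
  set π := QuotientGroup.mk' Z with hπ
  have hN1K : N1 ≤ K := hE.normalizer_le hP hEK
  have hN1t : N1 ≠ ⊤ := fun h => hKt (eq_top_iff.2 (h ▸ hN1K))
  have hZE : Z ≤ E := by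
    refine le_trans ?_ hE.cent
    exact inf_le_right.trans (Subgroup.centralizer_le (by exact_mod_cast hEK.le))
  obtain ⟨g, hg⟩ : ∃ g : P, g ∉ K := by
    by_contra h
    push Not at h
    exact hKt (eq_top_iff.2 fun x _ => h x)
  have hsup := hE.sup_cj_eq hP hEK.le hg
  have hinf : E ⊓ cj g E ≤ Z := by
    intro x hx
    refine ⟨hEK.le hx.1, ?_⟩
    have h1 : K ≤ Subgroup.centralizer ({x} : Set P) := by
      rw [← hsup]
      exact sup_le (le_centralizer_singleton_of_mem E hx.1) (le_centralizer_singleton_of_mem _ hx.2)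
    show x ∈ Subgroup.centralizer (K : Set P)
    rw [Subgroup.mem_centralizer_iff]
    intro k hk
    exact (Subgroup.mem_centralizer_iff.1 (h1 hk) x rfl).symm
  set Kb := K.map π with hKb
  haveI hKbn : Kb.Normal := hKn.map π (QuotientGroup.mk'_surjective Z)
  set T := K ⊓ (Subgroup.centralizer (Kb : Set (P ⧸ Z))).comap π with hT
  haveI hTn : T.Normal := by
    haveI : ((Subgroup.centralizer (Kb : Set (P ⧸ Z))).comap π).Normal :=
      Subgroup.Normal.comap inferInstance π
    exact inferInstanceAs (K ⊓ (Subgroup.centralizer (Kb : Set (P ⧸ Z))).comap π).Normal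
  have hTE : ¬ T ≤ E := by
    intro hTE
    have h1 : T ≤ cj g E := by
      rw [← cj_normal g T]
      exact cj_mono g hTE
    have hTZ : T ≤ Z := (le_inf hTE h1).trans hinf
    have hKbbot : Kb = ⊥ := by
      by_contra hne
      obtain ⟨x, hxK, hxc, hx1⟩ :=
        Cfsg.Agent.Lib.Helper38.normal_inf_center_ne_bot p (hP.to_quotient Z) Kb hne
      obtain ⟨y, hyK, rfl⟩ := hxK
      have hyT : y ∈ T := ⟨hyK, Subgroup.center_le_centralizer _ hxc⟩
      exact hx1 ((QuotientGroup.eq_one_iff y).2 (hTZ hyT))
    have hKZ : K ≤ Z := by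
      intro k hk
      rw [← QuotientGroup.eq_one_iff]
      have : π k ∈ Kb := Subgroup.mem_map_of_mem _ hk
      rw [hKbbot] at this
      exact this
    exact hEK.not_ge (hKZ.trans hZE)
  have hTN : T ≤ N1 := by
    intro t ht
    apply mem_normalizer_of_mk_mem_centralizer Z hZE
    exact Subgroup.centralizer_le (by exact_mod_cast Subgroup.map_mono hEK.le) ht.2
  have hsupT : E ⊔ T = N1 := by
    apply eq_of_lt_of_relIndex_prime hp hE.idx
    · apply lt_of_le_of_ne le_sup_left
      intro h
      apply hTE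
      rw [h]
      exact le_sup_right
    · exact sup_le Subgroup.le_normalizer hTN
  have hTb : T.map π ≤ Subgroup.centralizer (Kb : Set (P ⧸ Z)) := by
    rintro _ ⟨t, ht, rfl⟩
    exact ht.2
  have hEb : E.map π ≤ Kb := Subgroup.map_mono hEK.le
  have hTbK : T.map π ≤ Kb := Subgroup.map_mono inf_le_left
  have hab : IsMulCommutative ↥(N1.map π) := by
    rw [← hsupT, Subgroup.map_sup, ← Subgroup.le_centralizer_iff_isMulCommutative]
    apply sup_le
    · rw [Subgroup.le_centralizer_iff]
      apply sup_le
      · rw [Subgroup.le_centralizer_iff_isMulCommutative]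
        infer_instance
      · exact hTb.trans (Subgroup.centralizer_le (by exact_mod_cast hEb))
    · exact hTb.trans (Subgroup.centralizer_le (by exact_mod_cast sup_le hEb hTbK))
  have h2 := hE.relIndex_normalizer hP (Subgroup.le_normalizer : E ≤ N1) hN1t
  exact ⟨hZE, hE.map_mk Z hZE hab h2⟩

/-- class of `K` versus class of its image modulo its centre -/
theorem nilpotencyClass_map_mk_zOf {P : Type*} [Group P] (K : Subgroup P) [K.Normal]
    [Group.IsNilpotent ↥K] :
    Group.nilpotencyClass ↥K ≤
        Group.nilpotencyClass ↥(K.map (QuotientGroup.mk' (zOf K))) + 1 ∧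
      Group.nilpotencyClass ↥(K.map (QuotientGroup.mk' (zOf K))) ≤
        Group.nilpotencyClass ↥K - 1 := by
  set φ := (QuotientGroup.mk' (zOf K)).subgroupMap K with hφ
  have hsurj : Function.Surjective φ := MonoidHom.subgroupMap_surjective _ _
  have hker : φ.ker = Subgroup.center ↥K := by
    ext x
    rw [MonoidHom.mem_ker, Subgroup.mem_center_iff]
    have h1 : φ x = 1 ↔ (x : P) ∈ zOf K := by
      rw [← QuotientGroup.eq_one_iff]
      constructor
      · intro h
        have := congrArg Subtype.val h
        simpa [hφ] using this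
      · intro h
        apply Subtype.ext
        simpa [hφ] using h
    rw [h1]
    constructor
    · intro h y
      have := Subgroup.mem_centralizer_iff.1 h.2 (y : P) y.2
      exact Subtype.ext this
    · intro h
      refine ⟨x.2, ?_⟩
      show (x : P) ∈ Subgroup.centralizer (K : Set P)
      rw [Subgroup.mem_centralizer_iff]
      intro k hk
      exact congrArg Subtype.val (h ⟨k, hk⟩)
  haveI : Group.IsNilpotent ↥(K.map (QuotientGroup.mk' (zOf K))) :=
    Group.nilpotent_of_surjective φ hsurj
  constructor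
  · exact Group.nilpotencyClass_le_of_ker_le_center φ hker.le
  · set ψ := QuotientGroup.lift (Subgroup.center ↥K) φ (fun x hx => by
      rw [← hker] at hx; exact hx) with hψ
    have hψs : Function.Surjective ψ := by
      intro y
      obtain ⟨x, rfl⟩ := hsurj y
      exact ⟨(x : ↥K ⧸ Subgroup.center ↥K), by simp [hψ]⟩
    have := Group.nilpotencyClass_le_of_surjective ψ hψs
    rwa [Group.nilpotencyClass_quotient_center] at this

theorem Soft.nontrivial {P : Type*} [Group P] {p : ℕ} (hp : p.Prime) {E : Subgroup P}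
    (hE : Soft p E) : Nontrivial ↥E := by
  by_contra h
  rw [not_nontrivial_iff_subsingleton] at h
  apply hE.ne_top hp
  rw [eq_top_iff]
  intro x _
  apply hE.cent
  rw [Subgroup.mem_centralizer_iff]
  intro e he
  have : (⟨e, he⟩ : ↥E) = 1 := Subsingleton.elim _ _
  have h1 : e = 1 := congrArg Subtype.val this
  rw [h1]; simp

/-- Part II: nilpotency class of the maximal subgroup over a soft subgroup -/
theorem Soft.class_aux (p : ℕ) [Fact p.Prime] (i : ℕ) :
    ∀ (P : Type u) [Group P] [Finite P], IsPGroup p P →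
    ∀ (E K : Subgroup P), Soft p E → K.Normal → K.index = p → E ≤ K → E.relIndex K = p ^ i →
    Group.nilpotencyClass ↥K = i + 1 := by
  have hp : p.Prime := Fact.out
  induction i with
  | zero =>
    intro P _ _ hP E K hE hKn hKi hEK hrel
    rw [pow_zero, Subgroup.relIndex_eq_one] at hrel
    obtain rfl : K = E := le_antisymm hrel hEK
    haveI : Group.IsNilpotent ↥K := (hP.to_subgroup K).isNilpotent
    have h1 : Group.nilpotencyClass ↥K ≤ 1 := Group.IsNilpotent.nilpotencyClass_le_one_iff.2 hE.comm
    have h0 : Group.nilpotencyClass ↥K ≠ 0 := by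
      intro h
      rw [Group.nilpotencyClass_zero_iff_subsingleton] at h
      haveI := hE.nontrivial hp
      exact false_of_nontrivial_of_subsingleton ↥K
    omega
  | succ i ih =>
    intro P _ _ hP E K hE hKn hKi hEK hrel
    have hEKlt : E < K := by
      apply lt_of_le_of_ne hEK
      rintro rfl
      rw [Subgroup.relIndex_eq_one.2 le_rfl] at hrel
      have := Nat.one_lt_pow (Nat.succ_ne_zero i) hp.one_lt
      rw [← hrel] at this
      exact lt_irrefl _ this
    have hKt : K ≠ ⊤ := by
      intro h
      rw [h, Subgroup.index_top] at hKi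
      exact hp.one_lt.ne hKi
    obtain ⟨hZE, hsoft⟩ := hE.map_mk_zOf hP hEKlt hKt
    set Z := zOf K with hZ
    set N1 := Subgroup.normalizer (E : Set P) with hN1
    have hZK : Z ≤ K := inf_le_left
    have hN1K : N1 ≤ K := hE.normalizer_le hP hEKlt
    have hZN : Z ≤ N1 := hZE.trans Subgroup.le_normalizer
    have hKbn : (K.map (QuotientGroup.mk' Z)).Normal := hKn.map _ (QuotientGroup.mk'_surjective Z)
    have hKbi : (K.map (QuotientGroup.mk' Z)).index = p := by
      rw [Subgroup.index_map_eq _ (QuotientGroup.mk'_surjective Z)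
        (by rw [QuotientGroup.ker_mk']; exact hZK)]
      exact hKi
    have hrel' : (N1.map (QuotientGroup.mk' Z)).relIndex (K.map (QuotientGroup.mk' Z)) = p ^ i := by
      rw [relIndex_map_mk Z hZN hZK]
      have h1 := Subgroup.relIndex_mul_relIndex E N1 K Subgroup.le_normalizer hN1K
      rw [hE.idx, hrel, pow_succ, mul_comm] at h1
      exact Nat.eq_of_mul_eq_mul_right hp.pos h1
    have hcl := ih (P ⧸ Z) (hP.to_quotient Z) _ _ hsoft hKbn hKbi (Subgroup.map_mono hN1K) hrel'
    haveI : Group.IsNilpotent ↥K := (hP.to_subgroup K).isNilpotent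
    obtain ⟨h1, h2⟩ := nilpotencyClass_map_mk_zOf K
    rw [hcl] at h1 h2
    omega

theorem Soft.subgroupOf {P : Type*} [Group P] {p : ℕ} {E L : Subgroup P} (hE : Soft p E)
    (hNL : Subgroup.normalizer (E : Set P) ≤ L) : Soft p (E.subgroupOf L) := by
  haveI := hE.comm
  have hEL : E ≤ L := Subgroup.le_normalizer.trans hNL
  refine ⟨inferInstance, ?_, ?_⟩
  · intro x hx
    rw [Subgroup.mem_subgroupOf]
    apply hE.cent
    rw [Subgroup.mem_centralizer_iff]
    intro e he
    have := Subgroup.mem_centralizer_iff.1 hx ⟨e, hEL he⟩ (Subgroup.mem_subgroupOf.2 he)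
    exact congrArg Subtype.val this
  · rw [← Subgroup.subgroupOf_normalizer_eq hEL, Subgroup.relIndex_subgroupOf hNL]
    exact hE.idx

theorem nilpotencyClass_congr {G H : Type*} [Group G] [Group H] [Group.IsNilpotent G]
    [Group.IsNilpotent H] (e : G ≃* H) : Group.nilpotencyClass G = Group.nilpotencyClass H :=
  le_antisymm (Group.nilpotencyClass_le_of_surjective e.symm.toMonoidHom e.symm.surjective)
    (Group.nilpotencyClass_le_of_surjective e.toMonoidHom e.surjective)

/-- the soft subgroup theorem (Hethelyi): overgroups of a soft subgroup form a chain with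
steps of index `p`, and the proper ones `i` steps above have class `i + 1` -/
theorem Soft.nilpotencyClass_eq {P : Type u} [Group P] [Finite P] {p : ℕ} [Fact p.Prime]
    (hP : IsPGroup p P) {E : Subgroup P} (hE : Soft p E) (i : ℕ) {K : Subgroup P}
    (hEK : E ≤ K) (hKt : K ≠ ⊤) (hidx : K.index * p ^ i = E.index) :
    Group.nilpotencyClass ↥K = i + 1 := by
  have hp : p.Prime := Fact.out
  set L := Subgroup.normalizer (K : Set P) with hL
  have hKL : K ≤ L := Subgroup.le_normalizer
  have hNL : Subgroup.normalizer (E : Set P) ≤ L := by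
    rcases eq_or_lt_of_le hEK with h | h
    · rw [hL, ← h]
    · exact (hE.normalizer_le hP h).trans hKL
  have hE' := hE.subgroupOf hNL
  have hK'n : (K.subgroupOf L).Normal := Subgroup.normal_in_normalizer
  have hK'i : (K.subgroupOf L).index = p := hE.relIndex_normalizer hP hEK hKt
  have hle : E.subgroupOf L ≤ K.subgroupOf L := by
    intro x hx
    exact Subgroup.mem_subgroupOf.2 (hEK (Subgroup.mem_subgroupOf.1 hx))
  have hrel : (E.subgroupOf L).relIndex (K.subgroupOf L) = p ^ i := by
    rw [Subgroup.relIndex_subgroupOf hKL]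
    have h1 := Subgroup.relIndex_mul_index hEK
    rw [← hidx, mul_comm] at h1
    exact Nat.eq_of_mul_eq_mul_left (Nat.pos_of_ne_zero Subgroup.index_ne_zero_of_finite) h1
  have hcl := Soft.class_aux p i ↥L (hP.to_subgroup L) _ _ hE' hK'n hK'i hle hrel
  haveI : Group.IsNilpotent ↥K := (hP.to_subgroup K).isNilpotent
  haveI : Group.IsNilpotent ↥(K.subgroupOf L) := ((hP.to_subgroup L).to_subgroup _).isNilpotent
  rw [← nilpotencyClass_congr (Subgroup.subgroupOfEquivOfLe hKL)]
  exact hcl

end Cfsg.Agent.Lib.Helper68
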