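import Cfsg.Agent.Lib.Helper64.StBDefs
import Cfsg.Agent.Lib.Helper08.BNPairParabolic
import Cfsg.Agent.Lib.Helper57.StBA3

/-!
# Right-handed `claimA` and additivity of the length for right-`K`-reduced elements (helper68)
Self-contained versions of K-S2311-A0' (`claimA_right`) and K-S2311-A1R (`len_mul_right_of_red`),
used by `StBB3`.
-/

set_option autoImplicit false

namespace Cfsg.Agent.Lib.Helper68.StB

open Cfsg Cfsg.Agent.Lib.Helper08 Cfsg.Agent.Lib.Helper64.StB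

variable {G : Type*} [Group G] (P : Cfsg.BNPair G)

/-- `l(n t) = l(t n⁻¹)` -/
theorem len_mul_S_eq_inv {t n : G} (ht : t ∈ P.S) (hn : n ∈ P.N) :
    len P (n * t) = len P (t * n⁻¹) := by
  have hnt : n * t ∈ P.N := P.N.mul_mem hn (P.subset ht)
  have hn' : n⁻¹ ∈ P.N := P.N.inv_mem hn
  rw [← Cfsg.Agent.Lib.Helper57.StB.len_inv' P hnt, mul_inv_rev]
  exact len_congr P (Eqv_inv_mul P ht hn')

/-- right-handed `claimA`: if `l(n t) > l(n)` then `n B t ⊆ B n t B`. -/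
theorem claimA_right' {t n : G} (ht : t ∈ P.S) (hn : n ∈ P.N) (hlt : len P n < len P (n * t))
    {b : G} (hb : b ∈ P.B) : DC P (n * t) (n * b * t) := by
  have hn' : n⁻¹ ∈ P.N := P.N.inv_mem hn
  have h1 : len P n⁻¹ < len P (t * n⁻¹) := by
    rw [Cfsg.Agent.Lib.Helper57.StB.len_inv' P hn, ← len_mul_S_eq_inv P ht hn]
    exact hlt
  have h2 : DC P (t * n⁻¹) (t * b⁻¹ * n⁻¹) := claimA P ht hn' h1 (P.B.inv_mem hb)
  have h3 := DC_inv P h2
  have e1 : (t * n⁻¹)⁻¹ = n * t⁻¹ := by group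
  have e2 : (t * b⁻¹ * n⁻¹)⁻¹ = n * b * t⁻¹ := by group
  rw [e1, e2] at h3
  have htt : t * t ∈ P.B := sq_mem_B P ht
  have h4 : DC P (n * t⁻¹) (n * b * t⁻¹ * (t * t)) := DC_mul_right P htt h3
  have e3 : n * b * t⁻¹ * (t * t) = n * b * t := by group
  rw [e3] at h4
  have h5 : Eqv P (n * t⁻¹) (n * t) := by
    have e4 : (n * t⁻¹)⁻¹ * (n * t) = t * t := by group
    rw [Eqv, e4]
    exact htt
  exact (Eqv_dc_iff P h5).1 h4

end Cfsg.Agent.Lib.Helper68.StB
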