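import Cfsg.Agent.Lib.Helper64.StBDefs
import Cfsg.Agent.Lib.Helper08.BNPairParabolic

/-!
# K-S2311-B3 core (helper68): `B ∩ n P_K n⁻¹ ⊆ n B n⁻¹` for right-`K`-reduced `n`,
with the two facts A0' (`claimA_right`) and A1R (`len_mul_right_of_red`) as hypotheses.
-/

set_option autoImplicit false

namespace Cfsg.Agent.Lib.Helper68.StB

open Cfsg Cfsg.Agent.Lib.Helper08 Cfsg.Agent.Lib.Helper64.StB

variable {G : Type*} [Group G] (P : Cfsg.BNPair G)

/-- subadditivity of the length along a word -/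
theorem len_mul_prod_le : ∀ (l : List G), (∀ a ∈ l, a ∈ P.S) → ∀ n ∈ P.N,
    len P (n * l.prod) ≤ len P n + l.length := by
  intro l
  induction l with
  | nil => intro _ n _; simp
  | cons a l ih =>
    intro hl n hn
    have ha : a ∈ P.S := hl a (List.mem_cons_self ..)
    have := ih (fun x hx => hl x (List.mem_cons_of_mem _ hx)) (n * a) (P.N.mul_mem hn (P.subset ha))
    have h2 := len_mul_S_le P ha hn
    rw [List.prod_cons, ← mul_assoc]
    simp only [List.length_cons]
    omega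

/-- `m B w ⊆ B m w B` when `l(m w) = l(m) + l(w)` (along a word of `w`). -/
theorem dc_mul_prod_of_len_add
    (hA0 : ∀ {t n b : G}, t ∈ P.S → n ∈ P.N → len P n < len P (n * t) → b ∈ P.B →
      DC P (n * t) (n * b * t)) :
    ∀ (l : List G), (∀ a ∈ l, a ∈ P.S) → ∀ m ∈ P.N, len P (m * l.prod) = len P m + l.length →
      ∀ b ∈ P.B, DC P (m * l.prod) (m * b * l.prod) := by
  intro l
  induction l with
  | nil =>
    intro _ m _ _ b hb
    simp only [List.prod_nil, mul_one]
    exact DC_mul_right P hb (DC_self P m)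
  | cons t l ih =>
    intro hl m hm hlen b hb
    have ht : t ∈ P.S := hl t (List.mem_cons_self ..)
    have hl' : ∀ a ∈ l, a ∈ P.S := fun x hx => hl x (List.mem_cons_of_mem _ hx)
    have hm' : m * t ∈ P.N := P.N.mul_mem hm (P.subset ht)
    have h1 := len_mul_prod_le P l hl' (m * t) hm'
    have h2 := len_mul_S_le P ht hm
    rw [List.prod_cons, ← mul_assoc, List.length_cons] at hlen
    have h3 : len P m < len P (m * t) := by omega
    have h4 : len P (m * t * l.prod) = len P (m * t) + l.length := by omega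
    obtain ⟨c1, hc1, c2, hc2, e⟩ := hA0 ht hm h3 hb
    have h5 := ih hl' (m * t) hm' h4 c2 hc2
    have e2 : m * b * (t :: l).prod = c1 * (m * t * c2 * l.prod) := by
      rw [List.prod_cons]
      calc m * b * (t * l.prod) = (m * b * t) * l.prod := by group
        _ = c1 * (m * t * c2 * l.prod) := by rw [e]; group
    rw [e2, List.prod_cons, ← mul_assoc]
    exact DC_mul_left P hc1 h5

/-- K-S2311-B3 with A0' and A1R as hypotheses. -/
theorem conj_mem_B_of_red_of {K : Set G} (hK : K ⊆ P.S) {n : G} (hn : n ∈ P.N)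
    (hA0 : ∀ {t n b : G}, t ∈ P.S → n ∈ P.N → len P n < len P (n * t) → b ∈ P.B →
      DC P (n * t) (n * b * t))
    (hA1 : ∀ {v : G}, v ∈ Subgroup.closure K → len P (n * v) = len P n + len P v)
    {x : G} (hx : x ∈ P.B) (h : n⁻¹ * x * n ∈ P.parabolic K) : n⁻¹ * x * n ∈ P.B := by
  obtain ⟨v, hv, hdc⟩ := (mem_parabolic_iff P hK _).1 h
  obtain ⟨l, hl, hlv⟩ := exists_word_of_mem_closure P hK hv
  have hlS : ∀ a ∈ l, a ∈ P.S := fun a ha => hK (hl a ha)
  obtain ⟨μ, hsub, hred, heqv⟩ := exists_reduced_sublist P l hlS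
  have hμK : ∀ a ∈ μ, a ∈ K := fun a ha => hl a (hsub.subset ha)
  have hμcl : μ.prod ∈ Subgroup.closure K :=
    Subgroup.list_prod_mem _ fun a ha => Subgroup.subset_closure (hμK a ha)
  have hμN : μ.prod ∈ P.N := prod_mem_N P hred.1
  have hdc' : DC P μ.prod (n⁻¹ * x * n) :=
    (Eqv_dc_iff P (Eqv_trans P (Eqv_symm P heqv) hlv)).2 hdc
  obtain ⟨b1, hb1, b2, hb2, e⟩ := hdc'
  have hlen : len P (n * μ.prod) = len P n + μ.length := by rw [hA1 hμcl, hred.2]
  have h1 : DC P (n * μ.prod) (n * b1 * μ.prod) :=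
    dc_mul_prod_of_len_add P hA0 μ hred.1 n hn hlen b1 hb1
  have h2 : DC P (n * μ.prod) (x * n) := by
    have e3 : x * n = (n * b1 * μ.prod) * b2 := by
      have e4 : x * n = n * (n⁻¹ * x * n) := by group
      rw [e4, e]; group
    rw [e3]
    exact DC_mul_right P hb2 h1
  have h3 : DC P n (x * n) := DC_mul_left P hx (DC_self P n)
  have h4 : DC P n (n * μ.prod) := DC_trans P h3 (DC_symm P h2)
  have h5 : Eqv P n (n * μ.prod) := bruhat_unique P hn (P.N.mul_mem hn hμN) h4
  have h6 : μ.prod ∈ P.B := by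
    have : n⁻¹ * (n * μ.prod) = μ.prod := by group
    rw [Eqv, this] at h5
    exact h5
  rw [e]
  exact P.B.mul_mem (P.B.mul_mem hb1 h6) hb2

end Cfsg.Agent.Lib.Helper68.StB
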