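import Cfsg.Agent.Lib.Helper64.StBDefs
import Cfsg.Agent.Lib.Helper68.StBB3Core
import Cfsg.Agent.Lib.Helper68.StBB3A
import Cfsg.Agent.Lib.Helper93.StBA1

/-!
# K-S2311-B3 (helper68): `B ∩ n P_K n⁻¹ ⊆ n B n⁻¹` for right-`K`-reduced `n`
-/

set_option autoImplicit false

namespace Cfsg.Agent.Lib.Helper68.StB

open Cfsg Cfsg.Agent.Lib.Helper08 Cfsg.Agent.Lib.Helper64.StB

variable {G : Type*} [Group G] (P : Cfsg.BNPair G)

/-- **K-S2311-B3.** -/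
theorem conj_mem_B_of_red {K : Set G} (hK : K ⊆ P.S) {n : G} (hn : n ∈ P.N)
    (hred : ∀ t ∈ K, len P n < len P (n * t)) {x : G} (hx : x ∈ P.B)
    (h : n⁻¹ * x * n ∈ P.parabolic K) : n⁻¹ * x * n ∈ P.B :=
  conj_mem_B_of_red_of P hK hn (fun ht hn hlt hb => claimA_right' P ht hn hlt hb)
    (fun hv => Cfsg.Agent.Lib.Helper93.StB.len_mul_right_of_red P hK hn hred hv) hx h

end Cfsg.Agent.Lib.Helper68.StB
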