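import Cfsg.Agent.Lib.Helper53.StOmDefs
import Cfsg.Agent.Lib.Helper50.MinusTwoB

/-!
# K-StOm-E2 (keystone 254925, architect helper53, S2549): in characteristic two `T ∩ Ω` has odd order
-/

set_option autoImplicit false
set_option linter.unusedSectionVars false
set_option linter.unusedVariables false
set_option linter.unusedSimpArgs false

namespace Cfsg.Agent.Lib.Helper68.StOm

open Cfsg Matrix Cfsg.Agent.Lib.Helper53.StOm

universe u

variable {m : ℕ} {F : Type u} [Field F] {a b : F}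

/-- an isometry whose matrix is a reflection matrix is not in `Ω` (characteristic two or not) -/
theorem refl_not_mem_Omega [Fintype F]
    (hab : ∀ z₁ z₂ : F, z₁ ^ 2 + a * z₁ * z₂ + b * z₂ ^ 2 = 0 → z₁ = 0 ∧ z₂ = 0)
    (g : OG m F a b) (v : MI m → F) (hv : Cfsg.quadFormMinus m F a b v ≠ 0)
    (hg : mat g = Cfsg.reflectionMatrix (Cfsg.quadFormMinus m F a b) v) :
    g ∉ Cfsg.Omega F (Cfsg.quadFormMinus m F a b) := by
  obtain ⟨K, hKf, hKa, hK⟩ := Cfsg.Agent.Lib.Helper50.exists_quadratic_extension a b hab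
  obtain ⟨θ, hθ⟩ := Cfsg.Agent.Lib.Helper50.exists_root_quadratic a b hK
  intro h
  have hd := Cfsg.Agent.Lib.Helper50.disc_ne_zero_of_anis a b hab
  have h1 := Cfsg.Agent.Lib.Helper50.Omega_le_pscSub (algebraMap F K) m a b hd θ hθ ⟨_, h, rfl⟩
  rw [Cfsg.Agent.Lib.Helper50.mem_pscSub] at h1
  exact Cfsg.Agent.Lib.Helper50.pscK_reflection_not (algebraMap F K) m a b hd θ hθ
    (Cfsg.Agent.Lib.Helper50.inclM m a b g) v hv hg h1

/-- the vector `v0 z_0 + v1 z_1` of the anisotropic plane -/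
def zvec (m : ℕ) (v0 v1 : F) : MI m → F := Sum.elim 0 ![v0, v1]

@[simp] theorem zvec_inl (v0 v1 : F) (x : Fin m ⊕ Fin m) : zvec m v0 v1 (Sum.inl x) = 0 := rfl
@[simp] theorem zvec_z0 (v0 v1 : F) : zvec m v0 v1 (Sum.inr 0) = v0 := rfl
@[simp] theorem zvec_z1 (v0 v1 : F) : zvec m v0 v1 (Sum.inr 1) = v1 := rfl

theorem quad_zvec (v0 v1 : F) :
    Cfsg.quadFormMinus m F a b (zvec m v0 v1) = v0 ^ 2 + a * v0 * v1 + b * v1 ^ 2 := by
  simp [Cfsg.quadFormMinus]

theorem polarVec_zvec_inl (v0 v1 : F) (x : Fin m ⊕ Fin m) :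
    Cfsg.polarVec (Cfsg.quadFormMinus m F a b) (zvec m v0 v1) (Sum.inl x) = 0 := by
  rcases x with i | i <;>
  simp [Cfsg.polarVec, QuadraticMap.polar, Cfsg.quadFormMinus, Pi.single_apply]

theorem polarVec_zvec_z0 (v0 v1 : F) :
    Cfsg.polarVec (Cfsg.quadFormMinus m F a b) (zvec m v0 v1) (Sum.inr 0) = 2 * v0 + a * v1 := by
  simp [Cfsg.polarVec, QuadraticMap.polar, Cfsg.quadFormMinus, Pi.single_apply]
  ring

theorem polarVec_zvec_z1 (v0 v1 : F) :
    Cfsg.polarVec (Cfsg.quadFormMinus m F a b) (zvec m v0 v1) (Sum.inr 1) = a * v0 + 2 * b * v1 := by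
  simp [Cfsg.polarVec, QuadraticMap.polar, Cfsg.quadFormMinus, Pi.single_apply]
  ring

theorem pos_inl_ne (x : Fin m ⊕ Fin m) : pos m (Sum.inl x) ≠ m := by
  rcases x with i | i
  · have := i.2; simp only [pos]; omega
  · have := i.2; simp only [pos]; omega

theorem entry_off_left (M : Matrix (MI m) (MI m) F)
    (hT : ∀ x y, pos m x ≠ pos m y → M x y = 0) (x y : MI m) (hxy : x ≠ y)
    (hx : pos m x ≠ m) : M x y = 0 := by
  apply hT
  intro h
  rcases pos_eq_imp m x y h with h1 | ⟨h1, _⟩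
  · exact hxy h1
  · exact hx h1

theorem entry_off_right (M : Matrix (MI m) (MI m) F)
    (hT : ∀ x y, pos m x ≠ pos m y → M x y = 0) (x y : MI m) (hxy : x ≠ y)
    (hy : pos m y ≠ m) : M x y = 0 := by
  apply hT
  intro h
  rcases pos_eq_imp m x y h with h1 | ⟨_, h1⟩
  · exact hxy h1
  · exact hy h1

section chartwo

variable [CharP F 2]

theorem eq_one_of_mul_self_eq_one (c : F) (h : c * c = 1) : c = 1 := by
  have h2 : (2 : F) = 0 := CharTwo.two_eq_zero
  have h3 : (c - 1) ^ 2 = 0 := by linear_combination h + (1 - c) * h2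
  exact sub_eq_zero.1 ((pow_eq_zero_iff (by norm_num : (2 : ℕ) ≠ 0)).1 h3)

/-- the action of a block diagonal matrix on the plane -/
theorem mulVec_zvec (M : Matrix (MI m) (MI m) F)
    (hT : ∀ x y, pos m x ≠ pos m y → M x y = 0) (c0 c1 : F) :
    M *ᵥ zvec m c0 c1 =
      zvec m (M (Sum.inr 0) (Sum.inr 0) * c0 + M (Sum.inr 0) (Sum.inr 1) * c1)
        (M (Sum.inr 1) (Sum.inr 0) * c0 + M (Sum.inr 1) (Sum.inr 1) * c1) := by
  ext x
  simp only [Matrix.mulVec, dotProduct, Fintype.sum_sum_type, zvec_inl, mul_zero,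
    Finset.sum_const_zero, zero_add, Fin.sum_univ_two, zvec_z0, zvec_z1]
  rcases x with x | j
  · have h0 : M (Sum.inl x) (Sum.inr 0) = 0 :=
      entry_off_left M hT _ _ (by simp) (pos_inl_ne x)
    have h1 : M (Sum.inl x) (Sum.inr 1) = 0 :=
      entry_off_left M hT _ _ (by simp) (pos_inl_ne x)
    rw [h0, h1]; simp
  · fin_cases j <;> simp

/-- entries of a reflection matrix in a vector of the plane -/
theorem refl_zvec_apply (v0 v1 : F) (x y : MI m) :
    Cfsg.reflectionMatrix (Cfsg.quadFormMinus m F a b) (zvec m v0 v1) x y =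
      (1 : Matrix (MI m) (MI m) F) x y -
        (Cfsg.quadFormMinus m F a b (zvec m v0 v1))⁻¹ *
          (zvec m v0 v1 x * Cfsg.polarVec (Cfsg.quadFormMinus m F a b) (zvec m v0 v1) y) := by
  simp [Cfsg.reflectionMatrix, Matrix.sub_apply, Matrix.smul_apply, Matrix.vecMulVec_apply]

theorem core
    (hab : ∀ z₁ z₂ : F, z₁ ^ 2 + a * z₁ * z₂ + b * z₂ ^ 2 = 0 → z₁ = 0 ∧ z₂ = 0)
    (M : Matrix (MI m) (MI m) F)
    (hT : ∀ x y, pos m x ≠ pos m y → M x y = 0) (hsq : M * M = 1)
    (hQ : ∀ u, Cfsg.quadFormMinus m F a b (M *ᵥ u) = Cfsg.quadFormMinus m F a b u) :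
    M = 1 ∨ ∃ v, Cfsg.quadFormMinus m F a b v ≠ 0 ∧
      M = Cfsg.reflectionMatrix (Cfsg.quadFormMinus m F a b) v := by
  have h2 : (2 : F) = 0 := CharTwo.two_eq_zero
  -- diagonal entries outside the plane
  have hdiag : ∀ x : Fin m ⊕ Fin m, M (Sum.inl x) (Sum.inl x) = 1 := by
    intro x
    apply eq_one_of_mul_self_eq_one
    have h := congrFun (congrFun hsq (Sum.inl x)) (Sum.inl x)
    rw [Matrix.mul_apply, Matrix.one_apply_eq, Finset.sum_eq_single (Sum.inl x)] at h
    · exact h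
    · intro w _ hw
      rw [entry_off_left M hT _ _ (Ne.symm hw) (pos_inl_ne x), zero_mul]
    · intro h'; exact absurd (Finset.mem_univ _) h'
  -- the plane block
  have hZ : ∀ j k : Fin 2, M (Sum.inr j) (Sum.inr 0) * M (Sum.inr 0) (Sum.inr k) +
      M (Sum.inr j) (Sum.inr 1) * M (Sum.inr 1) (Sum.inr k) =
        (1 : Matrix (MI m) (MI m) F) (Sum.inr j) (Sum.inr k) := by
    intro j k
    have h := congrFun (congrFun hsq (Sum.inr j)) (Sum.inr k)
    rw [Matrix.mul_apply, Fintype.sum_sum_type, Fin.sum_univ_two] at h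
    rw [← h]
    have : ∑ w : Fin m ⊕ Fin m, M (Sum.inr j) (Sum.inl w) * M (Sum.inl w) (Sum.inr k) = 0 := by
      refine Finset.sum_eq_zero fun w _ => ?_
      rw [entry_off_right M hT _ _ (by simp) (pos_inl_ne w), zero_mul]
    rw [this, zero_add]
  have hQz : ∀ c0 c1 : F,
      (M (Sum.inr 0) (Sum.inr 0) * c0 + M (Sum.inr 0) (Sum.inr 1) * c1) ^ 2 +
        a * (M (Sum.inr 0) (Sum.inr 0) * c0 + M (Sum.inr 0) (Sum.inr 1) * c1) *
          (M (Sum.inr 1) (Sum.inr 0) * c0 + M (Sum.inr 1) (Sum.inr 1) * c1) +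
        b * (M (Sum.inr 1) (Sum.inr 0) * c0 + M (Sum.inr 1) (Sum.inr 1) * c1) ^ 2 =
      c0 ^ 2 + a * c0 * c1 + b * c1 ^ 2 := by
    intro c0 c1
    have h := hQ (zvec m c0 c1)
    rw [mulVec_zvec M hT, quad_zvec, quad_zvec] at h
    exact h
  obtain ⟨p, hp⟩ : ∃ p, p = M (Sum.inr 0) (Sum.inr 0) := ⟨_, rfl⟩
  obtain ⟨q', hq'⟩ : ∃ q', q' = M (Sum.inr 0) (Sum.inr 1) := ⟨_, rfl⟩
  obtain ⟨r, hr⟩ : ∃ r, r = M (Sum.inr 1) (Sum.inr 0) := ⟨_, rfl⟩
  obtain ⟨s, hs⟩ : ∃ s, s = M (Sum.inr 1) (Sum.inr 1) := ⟨_, rfl⟩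
  have A1 : p * p + q' * r = 1 := by
    have := hZ 0 0; rw [← hp, ← hq', ← hr] at this; simpa using this
  have A4 : r * q' + s * s = 1 := by
    have := hZ 1 1; rw [← hs, ← hq', ← hr] at this; simpa using this
  have E1 : p ^ 2 + a * p * r + b * r ^ 2 = 1 := by
    have := hQz 1 0; rw [← hp, ← hr] at this; simpa using this
  have E2 : q' ^ 2 + a * q' * s + b * s ^ 2 = b := by
    have := hQz 0 1; rw [← hq', ← hs] at this; simpa using this
  have D1 : s = p := by
    have h3 : (p - s) ^ 2 = 0 := by linear_combination (A1 - A4) + (s * s - p * s) * h2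
    have := (pow_eq_zero_iff (by norm_num : (2 : ℕ) ≠ 0)).1 h3
    linear_combination -this
  subst D1
  -- entries of `M`
  have hMinl : ∀ (x : Fin m ⊕ Fin m) (y : MI m),
      M (Sum.inl x) y = (1 : Matrix (MI m) (MI m) F) (Sum.inl x) y := by
    intro x y
    by_cases hxy : Sum.inl x = y
    · subst hxy; rw [hdiag, Matrix.one_apply_eq]
    · rw [entry_off_left M hT _ _ hxy (pos_inl_ne x), Matrix.one_apply_ne hxy]
  have hMinr : ∀ (j : Fin 2) (y : Fin m ⊕ Fin m),
      M (Sum.inr j) (Sum.inl y) = (1 : Matrix (MI m) (MI m) F) (Sum.inr j) (Sum.inl y) := by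
    intro j y
    rw [entry_off_right M hT _ _ (by simp) (pos_inl_ne y), Matrix.one_apply_ne (by simp)]
  by_cases hr0 : r = 0
  · -- `r = 0`
    have hp1 : s = 1 := eq_one_of_mul_self_eq_one s (by rw [hr0, mul_zero, add_zero] at A1; exact A1)
    have hq2 : q' * (q' + a) = 0 := by
      rw [hp1] at E2
      linear_combination E2
    rcases mul_eq_zero.1 hq2 with hq0 | hqa
    · left
      ext x y
      rcases x with x | j
      · exact hMinl x y
      · rcases y with y | k
        · exact hMinr j y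
        · fin_cases j <;> fin_cases k <;>
            simp [← hp, ← hq', ← hr, ← hs, hr0, hp1, hq0, Matrix.one_apply]
    · right
      refine ⟨zvec m 1 0, ?_, ?_⟩
      · rw [quad_zvec]; simp
      · ext x y
        rw [refl_zvec_apply, quad_zvec]
        rcases x with x | j
        · rw [hMinl x y]; simp
        · rcases y with y | k
          · rw [hMinr j y, polarVec_zvec_inl]; simp
          · have hqa' : q' = -a := by linear_combination hqa
            fin_cases j <;> fin_cases k <;>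
              simp [← hp, ← hq', ← hr, ← hs, hr0, hp1, hqa', Matrix.one_apply,
                polarVec_zvec_z0, polarVec_zvec_z1, h2]
  · -- `r ≠ 0`
    right
    obtain ⟨D, hD⟩ : ∃ D : F, D = 2 * (s - 1) + a * r := ⟨_, rfl⟩
    have hQv : Cfsg.quadFormMinus m F a b (zvec m (s - 1) r) = -D := by
      rw [quad_zvec, hD]; linear_combination E1
    have hQv0 : Cfsg.quadFormMinus m F a b (zvec m (s - 1) r) ≠ 0 := by
      rw [quad_zvec]
      intro h
      exact hr0 (hab _ _ h).2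
    refine ⟨zvec m (s - 1) r, hQv0, ?_⟩
    have hD0 : D ≠ 0 := by
      intro h; rw [hQv, h, neg_zero] at hQv0; exact hQv0 rfl
    ext x y
    rw [refl_zvec_apply]
    rcases x with x | j
    · rw [hMinl x y]; simp
    · rcases y with y | k
      · rw [hMinr j y, polarVec_zvec_inl]; simp
      · rw [hQv]
        have hj : j = 0 ∨ j = 1 := by fin_cases j <;> simp
        have hk : k = 0 ∨ k = 1 := by fin_cases k <;> simp
        rcases hj with rfl | rfl <;> rcases hk with rfl | rfl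
        · rw [← hp, polarVec_zvec_z0, zvec_z0, Matrix.one_apply_eq, ← hD]
          field_simp
          ring
        · rw [← hq', polarVec_zvec_z1, zvec_z0, Matrix.one_apply_ne (by simp)]
          field_simp
          rw [hD]
          linear_combination (-a) * A1 + (-(a * (1 - q' * r - s) + b * r * (s - 1) - (s - 1) * q')) * h2
        · rw [← hr, polarVec_zvec_z0, zvec_z1, Matrix.one_apply_ne (by simp), ← hD]
          field_simp
          ring
        · rw [← hs, polarVec_zvec_z1, zvec_z1, Matrix.one_apply_eq]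
          field_simp
          rw [hD]
          linear_combination ((s - 1) ^ 2 - b * r ^ 2) * h2

end chartwo

/-- LEAF E2 (254925) -/
theorem not_two_dvd_card_T_inf_Omega [Fintype F] [CharP F 2]
    (hab : ∀ z₁ z₂ : F, z₁ ^ 2 + a * z₁ * z₂ + b * z₂ ^ 2 = 0 → z₁ = 0 ∧ z₂ = 0) :
    ¬ 2 ∣ Nat.card ↥(Tsub m F a b ⊓ Cfsg.Omega F (Cfsg.quadFormMinus m F a b)) := by
  intro hdvd
  have : Fact (Nat.Prime 2) := ⟨Nat.prime_two⟩
  obtain ⟨t, ht⟩ := exists_prime_orderOf_dvd_card' 2 hdvd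
  have ht2 : t ^ 2 = 1 := by
    have := pow_orderOf_eq_one t
    rwa [ht] at this
  have ht1 : t ≠ 1 := by
    intro h; rw [h, orderOf_one] at ht; exact absurd ht (by norm_num)
  obtain ⟨g, hg⟩ := t
  have hgT : g ∈ Tsub m F a b := hg.1
  have hgO : g ∈ Cfsg.Omega F (Cfsg.quadFormMinus m F a b) := hg.2
  have hgg : g * g = 1 := by
    have := congrArg Subtype.val ht2
    simpa [pow_two] using this
  have hg1 : g ≠ 1 := by
    intro h; apply ht1; exact Subtype.ext h
  have hsq : mat g * mat g = 1 := by rw [← mat_mul, hgg, mat_one]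
  rcases core hab (mat g) ((mem_Tsub_iff g).1 hgT) hsq (quad_mulVec g) with h1 | ⟨v, hv, hM⟩
  · exact hg1 (mat_injective (by rw [h1, mat_one]))
  · exact refl_not_mem_Omega hab g v hv hM hgO

end Cfsg.Agent.Lib.Helper68.StOm
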