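import Cfsg.Agent.Lib.Helper49.StSUDefs

/-!
# K-StSU: sesquilinear calculus for `hJ` and the Eichler / Siegel elements

`eiMat q p v c = 1 + v e_{rev p}ᵀ + e_p (c e_{rev p} - v*)ᵀ`, acting by
`x ↦ x + x_{rev p} v + (c x_{rev p} - hJ x v) e_p`; it preserves `hJ` when `p ≠ rev p`,
`v p = v (rev p) = 0` and `c + c^q = - hJ v v`.
-/

set_option autoImplicit false
set_option linter.unusedSectionVars false
set_option linter.unusedVariables false

namespace Cfsg.Agent.Lib.Helper68.StSU

open Cfsg Cfsg.Agent.Lib.Helper49.StSU Matrix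

variable {n : ℕ} {F : Type*} [Field F] {q : ℕ}

theorem q_ne_zero_of_ok (ok : Ok n F q) : q ≠ 0 := by
  rintro rfl
  have := ok.frob_frob 0
  simp at this

/-- the Frobenius `x ↦ x^q` as a ring homomorphism -/
def frob (ok : Ok n F q) : F →+* F where
  toFun x := x ^ q
  map_one' := one_pow q
  map_mul' x y := mul_pow x y q
  map_zero' := zero_pow (q_ne_zero_of_ok ok)
  map_add' := ok.frob_add

theorem frob_apply (ok : Ok n F q) (x : F) : frob ok x = x ^ q := rfl

theorem pow_q_sub (ok : Ok n F q) (a b : F) : (a - b) ^ q = a ^ q - b ^ q :=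
  map_sub (frob ok) a b

theorem pow_q_neg (ok : Ok n F q) (a : F) : (-a) ^ q = -a ^ q :=
  map_neg (frob ok) a

theorem pow_q_zero (ok : Ok n F q) : (0 : F) ^ q = 0 := zero_pow (q_ne_zero_of_ok ok)

theorem pow_q_div (ok : Ok n F q) (a b : F) : (a / b) ^ q = a ^ q / b ^ q := div_pow a b q

theorem pow_q_ne_zero (ok : Ok n F q) {a : F} (ha : a ≠ 0) : a ^ q ≠ 0 := pow_ne_zero q ha

theorem hJ_def (u v : Fin n → F) : hJ n F q u v = ∑ i, u i * (v (Fin.rev i)) ^ q := rfl

theorem hJ_add_left (a b y : Fin n → F) :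
    hJ n F q (a + b) y = hJ n F q a y + hJ n F q b y := by
  simp only [hJ_def, Pi.add_apply, add_mul, Finset.sum_add_distrib]

theorem hJ_add_right (ok : Ok n F q) (x a b : Fin n → F) :
    hJ n F q x (a + b) = hJ n F q x a + hJ n F q x b := by
  simp only [hJ_def, Pi.add_apply, ok.frob_add, mul_add, Finset.sum_add_distrib]

theorem hJ_smul_left (r : F) (a y : Fin n → F) : hJ n F q (r • a) y = r * hJ n F q a y := by
  simp only [hJ_def, Pi.smul_apply, smul_eq_mul, Finset.mul_sum, mul_assoc]

theorem hJ_smul_right (x : Fin n → F) (r : F) (b : Fin n → F) :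
    hJ n F q x (r • b) = r ^ q * hJ n F q x b := by
  simp only [hJ_def, Pi.smul_apply, smul_eq_mul, mul_pow, Finset.mul_sum]
  refine Finset.sum_congr rfl fun i _ => by ring

theorem hJ_single_right (ok : Ok n F q) (x : Fin n → F) (p : Fin n) (r : F) :
    hJ n F q x (Pi.single p r) = x (Fin.rev p) * r ^ q := by
  rw [hJ_def, Finset.sum_eq_single (Fin.rev p)]
  · simp
  · intro b _ hb
    have : Fin.rev b ≠ p := fun h => hb (by rw [← h, Fin.rev_rev])
    simp [this, pow_q_zero ok]
  · simp

theorem hJ_single_left (p : Fin n) (r : F) (y : Fin n → F) :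
    hJ n F q (Pi.single p r) y = r * (y (Fin.rev p)) ^ q := by
  rw [hJ_def, Finset.sum_eq_single p]
  · simp
  · intro b _ hb; simp [hb]
  · simp

theorem hJ_symm (ok : Ok n F q) (x y : Fin n → F) : hJ n F q x y = (hJ n F q y x) ^ q := by
  show hJ n F q x y = frob ok (hJ n F q y x)
  rw [hJ_def, hJ_def, map_sum, ← Equiv.sum_comp Fin.revPerm]
  refine Finset.sum_congr rfl fun i _ => ?_
  simp only [Fin.revPerm_apply, Fin.rev_rev, map_mul, frob_apply, ok.frob_frob]
  ring

/-- the Eichler map on vectors -/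
def eiVec (q : ℕ) (p : Fin n) (v : Fin n → F) (c : F) (x : Fin n → F) : Fin n → F :=
  x + x (Fin.rev p) • v + (c * x (Fin.rev p) - hJ n F q x v) • Pi.single p 1

theorem eiVec_apply (p : Fin n) (v : Fin n → F) (c : F) (x : Fin n → F) (a : Fin n) :
    eiVec q p v c x a =
      x a + x (Fin.rev p) * v a + (c * x (Fin.rev p) - hJ n F q x v) * (if a = p then 1 else 0) := by
  simp [eiVec, Pi.single_apply]

theorem hJ_eiVec (ok : Ok n F q) (p : Fin n) (hp : p ≠ Fin.rev p) (v : Fin n → F) (c : F)
    (hvr : v (Fin.rev p) = 0) (hc : c + c ^ q = - hJ n F q v v) (x y : Fin n → F) :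
    hJ n F q (eiVec q p v c x) (eiVec q p v c y) = hJ n F q x y := by
  have h1 : (Pi.single p (1 : F) : Fin n → F) (Fin.rev p) = 0 := by
    simp [hp.symm]
  have hvy : hJ n F q v y = (hJ n F q y v) ^ q := hJ_symm ok v y
  unfold eiVec
  simp only [hJ_add_left, hJ_add_right ok, hJ_smul_left, hJ_smul_right, hJ_single_right ok,
    hJ_single_left, Pi.add_apply, Pi.smul_apply, smul_eq_mul, h1, hvr, pow_q_zero ok,
    pow_q_sub ok, mul_pow, one_pow, mul_zero, zero_mul, mul_one, one_mul, add_zero, hvy]
  linear_combination (x (Fin.rev p) * (y (Fin.rev p)) ^ q) * hc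

/-- the Eichler matrix -/
def eiMat (q : ℕ) (p : Fin n) (v : Fin n → F) (c : F) : Matrix (Fin n) (Fin n) F :=
  fun a b => (1 : Matrix (Fin n) (Fin n) F) a b + v a * (if b = Fin.rev p then 1 else 0) +
    (if a = p then c * (if b = Fin.rev p then 1 else 0) - (v (Fin.rev b)) ^ q else 0)

theorem eiMat_mulVec (p : Fin n) (v : Fin n → F) (c : F) (x : Fin n → F) :
    eiMat q p v c *ᵥ x = eiVec q p v c x := by
  ext a
  rw [eiVec_apply]
  simp only [Matrix.mulVec, dotProduct, eiMat, add_mul, Finset.sum_add_distrib]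
  congr 1
  · congr 1
    · simp [Matrix.one_apply]
    · simp [mul_comm]
  · by_cases ha : a = p
    · simp only [ha, if_true, mul_one, sub_mul, Finset.sum_sub_distrib, hJ_def]
      congr 1
      · simp [mul_assoc]
      · exact Finset.sum_congr rfl fun i _ => mul_comm _ _
    · simp [ha]

theorem exists_eiElt (ok : Ok n F q) (p : Fin n) (hp : p ≠ Fin.rev p) (v : Fin n → F) (c : F)
    (hvr : v (Fin.rev p) = 0) (hc : c + c ^ q = - hJ n F q v v)
    (hdet : (eiMat q p v c).det = 1) : ∃ g : GJ n F q, mat g = eiMat q p v c :=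
  ⟨⟨⟨eiMat q p v c, hdet⟩, fun x y => by
    show hJ n F q (eiMat q p v c *ᵥ x) (eiMat q p v c *ᵥ y) = hJ n F q x y
    rw [eiMat_mulVec, eiMat_mulVec]
    exact hJ_eiVec ok p hp v c hvr hc x y⟩, rfl⟩

/-- upper triangular case: `p < rev p`, `v` supported strictly between -/
theorem eiMat_det_upper (ok : Ok n F q) (p : Fin n) (hp : p < Fin.rev p) (v : Fin n → F) (c : F)
    (hv : ∀ a, v a ≠ 0 → p < a ∧ a < Fin.rev p) : (eiMat q p v c).det = 1 := by
  have hvr : v (Fin.rev p) = 0 := by
    by_contra h
    exact absurd (hv _ h).2 (lt_irrefl _)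
  have htri : (eiMat q p v c).BlockTriangular id := by
    intro a b hab
    have hab' : b < a := hab
    have h1 : (1 : Matrix (Fin n) (Fin n) F) a b = 0 := Matrix.one_apply_ne (ne_of_gt hab')
    have h2 : v a * (if b = Fin.rev p then (1 : F) else 0) = 0 := by
      by_cases hb : b = Fin.rev p
      · by_cases hva : v a = 0
        · simp [hva]
        · exact absurd ((hv a hva).2.trans_le (le_of_eq hb.symm)) (not_lt.2 hab'.le)
      · simp [hb]
    have h3 : (if a = p then c * (if b = Fin.rev p then 1 else 0) - (v (Fin.rev b)) ^ q else 0)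
        = (0 : F) := by
      by_cases ha : a = p
      · subst ha
        have hb : b ≠ Fin.rev a := fun h => absurd (hp.trans_le (le_of_eq h.symm)) (not_lt.2 hab'.le)
        have hvb : v (Fin.rev b) = 0 := by
          by_contra h
          have := (hv _ h).2
          rw [Fin.rev_lt_rev] at this
          exact absurd this (not_lt.2 hab'.le)
        simp [hb, hvb, pow_q_zero ok]
      · simp [ha]
    simp only [eiMat, h1, h2, h3, add_zero]
  rw [Matrix.det_of_isUpperTriangular htri]
  refine Finset.prod_eq_one fun a _ => ?_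
  have h2 : v a * (if a = Fin.rev p then (1 : F) else 0) = 0 := by
    by_cases hb : a = Fin.rev p
    · rw [hb, hvr, zero_mul]
    · simp [hb]
  have h3 : (if a = p then c * (if a = Fin.rev p then 1 else 0) - (v (Fin.rev a)) ^ q else 0)
      = (0 : F) := by
    by_cases ha : a = p
    · subst ha
      simp [ne_of_lt hp, hvr, pow_q_zero ok]
    · simp [ha]
  simp only [eiMat, h2, h3, Matrix.one_apply_eq, add_zero]

/-- lower triangular case: `rev p < p`, `v` supported strictly between -/
theorem eiMat_det_lower (ok : Ok n F q) (p : Fin n) (hp : Fin.rev p < p) (v : Fin n → F) (c : F)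
    (hv : ∀ a, v a ≠ 0 → Fin.rev p < a ∧ a < p) : (eiMat q p v c).det = 1 := by
  have hvr : v (Fin.rev p) = 0 := by
    by_contra h
    exact absurd (hv _ h).1 (lt_irrefl _)
  have htri : (eiMat q p v c).BlockTriangular OrderDual.toDual := by
    intro a b hab
    have hab' : a < b := hab
    have h1 : (1 : Matrix (Fin n) (Fin n) F) a b = 0 := Matrix.one_apply_ne (ne_of_lt hab')
    have h2 : v a * (if b = Fin.rev p then (1 : F) else 0) = 0 := by
      by_cases hb : b = Fin.rev p
      · by_cases hva : v a = 0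
        · simp [hva]
        · exact absurd ((le_of_eq hb).trans_lt (hv a hva).1) (not_lt.2 hab'.le)
      · simp [hb]
    have h3 : (if a = p then c * (if b = Fin.rev p then 1 else 0) - (v (Fin.rev b)) ^ q else 0)
        = (0 : F) := by
      by_cases ha : a = p
      · subst ha
        have hb : b ≠ Fin.rev a := fun h => absurd ((le_of_eq h).trans_lt hp) (not_lt.2 hab'.le)
        have hvb : v (Fin.rev b) = 0 := by
          by_contra h
          have := (hv _ h).1
          rw [Fin.rev_lt_rev] at this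
          exact absurd this (not_lt.2 hab'.le)
        simp [hb, hvb, pow_q_zero ok]
      · simp [ha]
    simp only [eiMat, h1, h2, h3, add_zero]
  rw [Matrix.det_of_isLowerTriangular _ htri]
  refine Finset.prod_eq_one fun a _ => ?_
  have h2 : v a * (if a = Fin.rev p then (1 : F) else 0) = 0 := by
    by_cases hb : a = Fin.rev p
    · rw [hb, hvr, zero_mul]
    · simp [hb]
  have h3 : (if a = p then c * (if a = Fin.rev p then 1 else 0) - (v (Fin.rev a)) ^ q else 0)
      = (0 : F) := by
    by_cases ha : a = p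
    · subst ha
      simp [ne_of_gt hp, hvr, pow_q_zero ok]
    · simp [ha]
  simp only [eiMat, h2, h3, Matrix.one_apply_eq, add_zero]

end Cfsg.Agent.Lib.Helper68.StSU
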