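import Cfsg.Agent.Lib.Helper68.StSUEich

/-!
# K-StSU-F3Lo (keystone 254611): rank one identity, last simple root, `n` odd
-/

set_option autoImplicit false
set_option linter.unusedSectionVars false
set_option linter.unusedVariables false
set_option linter.unusedSimpArgs false

namespace Cfsg.Agent.Lib.Helper68.StSU

open Cfsg Cfsg.Agent.Lib.Helper49.StSU Matrix

variable {n : ℕ} {F : Type*} [Field F] {q : ℕ}

/-- the three central indices for `n` odd -/
def j0 (hn : 2 ≤ n) : Fin n := ⟨n / 2 - 1, by omega⟩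
def j1 (hn : 2 ≤ n) : Fin n := ⟨n / 2, by omega⟩
def j2 (hn : 2 ≤ n) (ho : n % 2 = 1) : Fin n := ⟨n / 2 + 1, by omega⟩

theorem rev_j0 (hn : 2 ≤ n) (ho : n % 2 = 1) : Fin.rev (j0 hn) = j2 hn ho := by
  apply Fin.ext; simp only [Fin.val_rev, j0, j2]; omega

theorem rev_j1 (hn : 2 ≤ n) (ho : n % 2 = 1) : Fin.rev (j1 hn) = j1 hn := by
  apply Fin.ext; simp only [Fin.val_rev, j1]; omega

theorem rev_j2 (hn : 2 ≤ n) (ho : n % 2 = 1) : Fin.rev (j2 hn ho) = j0 hn := by
  apply Fin.ext; simp only [Fin.val_rev, j0, j2]; omega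

theorem j0_ne_j1 (hn : 2 ≤ n) (ho : n % 2 = 1) : j0 hn ≠ j1 hn := by
  intro h; have := congrArg Fin.val h; simp only [j0, j1] at this; omega

theorem j0_ne_j2 (hn : 2 ≤ n) (ho : n % 2 = 1) : j0 hn ≠ j2 hn ho := by
  intro h; have := congrArg Fin.val h; simp only [j0, j2] at this; omega

theorem j1_ne_j2 (hn : 2 ≤ n) (ho : n % 2 = 1) : j1 hn ≠ j2 hn ho := by
  intro h; have := congrArg Fin.val h; simp only [j1, j2] at this; omega

theorem j0_lt_j1 (hn : 2 ≤ n) (ho : n % 2 = 1) : j0 hn < j1 hn := by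
  show (j0 hn).val < (j1 hn).val; simp only [j0, j1]; omega

theorem j1_lt_j2 (hn : 2 ≤ n) (ho : n % 2 = 1) : j1 hn < j2 hn ho := by
  show (j1 hn).val < (j2 hn ho).val; simp only [j1, j2]; omega

theorem rev_eq_j1_iff (hn : 2 ≤ n) (ho : n % 2 = 1) (b : Fin n) :
    Fin.rev b = j1 hn ↔ b = j1 hn := by
  constructor
  · intro h; rw [← Fin.rev_rev b, h, rev_j1 hn ho]
  · intro h; rw [h, rev_j1 hn ho]

/-! ### rows of the odd last reflection -/

theorem sOdd_row0 (hn : 2 ≤ n) (ho : n % 2 = 1) (y : Fin n) :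
    sOddMat n F (j0 hn) y = if y = j2 hn ho then 1 else 0 := by
  simp only [sOddMat, j0, j1, j2, Fin.ext_iff]
  split_ifs <;> first | rfl | (exfalso; omega) | (exfalso; simp only [true_and, and_true] at *; omega)

theorem sOdd_row2 (hn : 2 ≤ n) (ho : n % 2 = 1) (y : Fin n) :
    sOddMat n F (j2 hn ho) y = if y = j0 hn then 1 else 0 := by
  simp only [sOddMat, j0, j1, j2, Fin.ext_iff]
  split_ifs <;> first | rfl | (exfalso; omega) | (exfalso; simp only [true_and, and_true] at *; omega)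

theorem sOdd_row1 (hn : 2 ≤ n) (ho : n % 2 = 1) (y : Fin n) :
    sOddMat n F (j1 hn) y = if y = j1 hn then -1 else 0 := by
  simp only [sOddMat, j0, j1, j2, Fin.ext_iff]
  split_ifs <;> first | rfl | (exfalso; omega) | (exfalso; simp only [true_and, and_true] at *; omega)

theorem sOdd_row (hn : 2 ≤ n) (ho : n % 2 = 1) (a : Fin n) (h0 : a ≠ j0 hn) (h1 : a ≠ j1 hn)
    (h2 : a ≠ j2 hn ho) (y : Fin n) :
    sOddMat n F a y = if y = a then 1 else 0 := by
  have h0' : a.val ≠ n / 2 - 1 := fun h => h0 (Fin.ext h)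
  have h1' : a.val ≠ n / 2 := fun h => h1 (Fin.ext h)
  have h2' : a.val ≠ n / 2 + 1 := fun h => h2 (Fin.ext h)
  simp only [sOddMat, Fin.ext_iff]
  split_ifs <;> first | rfl | (exfalso; omega) | (exfalso; simp only [true_and, and_true] at *; omega)

theorem sOdd_mulVec (hn : 2 ≤ n) (ho : n % 2 = 1) (z : Fin n → F) (a : Fin n) :
    (sOddMat n F *ᵥ z) a =
      if a = j0 hn then z (j2 hn ho) else if a = j2 hn ho then z (j0 hn)
        else if a = j1 hn then - z (j1 hn) else z a := by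
  simp only [Matrix.mulVec, dotProduct]
  split_ifs with h0 h2 h1
  · subst h0; simp [sOdd_row0 hn ho]
  · subst h2; simp [sOdd_row2 hn ho]
  · subst h1; simp [sOdd_row1 hn ho]
  · simp [sOdd_row hn ho a h0 h1 h2]

/-! ### the structure of an element of `XL` -/

theorem mat_XL (hn : 2 ≤ n) (ho : n % 2 = 1) (x : GJ n F q) (hx : x ∈ XL n F q) :
    mat x = 1 + Matrix.single (j0 hn) (j1 hn) (mat x (j0 hn) (j1 hn)) +
      Matrix.single (j0 hn) (j2 hn ho) (mat x (j0 hn) (j2 hn ho)) +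
      Matrix.single (j1 hn) (j2 hn ho) (mat x (j1 hn) (j2 hn ho)) := by
  have e01 := j0_ne_j1 hn ho
  have e02 := j0_ne_j2 hn ho
  have e12 := j1_ne_j2 hn ho
  ext a b
  by_cases hA : n / 2 - 1 ≤ a.val ∧ a.val < b.val ∧ b.val ≤ n - n / 2
  · have : (a = j0 hn ∧ b = j1 hn) ∨ (a = j0 hn ∧ b = j2 hn ho) ∨ (a = j1 hn ∧ b = j2 hn ho) := by
      simp only [Fin.ext_iff, j0, j1, j2]; omega
    rcases this with ⟨rfl, rfl⟩ | ⟨rfl, rfl⟩ | ⟨rfl, rfl⟩
    · simp [Matrix.single_apply, Matrix.one_apply, e01, e02, e12, e01.symm, e02.symm, e12.symm]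
    · simp [Matrix.single_apply, Matrix.one_apply, e01, e02, e12, e01.symm, e02.symm, e12.symm]
    · simp [Matrix.single_apply, Matrix.one_apply, e01, e02, e12, e01.symm, e02.symm, e12.symm]
  · have h := hx a b hA
    have h01 : ¬ (j0 hn = a ∧ j1 hn = b) := by
      rintro ⟨rfl, rfl⟩; apply hA; simp only [j0, j1]; omega
    have h02 : ¬ (j0 hn = a ∧ j2 hn ho = b) := by
      rintro ⟨rfl, rfl⟩; apply hA; simp only [j0, j2]; omega
    have h12 : ¬ (j1 hn = a ∧ j2 hn ho = b) := by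
      rintro ⟨rfl, rfl⟩; apply hA; simp only [j1, j2]; omega
    rw [h]
    simp [Matrix.single_apply, h01, h02, h12]

theorem mat_XL_mulVec (hn : 2 ≤ n) (ho : n % 2 = 1) (x : GJ n F q) (hx : x ∈ XL n F q)
    (w : Fin n → F) (a : Fin n) :
    (mat x *ᵥ w) a = w a +
      (mat x (j0 hn) (j1 hn) * w (j1 hn) + mat x (j0 hn) (j2 hn ho) * w (j2 hn ho)) *
        (if a = j0 hn then 1 else 0) +
      mat x (j1 hn) (j2 hn ho) * w (j2 hn ho) * (if a = j1 hn then 1 else 0) := by
  conv_lhs => rw [mat_XL hn ho x hx]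
  simp only [Matrix.add_mulVec, Matrix.one_mulVec, Matrix.single_mulVec_eq, Pi.add_apply,
    Pi.smul_apply, smul_eq_mul, Pi.single_apply]
  ring

/-! ### the Eichler elements of the central block lie in the root sets -/

theorem eiMat_upper_entry (ok : Ok n F q) (hn : 2 ≤ n) (ho : n % 2 = 1) (τ c : F) (a b : Fin n)
    (hA : ¬ (n / 2 - 1 ≤ a.val ∧ a.val < b.val ∧ b.val ≤ n - n / 2)) :
    eiMat q (j0 hn) (Pi.single (j1 hn) τ) c a b = (1 : Matrix (Fin n) (Fin n) F) a b := by
  have r0 := rev_j0 hn ho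
  have h12 : ¬ (a = j1 hn ∧ b = j2 hn ho) := by
    rintro ⟨rfl, rfl⟩; apply hA; simp only [j1, j2]; omega
  have h02 : ¬ (a = j0 hn ∧ b = j2 hn ho) := by
    rintro ⟨rfl, rfl⟩; apply hA; simp only [j0, j2]; omega
  have h01 : ¬ (a = j0 hn ∧ b = j1 hn) := by
    rintro ⟨rfl, rfl⟩; apply hA; simp only [j0, j1]; omega
  have hz := pow_q_zero ok
  clear hA
  simp only [eiMat, r0, Pi.single_apply, rev_eq_j1_iff hn ho]
  by_cases ha0 : a = j0 hn <;> by_cases ha1 : a = j1 hn <;> by_cases hb1 : b = j1 hn <;>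
    by_cases hb2 : b = j2 hn ho <;> simp_all

theorem eiMat_lower_entry (ok : Ok n F q) (hn : 2 ≤ n) (ho : n % 2 = 1) (τ c : F) (a b : Fin n)
    (hA : ¬ (n / 2 - 1 ≤ b.val ∧ b.val < a.val ∧ a.val ≤ n - n / 2)) :
    eiMat q (j2 hn ho) (Pi.single (j1 hn) τ) c a b = (1 : Matrix (Fin n) (Fin n) F) a b := by
  have r2 := rev_j2 hn ho
  have h10 : ¬ (a = j1 hn ∧ b = j0 hn) := by
    rintro ⟨rfl, rfl⟩; apply hA; simp only [j1, j0]; omega
  have h20 : ¬ (a = j2 hn ho ∧ b = j0 hn) := by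
    rintro ⟨rfl, rfl⟩; apply hA; simp only [j0, j2]; omega
  have h21 : ¬ (a = j2 hn ho ∧ b = j1 hn) := by
    rintro ⟨rfl, rfl⟩; apply hA; simp only [j2, j1]; omega
  have hz := pow_q_zero ok
  clear hA
  simp only [eiMat, r2, Pi.single_apply, rev_eq_j1_iff hn ho]
  by_cases ha2 : a = j2 hn ho <;> by_cases ha1 : a = j1 hn <;> by_cases hb1 : b = j1 hn <;>
    by_cases hb0 : b = j0 hn <;> simp_all

/-! ### the main theorem -/

theorem rank_one_long_odd (ok : Ok n F q) (hn : 2 ≤ n) (ho : n % 2 = 1) (x : GJ n F q)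
    (hx : x ∈ XL n F q) (hx1 : x ≠ 1) :
    ∃ x' ∈ XL n F q, ∃ h ∈ Tsub n F q, ∃ y ∈ YL n F q,
      sLast n F q * x = x' * h * y := by
  have e01 := j0_ne_j1 hn ho
  have e02 := j0_ne_j2 hn ho
  have e12 := j1_ne_j2 hn ho
  have e10 := e01.symm
  have e20 := e02.symm
  have e21 := e12.symm
  have r0 := rev_j0 hn ho
  have r1 := rev_j1 hn ho
  have r2 := rev_j2 hn ho
  have hXv := mat_XL_mulVec hn ho x hx
  have hXm := mat_XL hn ho x hx
  generalize mat x (j0 hn) (j1 hn) = t at hXv hXm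
  generalize mat x (j0 hn) (j2 hn ho) = u at hXv hXm
  generalize mat x (j1 hn) (j2 hn ho) = s at hXv hXm
  -- unitarity relations
  have R1 : s ^ q + t = 0 := by
    have h := hJ_mat x (Pi.single (j1 hn) 1) (Pi.single (j2 hn ho) 1)
    rw [hXm] at h
    simp only [Matrix.add_mulVec, Matrix.one_mulVec, Matrix.single_mulVec_eq, hJ_add_left,
      hJ_smul_left, hJ_single_left, Pi.add_apply, Pi.smul_apply, Pi.single_apply, smul_eq_mul,
      r0, r1, r2] at h
    simpa [e01, e02, e12, e10, e20, e21, pow_q_zero ok] using h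
  have R2 : u ^ q + u + s * s ^ q = 0 := by
    have h := hJ_mat x (Pi.single (j2 hn ho) 1) (Pi.single (j2 hn ho) 1)
    rw [hXm] at h
    simp only [Matrix.add_mulVec, Matrix.one_mulVec, Matrix.single_mulVec_eq, hJ_add_left,
      hJ_smul_left, hJ_single_left, Pi.add_apply, Pi.smul_apply, Pi.single_apply, smul_eq_mul,
      r0, r1, r2] at h
    simpa [e01, e02, e12, e10, e20, e21, pow_q_zero ok] using h
  have hsq : s ^ q = -t := by linear_combination R1
  have hs : s = -t ^ q := by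
    have := ok.frob_frob s
    rw [hsq, pow_q_neg ok] at this
    exact this.symm
  have hu0 : u ≠ 0 := by
    rintro rfl
    apply hx1
    apply mat_injective
    rw [pow_q_zero ok, hsq] at R2
    have hst : s * t = 0 := by linear_combination -R2
    have hs0 : s = 0 := by
      rcases mul_eq_zero.1 hst with h | h
      · exact h
      · rw [hs, h, pow_q_zero ok, neg_zero]
    have ht0 : t = 0 := by
      have := hsq
      rw [hs0, pow_q_zero ok] at this
      linear_combination this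
    rw [hXm, hs0, ht0]
    simp
  obtain ⟨U, hU⟩ : ∃ U : F, U = u ^ q := ⟨_, rfl⟩
  have hU0 : U ≠ 0 := by rw [hU]; exact pow_ne_zero q hu0
  have hUq : U ^ q = u := by rw [hU]; exact ok.frob_frob u
  have hR : u + U = s * t := by
    rw [hsq, ← hU] at R2
    linear_combination R2
  -- the parameters
  have hτ1 : (-s / u) ^ q = t / U := by
    rw [div_pow, pow_q_neg ok, hsq, ← hU, neg_neg]
  have hτ2 : (s / U) ^ q = -t / u := by
    rw [div_pow, hsq, hUq]
  have hcq : (1 / u) ^ q = 1 / U := by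
    rw [div_pow, one_pow, ← hU]
  -- the upper element
  obtain ⟨x', hx'⟩ : ∃ g : GJ n F q, mat g = eiMat q (j0 hn) (Pi.single (j1 hn) (-s / u)) (1 / u) := by
    refine exists_eiElt ok (j0 hn) (by rw [r0]; exact e02) _ _ (by rw [r0]; simp [e21]) ?_
      (eiMat_det_upper ok (j0 hn) (by rw [r0]; exact (j0_lt_j1 hn ho).trans (j1_lt_j2 hn ho)) _ _ ?_)
    · rw [hJ_single_left, r1, Pi.single_eq_same, hτ1, hcq]
      field_simp
      linear_combination hR
    · intro a ha
      have : a = j1 hn := by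
        by_contra h
        exact ha (by simp [h])
      rw [this, r0]
      exact ⟨j0_lt_j1 hn ho, j1_lt_j2 hn ho⟩
  -- the lower element
  obtain ⟨y, hy⟩ : ∃ g : GJ n F q, mat g = eiMat q (j2 hn ho) (Pi.single (j1 hn) (s / U)) (1 / u) := by
    refine exists_eiElt ok (j2 hn ho) (by rw [r2]; exact e20) _ _ (by rw [r2]; simp [e01]) ?_
      (eiMat_det_lower ok (j2 hn ho) (by rw [r2]; exact (j0_lt_j1 hn ho).trans (j1_lt_j2 hn ho)) _ _ ?_)
    · rw [hJ_single_left, r1, Pi.single_eq_same, hτ2, hcq]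
      field_simp
      linear_combination hR
    · intro a ha
      have : a = j1 hn := by
        by_contra h
        exact ha (by simp [h])
      rw [this, r2]
      exact ⟨j0_lt_j1 hn ho, j1_lt_j2 hn ho⟩
  -- the diagonal part
  obtain ⟨d, hd⟩ : ∃ d : Fin n → F, d = fun a => if a = j0 hn then 1 / U else
      if a = j1 hn then U / u else if a = j2 hn ho then u else 1 := ⟨_, rfl⟩
  have hS : mat (sLast n F q) = sOddMat n F := by
    rw [ok.last hn]; unfold sLastMat; rw [if_neg (by omega)]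
  have hid : mat (sLast n F q) * mat x = mat x' * Matrix.diagonal d * mat y := by
    rw [hS, hx', hy]
    apply Matrix.ext_iff_mulVec.2
    intro w
    simp only [← Matrix.mulVec_mulVec, eiMat_mulVec]
    ext a
    rw [sOdd_mulVec hn ho]
    simp only [eiVec_apply, Matrix.mulVec_diagonal, hJ_single_right ok, r0, r1, r2,
      Pi.single_apply, hXv, hd]
    by_cases h0 : a = j0 hn
    · subst h0
      simp only [e01, e02, e12, e10, e20, e21, if_true, if_false, hτ1, hτ2]
      field_simp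
      linear_combination (-u * w (j0 hn)) * hR
    by_cases h1 : a = j1 hn
    · subst h1
      simp only [e01, e02, e12, e10, e20, e21, if_true, if_false, hτ1, hτ2]
      field_simp
      linear_combination (-u * U * w (j1 hn)) * hR
    by_cases h2 : a = j2 hn ho
    · subst h2
      simp only [e01, e02, e12, e10, e20, e21, if_true, if_false, hτ1, hτ2]
      field_simp
      ring
    · simp only [h0, h1, h2, if_false]
      ring
  -- memberships
  have hx'XL : x' ∈ XL n F q := by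
    intro a b hA
    rw [hx']
    exact eiMat_upper_entry ok hn ho _ _ a b hA
  have hyYL : y ∈ YL n F q := by
    intro a b hA
    rw [hy]
    exact eiMat_lower_entry ok hn ho _ _ a b hA
  have hmh : mat (x'⁻¹ * (sLast n F q * x) * y⁻¹) = Matrix.diagonal d := by
    simp only [mat_mul]
    rw [hid]
    calc mat x'⁻¹ * (mat x' * Matrix.diagonal d * mat y) * mat y⁻¹
        = (mat x'⁻¹ * mat x') * Matrix.diagonal d * (mat y * mat y⁻¹) := by
          simp only [Matrix.mul_assoc]
      _ = Matrix.diagonal d := by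
          rw [mat_inv_mul, mat_mul_inv, Matrix.one_mul, Matrix.mul_one]
  refine ⟨x', hx'XL, x'⁻¹ * (sLast n F q * x) * y⁻¹, ?_, y, hyYL, by group⟩
  refine (mem_Tsub_iff _).2 fun a b hab => ?_
  rw [hmh]
  exact Matrix.diagonal_apply_ne _ hab

end Cfsg.Agent.Lib.Helper68.StSU
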