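import Mathlib
import Cfsg.Agent.Lib.Helper06.SylAlt.P4
import Cfsg.Agent.Lib.Helper06.SylTwo.Defs

/-!
# K-SylTwo-B (keystone 292803, S2928, architect helper6)

A perfect nontrivial permutation group cannot commute with Klein four-groups covering all but at
most three points.
-/

set_option autoImplicit false

namespace Cfsg.Agent.Lib.Helper68.SylTwo

open Equiv Equiv.Perm
open Cfsg.Agent.Lib.Helper06.SylAlt Cfsg.Agent.Lib.Helper06.SylTwo

variable {α : Type*} [Fintype α] [DecidableEq α]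

/-- elements of the Klein four-group on `a b c d` fix every other point -/
theorem klein_apply_of_notMem {a b c d : α} {v : Perm α} (hv : v ∈ klein a b c d) {x : α}
    (hxa : x ≠ a) (hxb : x ≠ b) (hxc : x ≠ c) (hxd : x ≠ d) : v x = x := by
  have hmem : v ∈ (MulAction.stabilizer (Perm α) x) := by
    refine (Subgroup.closure_le _).2 ?_ hv
    intro g hg
    rcases hg with rfl | rfl
    · rw [SetLike.mem_coe, MulAction.mem_stabilizer_iff, Perm.smul_def, Perm.mul_apply,
        swap_apply_of_ne_of_ne hxc hxd, swap_apply_of_ne_of_ne hxa hxb]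
    · rw [SetLike.mem_coe, MulAction.mem_stabilizer_iff, Perm.smul_def, Perm.mul_apply,
        swap_apply_of_ne_of_ne hxb hxd, swap_apply_of_ne_of_ne hxa hxc]
  exact hmem

/-- the set of points moved by a Klein four-group has at most four elements -/
theorem ncard_moved_le_four {V : Subgroup (Perm α)} (hV : IsKlein V) :
    {x : α | ∃ v ∈ V, v x ≠ x}.ncard ≤ 4 := by
  obtain ⟨a, b, c, d, -, -, -, -, -, -, rfl⟩ := hV
  have hsub : {x : α | ∃ v ∈ klein a b c d, v x ≠ x} ⊆ (({a, b, c, d} : Finset α) : Set α) := by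
    intro x hx
    obtain ⟨v, hv, hvx⟩ := hx
    by_contra hnot
    simp only [Finset.coe_insert, Finset.coe_singleton, Set.mem_insert_iff,
      Set.mem_singleton_iff, not_or] at hnot
    exact hvx (klein_apply_of_notMem hv hnot.1 hnot.2.1 hnot.2.2.1 hnot.2.2.2)
  calc {x : α | ∃ v ∈ klein a b c d, v x ≠ x}.ncard
      ≤ (({a, b, c, d} : Finset α) : Set α).ncard := Set.ncard_le_ncard hsub (Finset.finite_toSet _)
    _ = ({a, b, c, d} : Finset α).card := Set.ncard_coe_finset _
    _ ≤ 4 := Finset.card_le_four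

/-- **K-SylTwo-B.** -/
theorem exists_klein_not_commute (K : Subgroup (Perm α)) (hperf : ⁅K, K⁆ = K) (hK1 : K ≠ ⊥)
    (U : Finset α) (hU : Fintype.card α ≤ U.card + 3) (𝒱 : Set (Subgroup (Perm α)))
    (h𝒱 : ∀ V ∈ 𝒱, IsKlein V) (hcov : ∀ x ∈ U, ∃ V ∈ 𝒱, ∃ v ∈ V, v x ≠ x) :
    ∃ V ∈ 𝒱, ¬ ∀ v ∈ V, ∀ k ∈ K, v * k = k * v := by
  classical
  by_contra hcon
  simp only [not_exists, not_and, not_not] at hcon
  apply hK1
  -- `K` fixes every point of `U`
  have hfixU : ∀ k ∈ K, ∀ x ∈ U, k x = x := by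
    intro k hk x hx
    obtain ⟨V, hV, v, hv, hvx⟩ := hcov x hx
    have hinv : ∀ k' ∈ K, ∀ y ∈ {y : α | ∃ v ∈ V, v y ≠ y}, k' y ∈ {y : α | ∃ v ∈ V, v y ≠ y} := by
      rintro k' hk' y ⟨w, hw, hwy⟩
      refine ⟨w, hw, ?_⟩
      have hc := hcon V hV w hw k' hk'
      have h1 : w (k' y) = k' (w y) := by
        rw [← Perm.mul_apply, hc, Perm.mul_apply]
      rw [h1]
      exact fun h => hwy (k'.injective h)
    exact fix_of_perfect_of_ncard_le_four K hperf _ hinv (ncard_moved_le_four (h𝒱 V hV)) k hk x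
      ⟨v, hv, hvx⟩
  -- `K` fixes every point outside `U`
  have hfixUc : ∀ k ∈ K, ∀ x ∈ ((Uᶜ : Finset α) : Set α), k x = x := by
    have hinv : ∀ k' ∈ K, ∀ y ∈ ((Uᶜ : Finset α) : Set α), k' y ∈ ((Uᶜ : Finset α) : Set α) := by
      intro k' hk' y hy
      rw [Finset.mem_coe, Finset.mem_compl] at hy ⊢
      intro hky
      apply hy
      have h1 : k'⁻¹ (k' y) = k' y := hfixU k'⁻¹ (K.inv_mem hk') _ hky
      have h2 : k'⁻¹ (k' y) = y := by simp
      rw [← h2, h1]
      exact hky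
    have hcard : (((Uᶜ : Finset α) : Set α)).ncard ≤ 4 := by
      rw [Set.ncard_coe_finset, Finset.card_compl]
      omega
    exact fix_of_perfect_of_ncard_le_four K hperf _ hinv hcard
  rw [eq_bot_iff]
  intro k hk
  rw [Subgroup.mem_bot]
  ext x
  rw [Perm.one_apply]
  by_cases hx : x ∈ U
  · exact hfixU k hk x hx
  · exact hfixUc k hk x (by rw [Finset.mem_coe, Finset.mem_compl]; exact hx)

end Cfsg.Agent.Lib.Helper68.SylTwo
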