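import Cfsg.Agent.Lib.Helper43.UFBasic

set_option autoImplicit false
set_option linter.unusedSimpArgs false
set_option linter.unusedVariables false
set_option linter.unusedSectionVars false

/-! S5700 pack, keystone K-UF-T1c (570011): a type I pair `(a, b)` in `M` puts every singular
`u ⊥ F[J] b` into the root set of `b`.  Here with the two steps `eich_step`, `tv_step` as
hypotheses. -/

namespace Cfsg.Agent.Lib.Helper68.UF

open Module Matrix Cfsg.Agent.Lib.Helper19 Cfsg.Agent.Lib.Helper43 Cfsg.Agent.Lib.Helper43.UF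

variable {F : Type*} [Field F] [Fintype F] {ι : Type} [Fintype ι] [DecidableEq ι]
variable {Q : QuadraticForm F (ι → F)}
variable (hQ : (QuadraticMap.polarBilin Q).Nondegenerate) (hn : 7 ≤ Fintype.card ι)

local notation "ℬ" => QuadraticMap.polarBilin Q

/-- K-UF-T1c with `eich_step` (`hE`) and `tv_step` (`hT`) as hypotheses. -/
theorem typeI_full_of (U : UData Q) (M : Subgroup ↥(Cfsg.Omega F ⇑Q))
    (hH : ∀ k : ↥(Cfsg.Omega F ⇑Q), (∀ x, lo Q k (U.J x) = U.J (lo Q k x)) → k ∈ M)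
    (h14 : 14 ≤ Fintype.card ι) (a b : ι → F) (ha0 : a ≠ 0) (ha : Q a = 0) (hb : Q b = 0)
    (hab : U.HOrth a b) (hbKa : b ∉ KL U a)
    (hE : ∀ y : ι → F, Q y = 0 → U.HOrth a y → U.HOrth b y → y ∉ KL U a ⊔ KL U b →
      y ∈ RS Q hQ hn M b ∧ U.J y ∈ RS Q hQ hn M b)
    (hT : ∀ y : ι → F, y ∈ RS Q hQ hn M b → U.J y ∈ RS Q hQ hn M b → ∀ u : ι → F, Q u = 0 →
      U.HOrth b u → ¬ U.HOrth y u → u ∈ RS Q hQ hn M b ∧ U.J u ∈ RS Q hQ hn M b)
    (u : ι → F) (hu : Q u = 0) (hbu : U.HOrth b u) : u ∈ RS Q hQ hn M b := by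
  classical
  have hba : U.HOrth b a := hab.symm
  -- step (ii): vectors not hermitian-orthogonal to `a`
  have hii : ∀ w : ι → F, Q w = 0 → U.HOrth b w → ¬ U.HOrth a w →
      w ∈ RS Q hQ hn M b ∧ U.J w ∈ RS Q hQ hn M b := by
    intro w hw hbw haw
    have hfin : finrank F ↥(KL U a ⊔ KL U b) ≤ 4 := by
      have h0 := Submodule.finrank_add_le_finrank_add_finrank (KL U a) (KL U b)
      have h1 := finrank_KL_le U a
      have h2 := finrank_KL_le U b
      omega
    obtain ⟨y₀, hy₀R, hy₀Q, hy₀S⟩ := AutOm.exists_singular_orth_finset Q hQ hn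
      ({a, U.J a, b, U.J b} : Finset (ι → F)) (KL U a ⊔ KL U b) (by
        have hc : ({a, U.J a, b, U.J b} : Finset (ι → F)).card ≤ 4 := Finset.card_le_four
        omega)
    have h1 : ℬ a y₀ = 0 := hy₀S a (by simp)
    have h2 : ℬ (U.J a) y₀ = 0 := hy₀S _ (by simp)
    have h3 : ℬ b y₀ = 0 := hy₀S b (by simp)
    have h4 : ℬ (U.J b) y₀ = 0 := hy₀S _ (by simp)
    have hay₀ : U.HOrth a y₀ := ⟨h1, h2⟩
    have hby₀ : U.HOrth b y₀ := ⟨h3, h4⟩
    by_cases hyw : U.HOrth y₀ w
    · have hyQ : Q (y₀ + a) = 0 := by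
        rw [Q_add, hy₀Q, ha, polar_symm, h1, add_zero, add_zero]
      have hay : U.HOrth a (y₀ + a) := UData.HOrth.add_right U hay₀ (U.hOrth_self a ha)
      have hby : U.HOrth b (y₀ + a) := UData.HOrth.add_right U hby₀ hba
      have hyR : y₀ + a ∉ KL U a ⊔ KL U b := by
        intro h
        apply hy₀R
        have ha' : a ∈ KL U a ⊔ KL U b :=
          Submodule.mem_sup_left (Submodule.subset_span (by simp))
        have := Submodule.sub_mem _ h ha'
        rwa [add_sub_cancel_right] at this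
      obtain ⟨hy1, hy2⟩ := hE _ hyQ hay hby hyR
      have hne : ¬ U.HOrth (y₀ + a) w := by
        intro h
        apply haw
        refine ⟨?_, ?_⟩
        · have := h.1
          rw [map_add, LinearMap.add_apply, hyw.1, zero_add] at this
          exact this
        · have := h.2
          rw [map_add, map_add, LinearMap.add_apply, hyw.2, zero_add] at this
          exact this
      exact hT _ hy1 hy2 w hw hbw hne
    · obtain ⟨hy1, hy2⟩ := hE _ hy₀Q hay₀ hby₀ hy₀R
      exact hT _ hy1 hy2 w hw hbw hyw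
  by_cases hau : U.HOrth a u
  · by_cases huR : u ∈ KL U a ⊔ KL U b
    · -- step (iii): `KL a ⊔ KL b ⊆ RS b`
      have haKb : a ∉ Submodule.span F ((({b, U.J b} : Finset (ι → F)) : Finset (ι → F)) :
          Set (ι → F)) := by
        intro h
        apply hbKa
        have h' : a ∈ KL U b := by
          unfold KL
          simpa using h
        exact mem_KL_symm U b a h' ha0
      obtain ⟨u₂, hu₂Q, hu₂S, hu₂a⟩ := exists_singular_orth_finset_one hQ hn
        ({b, U.J b} : Finset (ι → F)) (by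
          have hc : ({b, U.J b} : Finset (ι → F)).card ≤ 2 := Finset.card_le_two
          omega) a haKb
      have hbu₂ : U.HOrth b u₂ := ⟨hu₂S b (by simp), hu₂S _ (by simp)⟩
      have hau₂ : ¬ U.HOrth a u₂ := by
        intro h
        rw [h.1] at hu₂a
        exact zero_ne_one hu₂a
      obtain ⟨h1, h2⟩ := hii u₂ hu₂Q hbu₂ hau₂
      have hu₂a' : ¬ U.HOrth u₂ a := fun h => hau₂ h.symm
      obtain ⟨haR, hJaR⟩ := hT u₂ h1 h2 a ha hba hu₂a'
      have hbR : b ∈ RS Q hQ hn M b := RS_self hQ hn M b hb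
      have hJbR : U.J b ∈ RS Q hQ hn M b := by
        refine ⟨U.B_self_J b hb, fun t => ?_⟩
        exact hH (tv U hQ hn b t) (fun x => tv_comm hQ hn U b hb t x)
      obtain ⟨x, hx, z, hz, rfl⟩ := Submodule.mem_sup.1 huR
      obtain ⟨α, β, rfl⟩ := (mem_KL_iff U a x).1 hx
      obtain ⟨γ, δ, rfl⟩ := (mem_KL_iff U b z).1 hz
      exact RS_add hQ hn M b hb
        (RS_add hQ hn M b hb (RS_smul hQ hn M b haR α) (RS_smul hQ hn M b hJaR β))
        (RS_add hQ hn M b hb (RS_smul hQ hn M b hbR γ) (RS_smul hQ hn M b hJbR δ))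
    · exact (hE u hu hau hbu huR).1
  · exact (hii u hu hbu hau).1

end Cfsg.Agent.Lib.Helper68.UF
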